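import Cfsg.Agent.Lib.Spor.CentFi22.Global
import Cfsg.Agent.Lib.Spor.M24RelFix
import Cfsg.Prelude.Def_SporadicB

/-!
A group with an involution whose centraliser is a perfect double cover of Fi22 and which is not weakly
closed there is Fi23 with the conjugates of the involution as its 3-transpositions.
-/

set_option autoImplicit false
set_option maxRecDepth 100000
set_option linter.unusedSectionVars false

namespace Cfsg.Agent.Spor.CentFi22

open Cfsg.Agent.Spor.Fi23Cert
open Cfsg.Agent.Spor.Fi23Cert.Below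

universe u
variable {G : Type u} [Group G] [Finite G]

theorem exists_chart {d : G} {χ : ↥(Subgroup.centralizer ({d} : Set G)) ≃* ↥Ksub} (hs : Setup d χ)
    (hX : XK χ = insert tA Nt) : Nonempty (Chart (conjugatesOf d) d tA) := by
  refine ⟨⟨χ.trans (MulEquiv.subgroupCongr centralizer_eq.symm), fun y hy => ?_, fun y => ?_⟩⟩
  · show (χ y : F23) = tA
    rw [show y = dC d from Subtype.ext hy, chi_d hs]
  · show IsConj d (y : G) ↔ (χ y : F23) ∈ DF
    have h : IsConj d (y : G) ↔ (χ y : F23) ∈ XK χ :=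
      ⟨fun h => ⟨(χ y).2, by rw [Subtype.coe_eta, χ.symm_apply_apply]; exact h⟩,
        fun ⟨_, h⟩ => by rwa [Subtype.coe_eta, χ.symm_apply_apply] at h⟩
    rw [h, hX]
    constructor
    · rintro (e | e)
      · rw [e]; exact IsConj.refl tA
      · exact e.1
    · intro hm
      by_cases e : (χ y : F23) = tA
      · exact Or.inl e
      · exact Or.inr ⟨hm, e, (mem_K.mp (χ y).2).symm⟩

theorem main (d : G) (hd : orderOf d = 2) (hperf : commutator ↥(Subgroup.centralizer ({d} : Set G)) = ⊤)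
    [hzn : ((Subgroup.zpowers d).subgroupOf (Subgroup.centralizer ({d} : Set G))).Normal]
    (he : Cfsg.Spor.IsoFi22 ((Subgroup.centralizer ({d} : Set G)) ⧸
      (Subgroup.zpowers d).subgroupOf (Subgroup.centralizer ({d} : Set G))))
    (hnwc : ∃ g : G, g * d * g⁻¹ ∈ Subgroup.centralizer ({d} : Set G) ∧ g * d * g⁻¹ ≠ d) :
    Cfsg.IsThreeTranspositionClass (conjugatesOf d) ∧ Cfsg.IsOfTypeM23 G (conjugatesOf d) ∧
      Cfsg.Spor.IsoFi23 G := by
  obtain ⟨e⟩ := he
  set C := Subgroup.centralizer ({d} : Set G)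
  set Z := (Subgroup.zpowers d).subgroupOf C with hZ
  let q : ↥C →* Fi22Cert.pres.Grp := e.toMonoidHom.comp (QuotientGroup.mk' Z)
  have hk : q.ker = Z := by
    ext x
    rw [MonoidHom.mem_ker]
    show e (QuotientGroup.mk x) = 1 ↔ _
    rw [e.map_eq_one_iff, QuotientGroup.eq_one_iff]
  have hdC : d ∈ C := Subgroup.mem_centralizer_singleton_iff.mpr rfl
  have hcard : Nat.card q.ker = 2 := by
    rw [hk, Nat.card_congr (Subgroup.subgroupOfEquivOfLe (Subgroup.zpowers_le.mpr hdC)).toEquiv,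
      Nat.card_zpowers, hd]
  have hcen : q.ker ≤ Subgroup.center ↥C := fun z hz => by
    rw [hk, Subgroup.mem_subgroupOf] at hz
    obtain ⟨n, hn⟩ := Subgroup.mem_zpowers_iff.mp hz
    refine Subgroup.mem_center_iff.mpr fun g => Subtype.ext ?_
    have hg : Commute (g : G) d := Subgroup.mem_centralizer_singleton_iff.mp g.2
    show (g : G) * z = z * g
    rw [← hn]
    exact (hg.zpow_right n).eq
  obtain ⟨χ, -⟩ := exists_iso q (e.surjective.comp (QuotientGroup.mk'_surjective _)) hcen hcard hperf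
  have hd1 : d ≠ 1 := fun h => by rw [h, orderOf_one] at hd; omega
  have hd2 : d * d = 1 := by rw [← pow_two, ← hd, pow_orderOf_eq_one]
  obtain ⟨χ', hs, hX⟩ := exists_good_chi (d := d) (χ := χ) ⟨hd1, hd2, hnwc⟩
  obtain ⟨C'⟩ := exists_chart hs hX
  obtain ⟨E⟩ := exists_emb C' hd1
  have himg := E.image_eq
  refine ⟨⟨⟨fun y hy => ?_, fun x hx y hy => ?_⟩, ⟨d, mem_conjugatesOf_self, rfl⟩, ?_⟩,
    himg ▸ M24Rel.Fix.type23_congr E.equiv type23, ⟨E.equiv.symm⟩⟩
  · rw [← himg] at hy
    obtain ⟨p, hp, rfl⟩ := hy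
    rw [E.equiv.orderOf_eq]
    exact class_transp.1.1 p hp
  · rw [← himg] at hx hy
    obtain ⟨x, hx', rfl⟩ := hx
    obtain ⟨y, hy', rfl⟩ := hy
    rcases class_transp.1.2 x hx' y hy' with h | h
    · exact Or.inl (by rw [← map_mul, ← map_pow, h, map_one])
    · exact Or.inr (by rw [← map_mul, ← map_pow, h, map_one])
  · rw [← himg, show E.equiv '' DF = E.equiv.toMonoidHom '' DF from rfl, ← MonoidHom.map_closure, group23.2.2]
    exact Subgroup.map_top_of_surjective E.equiv.toMonoidHom E.equiv.surjective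

end Cfsg.Agent.Spor.CentFi22
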