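import Cfsg.Agent.Lib.Spor.CentFi22.PairAut

/-!
Identifications of centralisers of conjugates of an involution with centralisers of transpositions of Fi23,
and the adjustment of two of them to agree on the common part.
-/

set_option autoImplicit false
set_option maxRecDepth 100000
set_option linter.unusedSectionVars false

namespace Cfsg.Agent.Spor.CentFi22

open Cfsg.Agent.Spor.M22U (nset)
open Cfsg.Agent.Spor.Fi23Cert
open Cfsg.Agent.Spor.Fi23Cert.Below

universe u
variable {G : Type u} [Group G]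

/-- conjugation between two centralisers -/
def conjCent {H : Type*} [Group H] (g : H) {x x' : H} (h : g * x * g⁻¹ = x') :
    ↥(Subgroup.centralizer ({x} : Set H)) ≃* ↥(Subgroup.centralizer ({x'} : Set H)) where
  toFun y := ⟨g * y * g⁻¹, Subgroup.mem_centralizer_singleton_iff.mpr (by
    rw [← h]
    exact (Spor.commute_conj_iff.mpr (Subgroup.mem_centralizer_singleton_iff.mp y.2 : Commute (y : H) x)).eq)⟩
  invFun y := ⟨g⁻¹ * y * g, Subgroup.mem_centralizer_singleton_iff.mpr (by
    have hy : Commute (y : H) x' := Subgroup.mem_centralizer_singleton_iff.mp y.2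
    generalize (y : H) = v at hy ⊢
    subst h
    rw [← Spor.commute_conj_iff (g := g⁻¹)] at hy
    simpa [mul_assoc] using hy.eq)⟩
  left_inv y := Subtype.ext (by show g⁻¹ * (g * (y : H) * g⁻¹) * g = y; group)
  right_inv y := Subtype.ext (by show g * (g⁻¹ * (y : H) * g) * g⁻¹ = y; group)
  map_mul' a b := Subtype.ext (by show g * ((a : H) * b) * g⁻¹ = g * a * g⁻¹ * (g * b * g⁻¹); group)

theorem conjCent_val {H : Type*} [Group H] (g : H) {x x' : H} (h : g * x * g⁻¹ = x')
    (y : ↥(Subgroup.centralizer ({x} : Set H))) : (conjCent g h y : H) = g * y * g⁻¹ := rfl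

/-- an identification of the centraliser of a conjugate with that of a transposition -/
structure Chart (D : Set G) (x : G) (p : F23) where
  /-- the map -/
  f : ↥(Subgroup.centralizer ({x} : Set G)) ≃* ↥(Subgroup.centralizer ({p} : Set F23))
  base : ∀ y : ↥(Subgroup.centralizer ({x} : Set G)), (y : G) = x → (f y : F23) = p
  mem : ∀ y : ↥(Subgroup.centralizer ({x} : Set G)), (y : G) ∈ D ↔ (f y : F23) ∈ DF

variable {D : Set G} {x : G} {p : F23}

/-- moved in the group -/
def Chart.moveG (C : Chart D x p) (hD : ∀ g : G, ∀ y ∈ D, g * y * g⁻¹ ∈ D) (g : G) {x' : G}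
    (h : g * x * g⁻¹ = x') : Chart D x' p where
  f := (conjCent g h).symm.trans C.f
  base y hy := C.base _ (by
    show g⁻¹ * (y : G) * g = x
    rw [hy, ← h]; group)
  mem y := by
    rw [MulEquiv.trans_apply, ← C.mem]
    show _ ↔ g⁻¹ * (y : G) * g ∈ D
    constructor
    · intro hy; simpa using hD g⁻¹ _ hy
    · intro hy
      have := hD g _ hy
      rwa [show g * (g⁻¹ * (y : G) * g) * g⁻¹ = y by group] at this

/-- moved in the model -/
noncomputable def Chart.moveF (C : Chart D x p) (g : F23) {p' : F23} (h : g * p * g⁻¹ = p') : Chart D x p' where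
  f := C.f.trans (conjCent g h)
  base y hy := by rw [MulEquiv.trans_apply, conjCent_val, C.base y hy, h]
  mem y := by
    rw [MulEquiv.trans_apply, conjCent_val, C.mem]
    constructor
    · intro hy; exact group23.2.1 g _ hy
    · intro hy
      have := group23.2.1 g⁻¹ _ hy
      rwa [show g⁻¹ * (g * (C.f y : F23) * g⁻¹) * g⁻¹⁻¹ = C.f y by group] at this

/-- the element of a chart, as a function on the group -/
noncomputable def Chart.app (C : Chart D x p) (y : G) : F23 :=
  by classical exact if h : y ∈ Subgroup.centralizer ({x} : Set G) then (C.f ⟨y, h⟩ : F23) else 1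

theorem Chart.app_eq (C : Chart D x p) {y : G} (h : Commute y x) :
    C.app y = (C.f ⟨y, Subgroup.mem_centralizer_singleton_iff.mpr h.eq⟩ : F23) := by
  rw [Chart.app, dif_pos]

theorem Chart.app_comm (C : Chart D x p) {y : G} (h : Commute y x) : Commute (C.app y) p := by
  rw [C.app_eq h]; exact Subgroup.mem_centralizer_singleton_iff.mp (C.f _).2

theorem Chart.app_base (C : Chart D x p) : C.app x = p := by
  rw [C.app_eq (Commute.refl x)]; exact C.base _ rfl

theorem Chart.app_mem (C : Chart D x p) {y : G} (h : Commute y x) : y ∈ D ↔ C.app y ∈ DF := by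
  rw [C.app_eq h]; exact C.mem ⟨y, Subgroup.mem_centralizer_singleton_iff.mpr h.eq⟩

theorem Chart.app_mul (C : Chart D x p) {y z : G} (hy : Commute y x) (hz : Commute z x) :
    C.app (y * z) = C.app y * C.app z := by
  rw [C.app_eq hy, C.app_eq hz, C.app_eq (hy.mul_left hz), ← Subgroup.coe_mul, ← map_mul]
  rfl

theorem Chart.app_inj (C : Chart D x p) {y z : G} (hy : Commute y x) (hz : Commute z x)
    (h : C.app y = C.app z) : y = z := by
  rw [C.app_eq hy, C.app_eq hz] at h
  exact congrArg Subtype.val (C.f.injective (Subtype.ext h))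

theorem Chart.app_iff (C : Chart D x p) {y z : G} (hy : Commute y x) (hz : Commute z x) :
    Commute (C.app y) (C.app z) ↔ Commute y z := by
  refine ⟨fun h => C.app_inj (hy.mul_left hz) (hz.mul_left hy) ?_, fun h => ?_⟩
  · rw [C.app_mul hy hz, C.app_mul hz hy]; exact h.eq
  · show _ = _
    rw [← C.app_mul hy hz, ← C.app_mul hz hy, h.eq]

/-- the inverse, as a function on the model -/
noncomputable def Chart.inv (C : Chart D x p) (y : F23) : G :=
  by classical exact if h : y ∈ Subgroup.centralizer ({p} : Set F23) then (C.f.symm ⟨y, h⟩ : G) else 1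

theorem Chart.inv_eq (C : Chart D x p) {y : F23} (h : Commute y p) :
    C.inv y = (C.f.symm ⟨y, Subgroup.mem_centralizer_singleton_iff.mpr h.eq⟩ : G) := by
  rw [Chart.inv, dif_pos]

theorem Chart.inv_comm (C : Chart D x p) {y : F23} (h : Commute y p) : Commute (C.inv y) x := by
  rw [C.inv_eq h]; exact Subgroup.mem_centralizer_singleton_iff.mp (C.f.symm _).2

theorem Chart.app_inv (C : Chart D x p) {y : F23} (h : Commute y p) : C.app (C.inv y) = y := by
  rw [C.app_eq (C.inv_comm h)]
  have e : (⟨C.inv y, Subgroup.mem_centralizer_singleton_iff.mpr (C.inv_comm h).eq⟩ :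
      ↥(Subgroup.centralizer ({x} : Set G))) = C.f.symm ⟨y, Subgroup.mem_centralizer_singleton_iff.mpr h.eq⟩ :=
    Subtype.ext (C.inv_eq h)
  rw [e, C.f.apply_symm_apply]

theorem Chart.inv_app (C : Chart D x p) {y : G} (h : Commute y x) : C.inv (C.app y) = y :=
  C.app_inj (C.inv_comm (C.app_comm h)) h (C.app_inv (C.app_comm h))

theorem Chart.inv_base (C : Chart D x p) : C.inv p = x := by
  exact C.app_inj (C.inv_comm (Commute.refl p)) (Commute.refl x) ((C.app_inv (Commute.refl p)).trans C.app_base.symm)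

theorem Chart.inv_mul (C : Chart D x p) {y z : F23} (hy : Commute y p) (hz : Commute z p) :
    C.inv (y * z) = C.inv y * C.inv z :=
  C.app_inj (C.inv_comm (hy.mul_left hz)) ((C.inv_comm hy).mul_left (C.inv_comm hz))
    (by rw [C.app_inv (hy.mul_left hz), C.app_mul (C.inv_comm hy) (C.inv_comm hz), C.app_inv hy, C.app_inv hz])

theorem Chart.inv_mem (C : Chart D x p) {y : F23} (h : Commute y p) : C.inv y ∈ D ↔ y ∈ DF := by
  rw [C.app_mem (C.inv_comm h), C.app_inv h]

theorem Chart.inv_iff (C : Chart D x p) {y z : F23} (hy : Commute y p) (hz : Commute z p) :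
    Commute (C.inv y) (C.inv z) ↔ Commute y z := by
  rw [← C.app_iff (C.inv_comm hy) (C.inv_comm hz), C.app_inv hy, C.app_inv hz]

theorem Chart.moveF_app (C : Chart D x p) (g : F23) {p' : F23} (h : g * p * g⁻¹ = p') {y : G}
    (hy : Commute y x) : (C.moveF g h).app y = g * C.app y * g⁻¹ := by
  rw [Chart.app_eq _ hy, C.app_eq hy]; rfl

variable {d : G}

/-- the two identifications can be made to agree at the second member -/
theorem exists_agree_base (hD : ∀ g : G, ∀ y ∈ D, g * y * g⁻¹ ∈ D) (htr : ∀ y ∈ D, ∃ g : G, g * d * g⁻¹ = y)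
    (C : Chart D d tA) : ∃ E : Chart D (C.inv e0) e0,
      ∀ y : G, Commute y d → Commute y (C.inv e0) → E.app y = C.app y := by
  set o := C.inv e0 with ho
  have hec : Commute e0 tA := te_comm.symm
  have hod : Commute o d := C.inv_comm hec
  have hoD : o ∈ D := (C.inv_mem hec).mpr e0_Nt.1
  obtain ⟨g, hg⟩ := htr o hoD
  obtain ⟨h, hh⟩ := prim23.1 tA (IsConj.refl tA) e0 e0_Nt.1
  set E0 := (C.moveG hD g hg).moveF h hh with hE0
  have hdo : Commute d o := hod.symm
  set q := E0.app d with hq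
  have hqD : q ∈ DF := (E0.app_mem hdo).mp (by
    have h1 := (C.app_mem (Commute.refl d)).mpr (by rw [C.app_base]; exact IsConj.refl tA)
    exact h1)
  have hqc : Commute q e0 := E0.app_comm hdo
  have hodne : o ≠ d := fun e => e0_Nt.2.1 (by
    rw [← C.app_inv hec, ← ho, e, C.app_base])
  have hqne : q ≠ e0 := fun e => hodne (E0.app_inj (Commute.refl o) hdo (E0.app_base.trans e.symm))
  -- move it to the first member
  have pull : ∀ v : F23, v ∈ DF → v ≠ e0 → Commute v e0 → h⁻¹ * v * h ∈ Nt := fun v hv hne hc => by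
    refine ⟨by simpa using group23.2.1 h⁻¹ v hv, fun e => hne ?_, ?_⟩
    · rw [← hh, ← e]; group
    · rw [← Spor.commute_conj_iff (g := h), hh, show h * (h⁻¹ * v * h) * h⁻¹ = v by group]
      exact hc.symm
  obtain ⟨k', hk'⟩ := move1 (pull q hqD hqne hqc) (pull tA (IsConj.refl tA) (Ne.symm e0_Nt.2.1) te_comm)
  set k := h * (k' : F23) * h⁻¹ with hk
  have hke : k * e0 * k⁻¹ = e0 := by
    rw [← hh, hk]
    calc h * (k' : F23) * h⁻¹ * (h * tA * h⁻¹) * (h * (k' : F23) * h⁻¹)⁻¹
        = h * ((k' : F23) * tA * (k' : F23)⁻¹) * h⁻¹ := by group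
      _ = _ := by rw [(mem_K.mp k'.2).eq, mul_inv_cancel_right]
  set E1 := E0.moveF k hke with hE1
  have h1d : E1.app d = tA := by
    rw [hE1, Chart.moveF_app _ k hke hdo, ← hq, hk]
    calc h * (k' : F23) * h⁻¹ * q * (h * (k' : F23) * h⁻¹)⁻¹
        = h * ((k' : F23) * (h⁻¹ * q * h) * (k' : F23)⁻¹) * h⁻¹ := by group
      _ = h * (h⁻¹ * tA * h) * h⁻¹ := by rw [hk']
      _ = tA := by group
  -- the automorphism of the common part
  have cW : ∀ z : F23, z ∈ W → Commute (C.inv z) d ∧ Commute (C.inv z) o := fun z hz =>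
    ⟨C.inv_comm (mem_W.mp hz).1, (C.inv_iff (mem_W.mp hz).1 hec).mpr (mem_W.mp hz).2⟩
  have cG : ∀ y : G, Commute y o → Commute y d → E1.app y ∈ W := fun y hyo hyd =>
    mem_W.mpr ⟨h1d ▸ (E1.app_iff hyo hdo).mpr hyd, E1.app_comm hyo⟩
  have cE : ∀ z : F23, z ∈ W → Commute (E1.inv z) o ∧ Commute (E1.inv z) d := fun z hz => by
    refine ⟨E1.inv_comm (mem_W.mp hz).2, ?_⟩
    rw [← E1.app_iff (E1.inv_comm (mem_W.mp hz).2) hdo, E1.app_inv (mem_W.mp hz).2, h1d]
    exact (mem_W.mp hz).1
  have cC : ∀ y : G, Commute y d → Commute y o → C.app y ∈ W := fun y hyd hyo =>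
    mem_W.mpr ⟨C.app_comm hyd, by
      have := (C.app_iff hyd hod).mpr hyo
      rwa [ho, C.app_inv hec] at this⟩
  let β : ↥W ≃* ↥W :=
    { toFun := fun z => ⟨E1.app (C.inv z), cG _ (cW z z.2).2 (cW z z.2).1⟩
      invFun := fun z => ⟨C.app (E1.inv z), cC _ (cE z z.2).2 (cE z z.2).1⟩
      left_inv := fun z => Subtype.ext (by
        show C.app (E1.inv (E1.app (C.inv z))) = z
        rw [E1.inv_app (cW z z.2).2, C.app_inv (mem_W.mp z.2).1])
      right_inv := fun z => Subtype.ext (by
        show E1.app (C.inv (C.app (E1.inv z))) = z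
        rw [C.inv_app (cE z z.2).2, E1.app_inv (mem_W.mp z.2).2])
      map_mul' := fun a b => Subtype.ext (by
        show E1.app (C.inv ((a : F23) * b)) = E1.app (C.inv a) * E1.app (C.inv b)
        rw [C.inv_mul (mem_W.mp a.2).1 (mem_W.mp b.2).1, E1.app_mul (cW a a.2).2 (cW b b.2).2]) }
  have hβt : β tW = tW := Subtype.ext (by show E1.app (C.inv tA) = tA; rw [C.inv_base, h1d])
  have hβe : β eW = eW := Subtype.ext (by show E1.app (C.inv e0) = e0; rw [← ho, E1.app_base])
  have hP : Pres β := pres_of_mem fun i hi => by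
    show E1.app (C.inv (m i)) ∈ S2
    have hm := m_mem hi
    have hmW := S2_W hm
    obtain ⟨c1, c2⟩ := cW _ hmW
    have hD' : E1.app (C.inv (m i)) ∈ DF := (E1.app_mem c2).mp ((C.inv_mem (mem_W.mp hmW).1).mpr hm.1.1)
    have hW := cG _ c2 c1
    refine ⟨⟨hD', fun e => hm.1.2.1 ?_, (mem_W.mp hW).1.symm⟩, hD', fun e => hm.2.2.1 ?_, (mem_W.mp hW).2.symm⟩
    · rw [← C.app_inv (mem_W.mp hmW).1, E1.app_inj c2 hdo (e.trans h1d.symm), C.app_base]
    · rw [← C.app_inv (mem_W.mp hmW).1, E1.app_inj c2 (Commute.refl o) (e.trans E1.app_base.symm), ho,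
        C.app_inv hec]
  obtain ⟨u, hu⟩ := rigid hP hβt hβe
  have hue : (u : F23)⁻¹ * e0 * (u : F23)⁻¹⁻¹ = e0 := by
    rw [((mem_W.mp u.2).2.inv_left).eq, mul_inv_cancel_right]
  refine ⟨E1.moveF (u : F23)⁻¹ hue, fun y hyd hyo => ?_⟩
  have e : E1.app y = (u : F23) * C.app y * (u : F23)⁻¹ := by
    have := congrArg Subtype.val (hu ⟨C.app y, cC y hyd hyo⟩)
    change E1.app (C.inv (C.app y)) = _ at this
    rwa [C.inv_app hyd] at this
  rw [Chart.moveF_app _ _ hue hyo, e]
  group

/-- the two identifications can be made to agree at any member -/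
theorem exists_agree (hD : ∀ g : G, ∀ y ∈ D, g * y * g⁻¹ ∈ D) (htr : ∀ y ∈ D, ∃ g : G, g * d * g⁻¹ = y)
    (C : Chart D d tA) {p : F23} (hp : p ∈ Nt) : ∃ E : Chart D (C.inv p) p,
      ∀ y : G, Commute y d → Commute y (C.inv p) → E.app y = C.app y := by
  obtain ⟨k, hk⟩ := move1 hp e0_Nt
  have hkt : (k : F23) * tA * (k : F23)⁻¹ = tA := by rw [(mem_K.mp k.2).eq, mul_inv_cancel_right]
  set C' := C.moveF (k : F23) hkt with hC'
  have hpt : Commute p tA := hp.2.2.symm
  have ho : C'.inv e0 = C.inv p := by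
    refine C'.app_inj (C'.inv_comm te_comm.symm) (C.inv_comm hpt) ?_
    rw [C'.app_inv te_comm.symm, hC', Chart.moveF_app _ _ hkt (C.inv_comm hpt), C.app_inv hpt, hk]
  have hkp : (k : F23)⁻¹ * e0 * (k : F23)⁻¹⁻¹ = p := by rw [← hk]; group
  obtain ⟨E', hE'⟩ : ∃ E : Chart D (C.inv p) e0,
      ∀ y : G, Commute y d → Commute y (C.inv p) → E.app y = C'.app y := by
    rw [← ho]; exact exists_agree_base hD htr C'
  refine ⟨E'.moveF (k : F23)⁻¹ hkp, fun y hyd hyp => ?_⟩
  rw [Chart.moveF_app _ _ hkp hyp, hE' y hyd hyp, hC', Chart.moveF_app _ _ hkt hyd]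
  group

end Cfsg.Agent.Spor.CentFi22
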