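import Cfsg.Agent.Lib.Spor.CentFi22.SylA

/-!
Unions of classes in the subgroup of order 2048 with a constant pair count.
-/

set_option autoImplicit false
set_option maxRecDepth 100000
set_option linter.unusedSectionVars false

namespace Cfsg.Agent.Spor.CentFi22.Combo

/-- the number with the bits of a list -/
def maskOf (l : List ℕ) : ℕ := l.foldr (fun c m => Nat.lor (Nat.shiftLeft 1 c) m) 0

theorem mask_iff (l : List ℕ) (c : ℕ) : Nat.testBit (maskOf l) c = true ↔ c ∈ l := by
  induction l with
  | nil => simp [maskOf]
  | cons a l ih =>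
    show Nat.testBit (Nat.lor (Nat.shiftLeft 1 a) (maskOf l)) c = true ↔ _
    rw [show Nat.lor (Nat.shiftLeft 1 a) (maskOf l) = (2 ^ a) ||| maskOf l by
      rw [show Nat.shiftLeft 1 a = 1 <<< a from rfl, Nat.one_shiftLeft]; rfl]
    rw [Nat.testBit_or, Bool.or_eq_true, ih, Nat.testBit_two_pow, decide_eq_true_iff, List.mem_cons, eq_comm]

/-- index pairs -/
def prs : List (ℕ × ℕ) := (List.range 22).flatMap fun i => (List.range i).map fun j => (j, i)

/-- index triples -/
def trs : List (ℕ × ℕ × ℕ) := prs.flatMap fun p => (List.range p.1).map fun k => (k, p.1, p.2)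

/-- codes of the members -/
def lE : List ℕ := (List.range 22).map ce

/-- codes of their products with the first member -/
def lTE : List ℕ := (List.range 22).map fun i => Nat.xor 1024 (ce i)

/-- codes of the pairs -/
def lEE : List ℕ := prs.map fun p => Nat.xor (ce p.1) (ce p.2)

/-- codes of their products with the first member -/
def lTEE : List ℕ := prs.map fun p => Nat.xor 1024 (Nat.xor (ce p.1) (ce p.2))

/-- codes of the triples -/
def lEEE : List ℕ := trs.map fun p => Nat.xor (Nat.xor (ce p.1) (ce p.2.1)) (ce p.2.2)

/-- a union of classes -/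
def sel (a b c e : Bool) : List ℕ :=
  1024 :: ((bif a then lE else []) ++ (bif b then lTE else []) ++ (bif c then lTEE else []) ++
    (bif e then lEEE else []))

/-- the pairs with one product -/
noncomputable def cnt (m x : ℕ) : ℕ :=
  ((List.range 2048).filter fun y => Nat.testBit m y && Nat.testBit m (Nat.xor x y)).length

/-- the representatives -/
def reps (a b c e : Bool) : List ℕ :=
  (bif a then [ce 0] else []) ++ (bif b then [Nat.xor 1024 (ce 0)] else []) ++
    (bif c then [Nat.xor 1024 (Nat.xor (ce 0) (ce 1))] else []) ++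
    (bif e then [Nat.xor (Nat.xor (ce 0) (ce 1)) (ce 2)] else [])

/-- some representative has another count than the first member -/
noncomputable def bad (a b c e : Bool) : Bool :=
  (reps a b c e).any fun r => !(Nat.beq (cnt (maskOf (sel a b c e)) r) (cnt (maskOf (sel a b c e)) 1024))

theorem bad1 : bad true true false false = true ∧ bad false false true false = true ∧
    bad true false true false = true ∧ bad false true true false = true ∧
    bad true true true false = true := by decide +kernel

theorem bad2 : bad false false false true = true ∧ bad true false false true = true ∧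
    bad false true false true = true ∧ bad true true false true = true := by decide +kernel

theorem bad3 : bad false false true true = true ∧ bad true false true true = true ∧
    bad false true true true = true ∧ bad true true true true = true := by decide +kernel

theorem combos {a b c e : Bool} (hne : (a || b || c || e) = true) (h : bad a b c e = false) :
    (a = true ∧ b = false ∧ c = false ∧ e = false) ∨ (a = false ∧ b = true ∧ c = false ∧ e = false) := by
  obtain ⟨p1, p2, p3, p4, p5⟩ := bad1
  obtain ⟨q1, q2, q3, q4⟩ := bad2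
  obtain ⟨r1, r2, r3, r4⟩ := bad3
  cases a <;> cases b <;> cases c <;> cases e <;> simp_all

/-- every nontrivial code other than that of the first member is in one class -/
noncomputable def covOK (m c : ℕ) : Bool := Nat.beq c 0 || Nat.beq c 1024 || Nat.testBit m c

theorem cov : (List.range 2048).all (covOK (maskOf (lE ++ lTE ++ lEE ++ lTEE ++ lEEE))) = true := by
  decide +kernel

theorem cover {c : ℕ} (hc : c < 2048) :
    c = 0 ∨ c = 1024 ∨ c ∈ lE ∨ c ∈ lTE ∨ c ∈ lEE ∨ c ∈ lTEE ∨ c ∈ lEEE := by
  have h := List.all_eq_true.mp cov c (List.mem_range.mpr hc)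
  simp only [covOK, Bool.or_eq_true, mask_iff, List.mem_append] at h
  rcases h with (h | h) | ((((h | h) | h) | h) | h)
  exacts [Or.inl (Nat.eq_of_beq_eq_true h), Or.inr (Or.inl (Nat.eq_of_beq_eq_true h)), Or.inr (Or.inr (Or.inl h)),
    Or.inr (Or.inr (Or.inr (Or.inl h))), Or.inr (Or.inr (Or.inr (Or.inr (Or.inl h)))),
    Or.inr (Or.inr (Or.inr (Or.inr (Or.inr (Or.inl h))))), Or.inr (Or.inr (Or.inr (Or.inr (Or.inr (Or.inr h)))))]

theorem prs_mem {p : ℕ × ℕ} (h : p ∈ prs) : p.1 < p.2 ∧ p.2 < 22 := by
  simp only [prs, List.mem_flatMap, List.mem_map, List.mem_range] at h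
  obtain ⟨i, hi, j, hj, rfl⟩ := h
  exact ⟨hj, hi⟩

theorem trs_mem {p : ℕ × ℕ × ℕ} (h : p ∈ trs) : p.1 < p.2.1 ∧ p.2.1 < p.2.2 ∧ p.2.2 < 22 := by
  simp only [trs, List.mem_flatMap, List.mem_map, List.mem_range] at h
  obtain ⟨q, hq, k, hk, rfl⟩ := h
  exact ⟨hk, prs_mem hq⟩

end Cfsg.Agent.Spor.CentFi22.Combo
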