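import Cfsg.Agent.Lib.Spor.CentFi22.Model
import Cfsg.Agent.Lib.Spor.Fi22SixMain

/-!
A perfect double cover of Fi22 is the centraliser of a transposition of Fi23.
-/

set_option autoImplicit false
set_option maxRecDepth 100000
set_option linter.unusedSectionVars false

namespace Cfsg.Agent.Spor.CentFi22

open Cfsg.Agent.Spor.Fi23Cert
open Cfsg.Agent.Spor.Fi23Cert.Below

theorem onto_ker {C : Type} [Group C] [Finite C] (q : C →* Fi22Cert.pres.Grp) (hq : Function.Surjective q)
    (hcen : q.ker ≤ Subgroup.center C) (hker : Nat.card q.ker = 2) (hperf : commutator C = ⊤) :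
    ∃ φ : Fi22SixCert.pres.Grp →* C, Function.Surjective φ ∧ q.comp φ = Fi22SixCert.toFi ∧
      ∀ k, φ k = 1 ↔ Fi22SixCert.toFi k = 1 ∧ k ^ 3 = 1 := by
  haveI := Fi22SixCert.card_le.1
  obtain ⟨φ, hφ, hqφ⟩ := Fi22SixCert.exists_onto (π := q) ⟨hq, hcen, fun _ _ => hperf ▸ Subgroup.mem_top _⟩
  refine ⟨φ, hφ, hqφ, fun k => ?_⟩
  have h2 : ∀ c : C, q c = 1 → c ^ 2 = 1 := fun c hc => by
    have h := pow_card_eq_one' (x := (⟨c, hc⟩ : q.ker))
    rw [hker] at h
    exact congrArg Subtype.val h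
  have h3 : Nat.card φ.ker = 3 := by
    have e1 := Subgroup.card_mul_index φ.ker
    have e2 := Subgroup.card_mul_index q.ker
    have e3 := Subgroup.card_mul_index Fi22SixCert.toFi.ker
    rw [Subgroup.index_ker, MonoidHom.range_eq_top.mpr hφ, Nat.card_congr Subgroup.topEquiv.toEquiv] at e1
    rw [Subgroup.index_ker, MonoidHom.range_eq_top.mpr hq, Nat.card_congr Subgroup.topEquiv.toEquiv, hker,
      Fi22Cert.order.2.1] at e2
    rw [Subgroup.index_ker, MonoidHom.range_eq_top.mpr Fi22SixCert.toFi_surj,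
      Nat.card_congr Subgroup.topEquiv.toEquiv, Fi22SixCert.kernel_card, Fi22Cert.order.2.1] at e3
    rw [← e3, ← e2] at e1
    exact Nat.eq_of_mul_eq_mul_right (m := 2 * 64561751654400) (by norm_num) (e1.trans (by norm_num))
  constructor
  · intro hk
    refine ⟨by rw [← hqφ]; show q (φ k) = 1; rw [hk, map_one], ?_⟩
    have h := pow_card_eq_one' (x := (⟨k, hk⟩ : φ.ker))
    rw [h3] at h
    exact congrArg Subtype.val h
  · rintro ⟨hk, hk3⟩
    have e2 : φ k ^ 2 = 1 := h2 _ (by rw [← MonoidHom.comp_apply, hqφ, hk])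
    have e3 : φ k ^ 3 = 1 := by rw [← map_pow, hk3, map_one]
    rwa [pow_succ, e2, one_mul] at e3

theorem exists_iso_zero {C : Type} [Group C] [Finite C] (q : C →* Fi22Cert.pres.Grp) (hq : Function.Surjective q)
    (hcen : q.ker ≤ Subgroup.center C) (hker : Nat.card q.ker = 2) (hperf : commutator C = ⊤) :
    ∃ χ : C ≃* ↥Ksub, ∀ c, toFi22 (χ c) = q c := by
  haveI := card_Ksub.1
  obtain ⟨φ, hφ, hqφ, hk⟩ := onto_ker q hq hcen hker hperf
  obtain ⟨ψ, hψ, hqψ, hk'⟩ := onto_ker toFi22 toFi22_surjective center_eq.ge ker_card Fi23Cert.Mult.ksub_perfect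
  have hkk : φ.ker = ψ.ker := by
    ext k
    rw [MonoidHom.mem_ker, MonoidHom.mem_ker, hk, hk']
  let χ : C ≃* ↥Ksub := (QuotientGroup.quotientKerEquivOfSurjective φ hφ).symm.trans
    ((QuotientGroup.quotientMulEquivOfEq hkk).trans (QuotientGroup.quotientKerEquivOfSurjective ψ hψ))
  refine ⟨χ, fun c => ?_⟩
  obtain ⟨k, rfl⟩ := hφ c
  have e : χ (φ k) = ψ k := by
    show QuotientGroup.quotientKerEquivOfSurjective ψ hψ (QuotientGroup.quotientMulEquivOfEq hkk
      ((QuotientGroup.quotientKerEquivOfSurjective φ hφ).symm (φ k))) = _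
    rw [show (QuotientGroup.quotientKerEquivOfSurjective φ hφ).symm (φ k) = QuotientGroup.mk k from
      (MulEquiv.symm_apply_eq _).mpr rfl]
    rfl
  rw [e, ← MonoidHom.comp_apply, hqψ, ← MonoidHom.comp_apply, hqφ]

universe u

/-- every perfect double cover of Fi22 is the centraliser of a transposition of Fi23 -/
theorem exists_iso {C : Type u} [Group C] [Finite C] (q : C →* Fi22Cert.pres.Grp) (hq : Function.Surjective q)
    (hcen : q.ker ≤ Subgroup.center C) (hker : Nat.card q.ker = 2) (hperf : commutator C = ⊤) :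
    ∃ χ : C ≃* ↥Ksub, ∀ c, toFi22 (χ c) = q c := by
  let s : Shrink.{0} C ≃* C := Shrink.mulEquiv
  haveI : Finite (Shrink.{0} C) := Finite.of_equiv C s.symm.toEquiv
  have hk : (q.comp s.toMonoidHom).ker = q.ker.map s.symm.toMonoidHom := by
    ext x
    rw [MonoidHom.mem_ker, Subgroup.mem_map]
    constructor
    · intro h; exact ⟨s x, h, s.symm_apply_apply x⟩
    · rintro ⟨y, hy, rfl⟩
      show q (s (s.symm y)) = 1
      rwa [s.apply_symm_apply]
  obtain ⟨χ, hχ⟩ := exists_iso_zero (q.comp s.toMonoidHom) (hq.comp s.surjective)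
    (fun x hx => Subgroup.mem_center_iff.mpr fun y => s.injective (by
      rw [map_mul, map_mul, Subgroup.mem_center_iff.mp (hcen (show s x ∈ q.ker from hx))]))
    (by rw [hk, Nat.card_congr (Subgroup.equivMapOfInjective _ _ s.symm.injective).toEquiv.symm, hker])
    (by
      have h := Subgroup.map_commutator (⊤ : Subgroup C) ⊤ s.symm.toMonoidHom
      rw [← commutator_def, hperf, Subgroup.map_top_of_surjective _ s.symm.surjective] at h
      rw [commutator_def]; exact h.symm)
  exact ⟨s.symm.trans χ, fun c => by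
    rw [MulEquiv.trans_apply, hχ]; show q (s (s.symm c)) = q c; rw [s.apply_symm_apply]⟩

/-- an automorphism of the centraliser over an automorphism of Fi22 -/
theorem exists_lift_aut (a : Fi22Cert.pres.Grp ≃* Fi22Cert.pres.Grp) :
    ∃ β : ↥Ksub ≃* ↥Ksub, ∀ x, toFi22 (β x) = a (toFi22 x) := by
  haveI := card_Ksub.1
  have hk : (a.toMonoidHom.comp toFi22).ker = toFi22.ker := by
    ext x
    exact a.map_eq_one_iff
  obtain ⟨χ, hχ⟩ := exists_iso (a.toMonoidHom.comp toFi22) (a.surjective.comp toFi22_surjective)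
    (hk ▸ center_eq.ge) (hk ▸ ker_card) Fi23Cert.Mult.ksub_perfect
  exact ⟨χ, hχ⟩

end Cfsg.Agent.Spor.CentFi22
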