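import Cfsg.Agent.Lib.Spor.CentFi22.Kinds
import Cfsg.Agent.Lib.Spor.CentFi22.Combo

/-!
An involution whose centraliser is the centraliser of a transposition of Fi23: its conjugates in the
centraliser are the members, or the products of the members with it.
-/

set_option autoImplicit false
set_option maxRecDepth 100000
set_option linter.unusedSectionVars false

namespace Cfsg.Agent.Spor.CentFi22

open Cfsg.Agent.Spor.Fi23Cert
open Cfsg.Agent.Spor.Fi23Cert.Below
open TSULift (Elem ConjTo)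

variable {G : Type*} [Group G] [Finite G] {d : G}

/-- the hypotheses on the identification of the centraliser -/
structure Setup (d : G) (χ : ↥(Subgroup.centralizer ({d} : Set G)) ≃* ↥Ksub) : Prop where
  ne : d ≠ 1
  sq : d * d = 1
  nwc : ∃ g : G, g * d * g⁻¹ ∈ Subgroup.centralizer ({d} : Set G) ∧ g * d * g⁻¹ ≠ d

variable {χ : ↥(Subgroup.centralizer ({d} : Set G)) ≃* ↥Ksub}

/-- the involution inside its centraliser -/
def dC (d : G) : ↥(Subgroup.centralizer ({d} : Set G)) := ⟨d, Subgroup.mem_centralizer_singleton_iff.mpr rfl⟩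

theorem chi_d (hs : Setup d χ) : χ (dC d) = ⟨tA, tA_mem⟩ := by
  have hc : χ (dC d) ∈ Subgroup.center ↥Ksub := Subgroup.mem_center_iff.mpr fun y => by
    obtain ⟨v, rfl⟩ := χ.surjective y
    rw [← map_mul, ← map_mul]
    exact congrArg χ (Subtype.ext (Subgroup.mem_centralizer_singleton_iff.mp v.2))
  rw [center_eq] at hc
  rcases ker_cases hc with e | e
  · exfalso
    have h : χ (dC d) = 1 := Subtype.ext e
    rw [χ.map_eq_one_iff] at h
    exact hs.ne (congrArg Subtype.val h)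
  · exact Subtype.ext e

theorem chi_symm_t (hs : Setup d χ) : (χ.symm ⟨tA, tA_mem⟩ : G) = d := by
  rw [← chi_d hs, χ.symm_apply_apply]; rfl

/-- the images of the conjugates -/
def XK (χ : ↥(Subgroup.centralizer ({d} : Set G)) ≃* ↥Ksub) : Set F23 :=
  {x | ∃ h : x ∈ Ksub, IsConj d (χ.symm ⟨x, h⟩ : G)}

theorem t_XK (hs : Setup d χ) : tA ∈ XK χ := ⟨tA_mem, by rw [chi_symm_t hs]⟩

theorem XK_conj {x y : F23} (hx : x ∈ XK χ) (h : KConj x y) : y ∈ XK χ := by
  obtain ⟨hxK, hx⟩ := hx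
  obtain ⟨k, rfl⟩ := h
  refine ⟨mul_mem (mul_mem k.2 hxK) (inv_mem k.2), hx.trans (isConj_iff.mpr ⟨(χ.symm k : G), ?_⟩)⟩
  rw [show (⟨(k : F23) * x * (k : F23)⁻¹, mul_mem (mul_mem k.2 hxK) (inv_mem k.2)⟩ : ↥Ksub) =
    k * ⟨x, hxK⟩ * k⁻¹ from rfl, map_mul, map_mul, map_inv, Subgroup.coe_mul, Subgroup.coe_mul, Subgroup.coe_inv]

theorem one_XK (hs : Setup d χ) : (1 : F23) ∉ XK χ := fun ⟨h, hc⟩ => by
  rw [show (⟨(1 : F23), h⟩ : ↥Ksub) = 1 from rfl, map_one] at hc
  obtain ⟨g, hg⟩ := isConj_iff.mp hc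
  exact hs.ne (by rwa [Subgroup.coe_one, conj_eq_one_iff] at hg)

theorem not_root (hs : Setup d χ) {x : F23} (hx : x ∈ XK χ) (r : ↥Ksub) : (r : F23) * r ≠ x := by
  intro e
  obtain ⟨hxK, hx⟩ := hx
  obtain ⟨g, hg⟩ := isConj_iff.mp hx
  set y := χ.symm r
  have hy : (y : G) * y = g * d * g⁻¹ := by
    rw [hg, ← Subgroup.coe_mul, ← map_mul, show r * r = ⟨x, hxK⟩ from Subtype.ext e]
  have hy' : g⁻¹ * (y : G) * g ∈ Subgroup.centralizer ({d} : Set G) := Subgroup.mem_centralizer_singleton_iff.mpr (by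
    calc g⁻¹ * (y : G) * g * d = g⁻¹ * ((y : G) * (g * d * g⁻¹)) * g := by group
      _ = g⁻¹ * ((g * d * g⁻¹) * (y : G)) * g := by rw [← hy]; group
      _ = d * (g⁻¹ * (y : G) * g) := by group)
  refine t_no_root (χ ⟨_, hy'⟩) ?_
  rw [← Subgroup.coe_mul, ← map_mul, show (⟨_, hy'⟩ : ↥(Subgroup.centralizer ({d} : Set G))) * ⟨_, hy'⟩ = dC d from
    Subtype.ext (by
      show g⁻¹ * (y : G) * g * (g⁻¹ * (y : G) * g) = d
      calc g⁻¹ * (y : G) * g * (g⁻¹ * (y : G) * g) = g⁻¹ * ((y : G) * y) * g := by group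
        _ = d := by rw [hy]; group), chi_d hs]

theorem no_pair (hs : Setup d χ) {x : F23} (h : IsPair x) : x ∉ XK χ := fun hx => by
  obtain ⟨r, hr⟩ := pair_root h
  exact not_root hs hx r hr

/-- the subgroup of order 2048 in the group -/
noncomputable def AG (χ : ↥(Subgroup.centralizer ({d} : Set G)) ≃* ↥Ksub) : Subgroup G :=
  (AK.map χ.symm.toMonoidHom).map (Subgroup.centralizer ({d} : Set G)).subtype

/-- the element of a code in the group -/
noncomputable def cG (χ : ↥(Subgroup.centralizer ({d} : Set G)) ≃* ↥Ksub) (c : ℕ) : G :=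
  (χ.symm ⟨eA c, eA_K c⟩ : G)

theorem mem_AG {x : G} : x ∈ AG χ ↔ ∃ c < 2048, x = cG χ c := by
  constructor
  · rintro ⟨_, ⟨k, ⟨c, hc, hk⟩, rfl⟩, rfl⟩
    refine ⟨c, hc, ?_⟩
    rw [show k = ⟨eA c, eA_K c⟩ from Subtype.ext hk]
    rfl
  · rintro ⟨c, hc, rfl⟩
    exact ⟨_, ⟨_, mem_AK hc, rfl⟩, rfl⟩

theorem cG_mul (c e : ℕ) : cG χ c * cG χ e = cG χ (Nat.xor c e) := by
  rw [cG, cG, cG, ← Subgroup.coe_mul, ← map_mul]
  congr 2
  exact Subtype.ext (eA_mul c e)

theorem cG_inj {c e : ℕ} (hc : c < 2048) (he : e < 2048) (h : cG χ c = cG χ e) : c = e :=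
  eA_inj hc he (congrArg Subtype.val (χ.symm.injective (Subtype.ext h)))

theorem elem_AG : Elem (AG χ) 2048 :=
  (elem_AK.map _ χ.symm.injective).map _ Subtype.val_injective

theorem xk_code {c : ℕ} : eA c ∈ XK χ ↔ IsConj d (cG χ c) :=
  ⟨fun ⟨_, h⟩ => h, fun h => ⟨eA_K c, h⟩⟩

theorem cG_t (hs : Setup d χ) : cG χ 1024 = d := by
  rw [cG, show (⟨eA 1024, eA_K 1024⟩ : ↥Ksub) = ⟨tA, tA_mem⟩ from Subtype.ext t_code.symm, chi_symm_t hs]

/-- the normaliser moves the involution to every conjugate in the subgroup -/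
theorem move_d (hs : Setup d χ) {x : G} (hxB : x ∈ AG χ) (hx : IsConj d x) :
    ∃ n : G, (∀ a ∈ AG χ, n * a * n⁻¹ ∈ AG χ ∧ n⁻¹ * a * n ∈ AG χ) ∧ n * d * n⁻¹ = x := by
  classical
  obtain ⟨g, hg⟩ := isConj_iff.mp hx
  set B' := (AG χ).map (MulAut.conj g⁻¹).toMonoidHom
  have hB' : Elem B' 2048 := (elem_AG (χ := χ)).map _ (MulAut.conj g⁻¹).injective
  have hle : B' ≤ Subgroup.centralizer ({d} : Set G) := by
    rintro _ ⟨a, ha, rfl⟩
    rw [Subgroup.mem_centralizer_singleton_iff]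
    show g⁻¹ * a * g⁻¹⁻¹ * d = d * (g⁻¹ * a * g⁻¹⁻¹)
    calc g⁻¹ * a * g⁻¹⁻¹ * d = g⁻¹ * (a * (g * d * g⁻¹)) * g := by group
      _ = g⁻¹ * ((g * d * g⁻¹) * a) * g := by rw [hg, ((elem_AG (χ := χ)).comm ha hxB).eq]
      _ = d * (g⁻¹ * a * g⁻¹⁻¹) := by group
  have hsub : Elem ((B'.subgroupOf (Subgroup.centralizer ({d} : Set G))).map χ.toMonoidHom) 2048 :=
    (show Elem (B'.subgroupOf (Subgroup.centralizer ({d} : Set G))) 2048 from ⟨fun v hv => Subtype.ext (hB'.1 _ hv), by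
      rw [Nat.card_congr (Subgroup.subgroupOfEquivOfLe hle).toEquiv]; exact hB'.2⟩).map _ χ.injective
  obtain ⟨k, hk⟩ := conjTo_AK _ hsub
  set h : G := (χ.symm k : G) with hh
  have hhd : h * d = d * h := Subgroup.mem_centralizer_singleton_iff.mp (χ.symm k).2
  refine ⟨g * h⁻¹, ?_, ?_⟩
  · have hin : ∀ a ∈ AG χ, h * (g⁻¹ * a * g) * h⁻¹ ∈ AG χ := by
      intro a ha
      have ha' : g⁻¹ * a * g ∈ B' := ⟨a, ha, show g⁻¹ * a * g⁻¹⁻¹ = _ by rw [inv_inv]⟩
      have hm : k * χ ⟨_, hle ha'⟩ * k⁻¹ ∈ AK := by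
        rw [← hk]; exact ⟨_, ⟨⟨_, hle ha'⟩, ha', rfl⟩, rfl⟩
      refine ⟨_, ⟨_, hm, rfl⟩, ?_⟩
      simp only [MulEquiv.coe_toMonoidHom, map_mul, map_inv, χ.symm_apply_apply, Subgroup.coe_subtype]
      rfl
    have hbij : ∀ a ∈ AG χ, ∃ b ∈ AG χ, h * (g⁻¹ * b * g) * h⁻¹ = a := by
      let f : ↥(AG χ) → ↥(AG χ) := fun a => ⟨_, hin a a.2⟩
      have hf : Function.Injective f := fun a b e => Subtype.ext
        (mul_left_cancel (mul_right_cancel (mul_left_cancel (mul_right_cancel (congrArg Subtype.val e)))))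
      intro a ha
      obtain ⟨b, hb⟩ := (Finite.injective_iff_surjective.mp hf) ⟨a, ha⟩
      exact ⟨b, b.2, congrArg Subtype.val hb⟩
    intro a ha
    refine ⟨?_, ?_⟩
    · obtain ⟨b, hb, e⟩ := hbij a ha
      rw [← e]
      rw [show g * h⁻¹ * (h * (g⁻¹ * b * g) * h⁻¹) * (g * h⁻¹)⁻¹ = b by group]
      exact hb
    · rw [show (g * h⁻¹)⁻¹ * a * (g * h⁻¹) = h * (g⁻¹ * a * g) * h⁻¹ by group]
      exact hin a ha
  · calc g * h⁻¹ * d * (g * h⁻¹)⁻¹ = g * (h⁻¹ * (d * h)) * g⁻¹ := by group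
      _ = x := by rw [← hhd, inv_mul_cancel_left, hg]

/-- the conjugates with a given product -/
def LamSet (χ : ↥(Subgroup.centralizer ({d} : Set G)) ≃* ↥Ksub) (x : G) : Set G :=
  {y | (y ∈ AG χ ∧ IsConj d y) ∧ (x * y ∈ AG χ ∧ IsConj d (x * y))}

theorem lam_eq (hs : Setup d χ) {x : G} (hxB : x ∈ AG χ) (hx : IsConj d x) :
    (LamSet χ x).ncard = (LamSet χ d).ncard := by
  obtain ⟨n, hn, rfl⟩ := move_d hs hxB hx
  have e : LamSet χ (n * d * n⁻¹) = (fun y => n * y * n⁻¹) '' LamSet χ d := by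
    ext y
    constructor
    · rintro ⟨⟨h1, h2⟩, h3, h4⟩
      refine ⟨n⁻¹ * y * n, ⟨⟨(hn y h1).2, h2.trans (isConj_iff.mpr ⟨n⁻¹, by group⟩)⟩, ?_, ?_⟩, by group⟩
      · rw [show d * (n⁻¹ * y * n) = n⁻¹ * (n * d * n⁻¹ * y) * n by group]
        exact (hn _ h3).2
      · exact h4.trans (isConj_iff.mpr ⟨n⁻¹, by group⟩)
    · rintro ⟨y, ⟨⟨h1, h2⟩, h3, h4⟩, rfl⟩
      have e : n * d * n⁻¹ * (n * y * n⁻¹) = n * (d * y) * n⁻¹ := by group
      exact ⟨⟨(hn y h1).1, h2.trans (isConj_iff.mpr ⟨n, rfl⟩)⟩, by rw [e]; exact (hn _ h3).1,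
        by rw [e]; exact h4.trans (isConj_iff.mpr ⟨n, rfl⟩)⟩
  rw [e, Set.ncard_image_of_injective _ fun a b h => mul_left_cancel (mul_right_cancel h)]

theorem lam_code {m r : ℕ} (hr : r < 2048) (hm : ∀ c < 2048, Nat.testBit m c = true ↔ IsConj d (cG χ c)) :
    (LamSet χ (cG χ r)).ncard = Combo.cnt m r := by
  set l := (List.range 2048).filter fun y => Nat.testBit m y && Nat.testBit m (Nat.xor r y)
  have e : LamSet χ (cG χ r) = cG χ '' ((l.toFinset : Finset ℕ) : Set ℕ) := by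
    ext y
    simp only [Set.mem_image, Finset.mem_coe, List.mem_toFinset, l, List.mem_filter, List.mem_range,
      Bool.and_eq_true]
    constructor
    · rintro ⟨⟨h1, h2⟩, h3, h4⟩
      obtain ⟨c, hc, rfl⟩ := mem_AG.mp h1
      rw [cG_mul] at h4
      exact ⟨c, ⟨hc, (hm c hc).mpr h2, (hm _ (Nat.xor_lt_two_pow (n := 11) hr hc)).mpr h4⟩, rfl⟩
    · rintro ⟨c, ⟨hc, h1, h2⟩, rfl⟩
      have hx := Nat.xor_lt_two_pow (n := 11) hr hc
      exact ⟨⟨mem_AG.mpr ⟨c, hc, rfl⟩, (hm c hc).mp h1⟩,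
        by rw [cG_mul]; exact mem_AG.mpr ⟨_, hx, rfl⟩, by rw [cG_mul]; exact (hm _ hx).mp h2⟩
  rw [e, Set.InjOn.ncard_image, Set.ncard_coe_finset, List.toFinset_card_of_nodup (List.nodup_range.filter _)]
  · rfl
  · intro a ha b hb h
    simp only [Finset.mem_coe, List.mem_toFinset, l, List.mem_filter, List.mem_range] at ha hb
    exact cG_inj ha.1 hb.1 h

theorem code_E {c : ℕ} (h : c ∈ Combo.lE) : eA c ∈ Nt := by
  obtain ⟨i, hi, rfl⟩ := List.mem_map.mp h
  rw [List.mem_range] at hi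
  rw [← um_code hi]; exact um_Nt hi

theorem code_TE {c : ℕ} (h : c ∈ Combo.lTE) : ∃ y ∈ Nt, eA c = tA * y := by
  obtain ⟨i, hi, rfl⟩ := List.mem_map.mp h
  rw [List.mem_range] at hi
  exact ⟨um i, um_Nt hi, by rw [um_code hi, t_code, eA_mul]⟩

theorem code_EE {c : ℕ} (h : c ∈ Combo.lEE) : IsPair (eA c) := by
  obtain ⟨p, hp, rfl⟩ := List.mem_map.mp h
  obtain ⟨h1, h2⟩ := Combo.prs_mem hp
  exact ⟨_, um_Nt (h1.trans h2), _, um_Nt h2, um_ne (h1.trans h2) h2 h1.ne, um_comm (h1.trans h2) h2,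
    by rw [um_code (h1.trans h2), um_code h2, eA_mul]⟩

theorem code_TEE {c : ℕ} (h : c ∈ Combo.lTEE) : ∃ y, IsPair y ∧ eA c = tA * y := by
  obtain ⟨p, hp, rfl⟩ := List.mem_map.mp h
  exact ⟨_, code_EE (List.mem_map.mpr ⟨p, hp, rfl⟩), by rw [t_code, eA_mul]⟩

theorem code_EEE {c : ℕ} (h : c ∈ Combo.lEEE) : IsTriple (eA c) := by
  obtain ⟨p, hp, rfl⟩ := List.mem_map.mp h
  obtain ⟨h1, h2, h3⟩ := Combo.trs_mem hp
  have l2 := h2.trans h3
  have l1 := h1.trans l2
  exact ⟨_, um_Nt l1, _, um_Nt l2, _, um_Nt h3, um_ne l1 l2 h1.ne, um_ne l1 h3 (h1.trans h2).ne,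
    um_ne l2 h3 h2.ne, um_comm l1 l2, um_comm l1 h3, um_comm l2 h3,
    by rw [um_code l1, um_code l2, um_code h3, eA_mul, eA_mul]⟩

/-- the conjugates in the centraliser form one class of members or one of products -/
theorem one_part (hs : Setup d χ) : XK χ = insert tA Nt ∨ XK χ = insert tA ((fun y => tA * y) '' Nt) := by
  classical
  haveI := order.1
  have hE := M23Rel.pre_of_group group23
  let c1 := ce 0
  let c2 := Nat.xor 1024 (ce 0)
  let c3 := Nat.xor 1024 (Nat.xor (ce 0) (ce 1))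
  let c4 := Nat.xor (Nat.xor (ce 0) (ce 1)) (ce 2)
  have r1 : c1 ∈ Combo.lE := by decide +kernel
  have r2 : c2 ∈ Combo.lTE := by decide +kernel
  have r3 : c3 ∈ Combo.lTEE := by decide +kernel
  have r4 : c4 ∈ Combo.lEEE := by decide +kernel
  have htt : ∀ z : F23, tA * (tA * z) = z := fun z => by rw [← mul_assoc, tA_sq, one_mul]
  have w1 : ∀ y ∈ Nt, KConj (eA c1) y := fun y hy => (one_conj (code_E r1)).trans (one_conj hy).symm
  have w2 : ∀ y ∈ Nt, KConj (eA c2) (tA * y) := fun y hy => by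
    obtain ⟨z, hz, e⟩ := code_TE r2
    rw [e]
    exact ((one_conj hz).trans (one_conj hy).symm).mul_t
  have w3 : ∀ y, IsPair y → KConj (eA c3) (tA * y) := fun y hy => by
    obtain ⟨z, hz, e⟩ := code_TEE r3
    rw [e]
    exact ((pair_conj hz).trans (pair_conj hy).symm).mul_t
  have w4 : ∀ y, IsTriple y → KConj (eA c4) y := fun y hy => (triple_conj (code_EEE r4)).trans (triple_conj hy).symm
  set a := decide (eA c1 ∈ XK χ) with ha
  set b := decide (eA c2 ∈ XK χ) with hb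
  set c := decide (eA c3 ∈ XK χ) with hc
  set e := decide (eA c4 ∈ XK χ) with he
  have flag : ∀ {r : ℕ} {y : F23}, KConj (eA r) y → (y ∈ XK χ ↔ eA r ∈ XK χ) := fun h =>
    ⟨fun hy => XK_conj hy h.symm, fun hr => XK_conj hr h⟩
  have kinds : ∀ x ∈ XK χ, x = tA ∨ (x ∈ Nt ∧ a = true) ∨ (tA * x ∈ Nt ∧ b = true) ∨
      (IsPair (tA * x) ∧ c = true) ∨ (IsTriple x ∧ e = true) := by
    intro x hx
    obtain ⟨hxK, -⟩ := id hx
    have hsq : toFi22 ⟨x, hxK⟩ * toFi22 ⟨x, hxK⟩ = 1 := by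
      obtain ⟨g, hg⟩ := isConj_iff.mp hx.2
      have h2 : χ.symm ⟨x, hxK⟩ * χ.symm ⟨x, hxK⟩ = 1 := Subtype.ext (by
        rw [Subgroup.coe_mul, ← hg, Subgroup.coe_one]
        calc g * d * g⁻¹ * (g * d * g⁻¹) = g * (d * d) * g⁻¹ := by group
          _ = 1 := by rw [hs.sq]; group)
      have h3 : (⟨x, hxK⟩ : ↥Ksub) * ⟨x, hxK⟩ = 1 := χ.symm.injective (by rw [map_mul, h2, map_one])
      rw [← map_mul, h3, map_one]
    rcases invol_cases hsq with h | h | h | h | h | h | h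
    · exact absurd (h ▸ hx) (one_XK hs)
    · exact Or.inl h
    · exact Or.inr (Or.inl ⟨h, decide_eq_true ((flag (w1 x h)).mp hx)⟩)
    · exact Or.inr (Or.inr (Or.inl ⟨h, decide_eq_true ((flag (w2 _ h)).mp (by rwa [htt]))⟩))
    · exact absurd hx (no_pair hs h)
    · exact Or.inr (Or.inr (Or.inr (Or.inl ⟨h, decide_eq_true ((flag (w3 _ h)).mp (by rwa [htt]))⟩)))
    · exact Or.inr (Or.inr (Or.inr (Or.inr ⟨h, decide_eq_true ((flag (w4 x h)).mp hx)⟩)))
  have hne : (a || b || c || e) = true := by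
    obtain ⟨g, hg, hne⟩ := hs.nwc
    have hx : (χ ⟨_, hg⟩ : F23) ∈ XK χ := ⟨(χ ⟨_, hg⟩).2, by
      rw [Subtype.coe_eta, χ.symm_apply_apply]; exact isConj_iff.mpr ⟨g, rfl⟩⟩
    rcases kinds _ hx with h | ⟨-, h⟩ | ⟨-, h⟩ | ⟨-, h⟩ | ⟨-, h⟩
    · exfalso
      apply hne
      have : χ ⟨_, hg⟩ = χ (dC d) := by rw [chi_d hs]; exact Subtype.ext h
      exact congrArg Subtype.val (χ.injective this)
    all_goals simp [h]
  set m := Combo.maskOf (Combo.sel a b c e)
  have hmask : ∀ r < 2048, Nat.testBit m r = true ↔ IsConj d (cG χ r) := by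
    intro r hr
    rw [Combo.mask_iff, ← xk_code]
    constructor
    · intro h
      simp only [Combo.sel, List.mem_cons, List.mem_append] at h
      rcases h with h | ((h | h) | h) | h
      · rw [h, ← t_code]; exact t_XK hs
      · rcases Bool.eq_false_or_eq_true a with ea | ea <;> rw [ea] at h <;> simp only [cond_true, cond_false] at h
        · exact (flag (w1 _ (code_E h))).mpr (of_decide_eq_true ea)
        · exact absurd h List.not_mem_nil
      · rcases Bool.eq_false_or_eq_true b with ea | ea <;> rw [ea] at h <;> simp only [cond_true, cond_false] at h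
        · obtain ⟨y, hy, ey⟩ := code_TE h
          rw [ey]; exact (flag (w2 _ hy)).mpr (of_decide_eq_true ea)
        · exact absurd h List.not_mem_nil
      · rcases Bool.eq_false_or_eq_true c with ea | ea <;> rw [ea] at h <;> simp only [cond_true, cond_false] at h
        · obtain ⟨y, hy, ey⟩ := code_TEE h
          rw [ey]; exact (flag (w3 _ hy)).mpr (of_decide_eq_true ea)
        · exact absurd h List.not_mem_nil
      · rcases Bool.eq_false_or_eq_true e with ea | ea <;> rw [ea] at h <;> simp only [cond_true, cond_false] at h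
        · exact (flag (w4 _ (code_EEE h))).mpr (of_decide_eq_true ea)
        · exact absurd h List.not_mem_nil
    · intro h
      simp only [Combo.sel, List.mem_cons, List.mem_append]
      rcases Combo.cover hr with h' | h' | h' | h' | h' | h' | h'
      · exfalso; rw [h', eA_zero] at h; exact one_XK hs h
      · exact Or.inl h'
      · have ea : a = true := decide_eq_true ((flag (w1 _ (code_E h'))).mp h)
        right; left; left; left; rw [ea]; exact h'
      · obtain ⟨y, hy, ey⟩ := code_TE h'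
        have ea : b = true := decide_eq_true ((flag (w2 _ hy)).mp (ey ▸ h))
        right; left; left; right; rw [ea]; exact h'
      · exact absurd h (no_pair hs (code_EE h'))
      · obtain ⟨y, hy, ey⟩ := code_TEE h'
        have ea : c = true := decide_eq_true ((flag (w3 _ hy)).mp (ey ▸ h))
        right; left; right; rw [ea]; exact h'
      · have ea : e = true := decide_eq_true ((flag (w4 _ (code_EEE h'))).mp h)
        right; right; rw [ea]; exact h'
  have hbad : Combo.bad a b c e = false := by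
    rw [Combo.bad, List.any_eq_false]
    intro r hr
    have hlt : r < 2048 ∧ Nat.testBit m r = true := by
      have hl : ∀ q ∈ [c1, c2, c3, c4], q < 2048 := by decide +kernel
      simp only [Combo.reps, List.mem_append] at hr
      refine ⟨hl r ?_, (Combo.mask_iff _ r).mpr ?_⟩
      · rcases hr with ((h | h) | h) | h
        all_goals
          revert h
          cases a <;> cases b <;> cases c <;> cases e <;> simp (config := { contextual := true }) [c1, c2, c3, c4]
      · simp only [Combo.sel, List.mem_cons, List.mem_append]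
        rcases hr with ((h | h) | h) | h
        · rcases Bool.eq_false_or_eq_true a with ea | ea <;> rw [ea] at h <;> simp only [cond_true, cond_false] at h
          · rw [List.mem_singleton.mp h, ea]; exact Or.inr (Or.inl (Or.inl (Or.inl r1)))
          · exact absurd h List.not_mem_nil
        · rcases Bool.eq_false_or_eq_true b with ea | ea <;> rw [ea] at h <;> simp only [cond_true, cond_false] at h
          · rw [List.mem_singleton.mp h, ea]; exact Or.inr (Or.inl (Or.inl (Or.inr r2)))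
          · exact absurd h List.not_mem_nil
        · rcases Bool.eq_false_or_eq_true c with ea | ea <;> rw [ea] at h <;> simp only [cond_true, cond_false] at h
          · rw [List.mem_singleton.mp h, ea]; exact Or.inr (Or.inl (Or.inr r3))
          · exact absurd h List.not_mem_nil
        · rcases Bool.eq_false_or_eq_true e with ea | ea <;> rw [ea] at h <;> simp only [cond_true, cond_false] at h
          · rw [List.mem_singleton.mp h, ea]; exact Or.inr (Or.inr r4)
          · exact absurd h List.not_mem_nil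
    have h1 := lam_eq hs (mem_AG.mpr ⟨r, hlt.1, rfl⟩) ((hmask r hlt.1).mp hlt.2)
    rw [show (LamSet χ d).ncard = (LamSet χ (cG χ 1024)).ncard from congrArg (fun z => (LamSet χ z).ncard) (cG_t hs).symm,
      lam_code hlt.1 hmask, lam_code (by norm_num) hmask] at h1
    simp [m, h1]
  rcases Combo.combos hne hbad with ⟨ea, eb, ec, ee⟩ | ⟨ea, eb, ec, ee⟩
  · left
    ext x
    constructor
    · intro hx
      rcases kinds x hx with h | ⟨h, -⟩ | ⟨-, h⟩ | ⟨-, h⟩ | ⟨-, h⟩
      exacts [Or.inl h, Or.inr h, absurd h (by rw [eb]; simp), absurd h (by rw [ec]; simp), absurd h (by rw [ee]; simp)]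
    · rintro (rfl | h)
      · exact t_XK hs
      · exact (flag (w1 x h)).mpr (of_decide_eq_true ea)
  · right
    ext x
    constructor
    · intro hx
      rcases kinds x hx with h | ⟨-, h⟩ | ⟨h, -⟩ | ⟨-, h⟩ | ⟨-, h⟩
      exacts [Or.inl h, absurd h (by rw [ea]; simp), Or.inr ⟨_, h, htt x⟩, absurd h (by rw [ec]; simp),
        absurd h (by rw [ee]; simp)]
    · rintro (rfl | ⟨y, hy, rfl⟩)
      · exact t_XK hs
      · exact (flag (w2 y hy)).mpr (of_decide_eq_true eb)

end Cfsg.Agent.Spor.CentFi22
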