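import Cfsg.Agent.Lib.Spor.CentFi22.Chart
import Cfsg.Agent.Lib.Spor.CentFi22.OnePart
import Cfsg.Agent.Lib.Spor.CentU62.PairChecks

/-!
An involution whose centraliser is that of a transposition of Fi23 lies in a copy of Fi23.
-/

set_option autoImplicit false
set_option maxRecDepth 100000
set_option linter.unusedSectionVars false

namespace Cfsg.Agent.Spor.CentFi22

open Cfsg.Agent.Spor.M22U (nset pev pev_lt below below_rev below_append pev_rev pev_rev' pev_append gpt gpt_lt orth)
open Cfsg.Agent.Spor.CentU62 (tm tm_lt tm_pev orth_pev orth_refl twinOK twin0 pairOK pair0 pairW)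
open Cfsg.Agent.Spor.CC
open Cfsg.Agent.Spor.Fi23Cert
open Cfsg.Agent.Spor.Fi23Cert.Below
open Cfsg.Spor.Fi23 (Gen)

/-! ### twins -/

/-- a point with the same neighbours among the neighbours of another -/
theorem twin {a b b' : ℕ} (ha : a < 693) (hb : b < 693) (hb' : b' < 693) (hno : orth a b = false)
    (hsame : ∀ z < 693, orth a z = true → orth b' z = orth b z) : b' = b ∨ b' = tm a b := by
  obtain ⟨w1, hw1, e1⟩ := M22U.Pts.from_first ha
  obtain ⟨j1, j2⟩ := M22U.Pts.jw_ok 4 (by norm_num)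
  have hg4 : gpt 4 < 693 := gpt_lt (by norm_num)
  have hg5 : gpt 5 < 693 := gpt_lt (by norm_num)
  set w := w1 ++ (M22U.Pts.jw.getD 4 []).reverse
  have hw : below 8 w = true := below_append hw1 (below_rev j1)
  have ew : pev w (gpt 4) = a := by rw [pev_append, ← j2, pev_rev j1 (gpt_lt (by norm_num)), e1]
  have hk' := pev_lt (below_rev hw) hb
  have hno' : orth (gpt 4) (pev w.reverse b) = false := by
    rw [← pev_rev hw hg4, ew, orth_pev (below_rev hw) ha hb]
    exact hno
  have hp := all_range (p := pairOK) pair0 (Nat.zero_le _)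
    (show pev w.reverse b < 0 + 693 by rw [Nat.zero_add]; exact hk')
  simp only [pairOK, hno', Bool.false_or, Bool.and_eq_true, M22U.beq_iff] at hp
  obtain ⟨⟨hv', v4⟩, v5⟩ := hp
  set W' := w ++ pairW (pev w.reverse b)
  have hW : below 8 W' = true := below_append hw hv'
  have W4 : pev W' (gpt 4) = a := by rw [pev_append, v4, ew]
  have W5 : pev W' (gpt 5) = b := by rw [pev_append, v5, pev_rev' hw hb]
  have hjW := pev_lt (below_rev hW) hb'
  have ht := all_range (p := twinOK) twin0 (Nat.zero_le _)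
    (show pev W'.reverse b' < 0 + 693 by rw [Nat.zero_add]; exact hjW)
  simp only [twinOK, Bool.or_eq_true, M22U.beq_iff, List.any_eq_true, List.mem_range, Bool.and_eq_true,
    Bool.not_eq_true', beq_eq_false_iff_ne] at ht
  rcases ht with (h | h) | ⟨z, hz, hz4, hne⟩
  · left
    rw [← pev_rev' hW hb', h, W5]
  · right
    rw [← pev_rev' hW hb', h, tm_pev hW hg4 hg5, W4, W5]
  · exfalso
    apply hne
    have hzW := pev_lt hW hz
    rw [← orth_pev hW hg5 hz, W5, ← orth_pev hW hjW hz, pev_rev' hW hb']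
    exact (hsame _ hzW (by rw [← W4, orth_pev hW hg4 hz]; exact hz4)).symm

/-- three members commuting with two: one not commuting with the first is determined by the neighbours -/
theorem twin_members {p q q' : F23} (hp : p ∈ S2) (hq : q ∈ S2) (hq' : q' ∈ S2) (hn : ¬ Commute p q)
    (hn' : ¬ Commute p q') (hsame : ∀ z ∈ S2, z ≠ p → Commute z p → (Commute z q' ↔ Commute z q)) :
    q' = q ∨ q' = p * q * p⁻¹ := by
  obtain ⟨a, ha, rfl⟩ := m_surj hp
  obtain ⟨b, hb, rfl⟩ := m_surj hq
  obtain ⟨b', hb', rfl⟩ := m_surj hq'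
  rw [m_conj ha hb]
  have hno : orth a b = false := Bool.eq_false_iff.mpr fun h => hn ((m_comm ha hb).mpr h)
  have hno' : orth a b' = false := Bool.eq_false_iff.mpr fun h => hn' ((m_comm ha hb').mpr h)
  have hs : ∀ z < 693, orth a z = true → orth b' z = orth b z := by
    intro z hz hza
    by_cases hzp : m z = m a
    · rw [m_inj hz ha hzp, CentU62.orth_symm hb' ha, CentU62.orth_symm hb ha, hno, hno']
    · rw [Bool.eq_iff_iff, ← m_comm hb' hz, ← m_comm hb hz]
      have h := hsame _ (m_mem hz) hzp ((m_comm ha hz).mpr hza).symm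
      exact ⟨fun e => (h.mp e.symm).symm, fun e => (h.mpr e.symm).symm⟩
  rcases twin ha hb hb' hno hs with h | h
  · exact Or.inl (congrArg m h)
  · exact Or.inr (congrArg m h)

/-! ### generators -/

theorem gen_comm {i j : ℕ} (hi : i < 10) (hj : j < 10)
    (h : Cfsg.Spor.coxLabel pres.edges (pres.nm i) (pres.nm j) = 2) : Commute (pres.gen i) (pres.gen j) := by
  have e := Pres.cox_one pres_ok (i := i) (j := j) hi hj
  rw [h, pow_two] at e
  have e' := eq_inv_of_mul_eq_one_left e
  rw [mul_inv_rev, inv_eq_of_mul_eq_one_left (Pres.gen_sq pres_ok i),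
    inv_eq_of_mul_eq_one_left (Pres.gen_sq pres_ok j)] at e'
  exact e'

theorem graph_facts : lets.getD 0 0 = 0 ∧ 9 ∈ lets ∧ 1 ∈ lets ∧
    (∀ k ∈ lets, k = 0 ∨ k = 1 ∨ Cfsg.Spor.coxLabel pres.edges (pres.nm k) (pres.nm 0) = 2) ∧
    Cfsg.Spor.coxLabel pres.edges (pres.nm 7) (pres.nm 0) = 2 ∧
    Cfsg.Spor.coxLabel pres.edges (pres.nm 7) (pres.nm 9) = 2 ∧
    Cfsg.Spor.coxLabel pres.edges (pres.nm 7) (pres.nm 1) = 2 ∧
    Cfsg.Spor.coxLabel pres.edges (pres.nm 1) (pres.nm 7) = 2 ∧
    Cfsg.Spor.coxLabel pres.edges (pres.nm 1) (pres.nm 9) = 2 ∧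
    Cfsg.Spor.coxLabel pres.edges (pres.nm 9) (pres.nm 0) = 2 ∧
    (∀ k < 10, k = 7 ∨ k ∈ lets) ∧ (∀ w ∈ pres.extraW, ∀ k ∈ w, k ∈ lets) := by decide +kernel

theorem gen_lets {k : ℕ} (hk : k ∈ lets) : pres.gen k ∈ Ksub := by
  rw [sub_eq_singles]
  exact Subgroup.subset_closure ⟨k, hk, rfl⟩

theorem lets_Nt {k : ℕ} (hk : k ∈ lets) : pres.gen k ∈ Nt := by
  obtain ⟨x, hx, rfl⟩ := lets_mem k hk
  exact gen_Nt hx

theorem e0_eq : e0 = pres.gen 0 := congrArg pres.gen graph_facts.1

theorem seven_out : ¬ Commute (pres.gen 7) tA := by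
  intro h
  have hall : (⊤ : Subgroup F23) ≤ Ksub := by
    rw [← Pres.closure_gen pres_ok, Subgroup.closure_le]
    rintro _ ⟨k, hk, rfl⟩
    rcases graph_facts.2.2.2.2.2.2.2.2.2.2.1 k hk with rfl | hk'
    · exact mem_K.mpr h
    · exact gen_lets hk'
  have hc : tA ∈ Subgroup.center F23 :=
    Subgroup.mem_center_iff.mpr fun g => (mem_K.mp (hall (Subgroup.mem_top g))).eq
  rw [center23, Subgroup.mem_bot] at hc
  exact tA_ne_one hc

universe u
variable {G : Type u} [Group G] {d : G}

/-- the copy of Fi23 through the involution -/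
structure Emb (d : G) where
  /-- the map -/
  ψ : F23 →* G
  inj : Function.Injective ψ
  base : ψ tA = d
  cent : ∀ g : G, Commute g d → ∃ h : F23, ψ h = g
  near : ∀ y ∈ conjugatesOf d, Commute y d → ∃ p ∈ DF, ψ p = y

variable (C : Chart (conjugatesOf d) d tA)

theorem inv_word {l : List ℕ} (hl : ∀ k ∈ l, k ∈ lets) :
    (l.map fun k => C.inv (pres.gen k)).prod = C.inv (l.map pres.gen).prod := by
  induction l with
  | nil =>
    simp only [List.map_nil, List.prod_nil]
    refine C.app_inj (Commute.one_left d) (C.inv_comm (Commute.one_left tA)) ?_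
    rw [C.app_inv (Commute.one_left tA)]
    have h := C.app_mul (Commute.one_left d) (Commute.one_left d)
    rw [one_mul] at h
    exact left_eq_mul.mp h
  | cons a l ih =>
    have hl' : ∀ k ∈ l, k ∈ lets := fun k hk => hl k (by simp [hk])
    have hw : (l.map pres.gen).prod ∈ Ksub := list_prod_mem fun y hy => by
      obtain ⟨k, hk, rfl⟩ := List.mem_map.mp hy
      exact gen_lets (hl' k hk)
    rw [List.map_cons, List.prod_cons, ih hl', List.map_cons, List.prod_cons,
      C.inv_mul (mem_K.mp (gen_lets (hl a (by simp)))) (mem_K.mp hw)]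

theorem chart_inv_one : C.inv 1 = 1 := by
  simpa using (inv_word C (l := []) (by simp)).symm

variable [Finite G]
include C

/-- the copy exists -/
theorem exists_emb (hd1 : d ≠ 1) : Nonempty (Emb d) := by
  classical
  haveI := simple
  obtain ⟨g0, h9, h1, hk0, l70, l79, l71, l17, l19, l90, hall10, hextra⟩ := graph_facts
  have hD : ∀ g : G, ∀ y ∈ conjugatesOf d, g * y * g⁻¹ ∈ conjugatesOf d := fun g y hy =>
    hy.trans (isConj_iff.mpr ⟨g, rfl⟩)
  have htr : ∀ y ∈ conjugatesOf d, ∃ g : G, g * d * g⁻¹ = y := fun y hy => isConj_iff.mp hy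
  set o := C.inv e0 with ho
  set o9 := C.inv (pres.gen 9) with ho9
  obtain ⟨E0, hE0⟩ : ∃ E : Chart (conjugatesOf d) o e0, ∀ y : G, Commute y d → Commute y o → E.app y = C.app y :=
    exists_agree_base hD htr C
  obtain ⟨E9, hE9⟩ : ∃ E : Chart (conjugatesOf d) o9 (pres.gen 9),
      ∀ y : G, Commute y d → Commute y o9 → E.app y = C.app y :=
    exists_agree hD htr C (lets_Nt h9)
  have he0t : Commute e0 tA := te_comm.symm
  have h9t : Commute (pres.gen 9) tA := mem_K.mp (gen_lets h9)
  have h90 : Commute (pres.gen 9) e0 := e0_eq ▸ gen_comm (by norm_num) (by norm_num) l90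
  have h70 : Commute (pres.gen 7) e0 := e0_eq ▸ gen_comm (by norm_num) (by norm_num) l70
  have h79 : Commute (pres.gen 7) (pres.gen 9) := gen_comm (by norm_num) (by norm_num) l79
  have h71 : Commute (pres.gen 7) (pres.gen 1) := gen_comm (by norm_num) (by norm_num) l71
  have h19 : Commute (pres.gen 1) (pres.gen 9) := gen_comm (by norm_num) (by norm_num) l19
  have h1t : Commute (pres.gen 1) tA := mem_K.mp (gen_lets h1)
  have hod : Commute o d := C.inv_comm he0t
  have h9d : Commute o9 d := C.inv_comm h9t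
  have h9o : Commute o9 o := (C.inv_iff h9t he0t).mpr h90
  set x := E0.inv (pres.gen 7) with hx
  have hxo : Commute x o := E0.inv_comm h70
  have hxD : x ∈ conjugatesOf d := (E0.inv_mem h70).mpr (Outer.gen_mem_class (by norm_num))
  have e0d : E0.app d = tA := (hE0 d (Commute.refl d) hod.symm).trans C.app_base
  have e09 : E0.app o9 = pres.gen 9 := (hE0 o9 h9d h9o).trans (C.app_inv h9t)
  have hxd : ¬ Commute x d := fun h => seven_out (by
    have := (E0.app_iff hxo hod.symm).mpr h
    rwa [hx, E0.app_inv h70, e0d] at this)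
  have hx9 : Commute x o9 := (E0.app_iff hxo h9o).mp (by rw [hx, E0.app_inv h70, e09]; exact h79)
  -- the image in the other centraliser
  set u := E9.app x with hu
  have e9d : E9.app d = tA := (hE9 d (Commute.refl d) h9d.symm).trans C.app_base
  have e90 : E9.app o = e0 := (hE9 o hod h9o.symm).trans (C.app_inv he0t)
  have hu0 : Commute u e0 := e90 ▸ (E9.app_iff hx9 h9o.symm).mpr hxo
  have hu9 : Commute u (pres.gen 9) := E9.app_comm hx9
  have huD : u ∈ DF := (E9.app_mem hx9).mp hxD
  have hut : ¬ Commute u tA := fun h => hxd ((E9.app_iff hx9 h9d.symm).mp (by rw [e9d]; exact h))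
  -- move the pair of commuting members to the standard pair
  obtain ⟨g1, hg1⟩ := prim23.1 (pres.gen 9) (lets_Nt h9).1 tA (IsConj.refl tA)
  have h9e : pres.gen 9 ≠ e0 := fun e => gen9_ne (e.trans e0_eq)
  have hz : g1 * e0 * g1⁻¹ ∈ Nt := by
    refine ⟨group23.2.1 g1 _ e0_Nt.1, fun e => h9e ?_, ?_⟩
    · exact (mul_left_cancel (mul_right_cancel (e.trans hg1.symm))).symm
    · rw [← hg1]; exact Spor.commute_conj_iff.mpr h90
  obtain ⟨k1, hk1⟩ := move1 hz e0_Nt
  set γ := (k1 : F23) * g1 with hγ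
  have γ9 : γ * pres.gen 9 * γ⁻¹ = tA := by
    calc γ * pres.gen 9 * γ⁻¹ = (k1 : F23) * (g1 * pres.gen 9 * g1⁻¹) * (k1 : F23)⁻¹ := by rw [hγ]; group
      _ = tA := by rw [hg1, (mem_K.mp k1.2).eq, mul_inv_cancel_right]
  have γ0 : γ * e0 * γ⁻¹ = e0 := by
    calc γ * e0 * γ⁻¹ = (k1 : F23) * (g1 * e0 * g1⁻¹) * (k1 : F23)⁻¹ := by rw [hγ]; group
      _ = e0 := hk1
  have toS2 : ∀ v ∈ DF, Commute v (pres.gen 9) → Commute v e0 → v ≠ pres.gen 9 → v ≠ e0 →
      γ * v * γ⁻¹ ∈ S2 := by
    intro v hv c9 c0 n9 n0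
    refine ⟨⟨group23.2.1 γ v hv, fun e => n9 ?_, ?_⟩, group23.2.1 γ v hv, fun e => n0 ?_, ?_⟩
    · exact mul_left_cancel (mul_right_cancel (e.trans γ9.symm))
    · rw [← γ9]; exact Spor.commute_conj_iff.mpr c9.symm
    · exact mul_left_cancel (mul_right_cancel (e.trans γ0.symm))
    · rw [← γ0]; exact Spor.commute_conj_iff.mpr c0.symm
  have hpm := toS2 tA (IsConj.refl tA) h9t.symm he0t.symm
    (Ne.symm (lets_Nt h9).2.1) (Ne.symm e0_Nt.2.1)
  have hqm := toS2 (pres.gen 7) (Outer.gen_mem_class (by norm_num)) h79 h70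
    (fun e => seven_out (e ▸ h9t)) (fun e => seven_out (e ▸ he0t))
  have hum := toS2 u huD hu9 hu0 (fun e => hut (e ▸ h9t)) (fun e => hut (e ▸ he0t))
  have hu1 : Commute u (pres.gen 1) := by
    have hcases : γ * u * γ⁻¹ = γ * pres.gen 7 * γ⁻¹ ∨
        γ * u * γ⁻¹ = γ * tA * γ⁻¹ * (γ * pres.gen 7 * γ⁻¹) * (γ * tA * γ⁻¹)⁻¹ := by
      refine twin_members hpm hqm hum (fun h => seven_out (Spor.commute_conj_iff.mp h).symm)
        (fun h => hut (Spor.commute_conj_iff.mp h).symm) fun z hz hzp hzc => ?_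
      set y := γ⁻¹ * z * γ with hy
      have ez : z = γ * y * γ⁻¹ := by rw [hy]; group
      rw [ez, Spor.commute_conj_iff, Spor.commute_conj_iff]
      rw [ez, Spor.commute_conj_iff] at hzc
      have c9 : Commute y (pres.gen 9) := by
        rw [← Spor.commute_conj_iff (g := γ), γ9, ← ez]; exact hz.1.2.2.symm
      have c0 : Commute y e0 := by
        rw [← Spor.commute_conj_iff (g := γ), γ0, ← ez]; exact hz.2.2.2.symm
      -- the member in the group
      set Y := C.inv y
      have Yd : Commute Y d := C.inv_comm hzc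
      have Yo : Commute Y o := (C.inv_iff hzc he0t).mpr c0
      have Y9 : Commute Y o9 := (C.inv_iff hzc h9t).mpr c9
      have a0 : E0.app Y = y := (hE0 Y Yd Yo).trans (C.app_inv hzc)
      have a9 : E9.app Y = y := (hE9 Y Yd Y9).trans (C.app_inv hzc)
      rw [show Commute y (pres.gen 7) ↔ Commute (E0.app Y) (E0.app x) by rw [a0, hx, E0.app_inv h70],
        show Commute y u ↔ Commute (E9.app Y) (E9.app x) by rw [a9],
        E0.app_iff Yo hxo, E9.app_iff Y9 hx9]
    have h : u = pres.gen 7 ∨ u = tA * pres.gen 7 * tA⁻¹ := by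
      rcases hcases with h | h
      · exact Or.inl (mul_left_cancel (mul_right_cancel h))
      · refine Or.inr (mul_left_cancel (a := γ) (mul_right_cancel (b := γ⁻¹) ?_))
        rw [h]; group
    rcases h with h | h <;> rw [h]
    · exact h71
    · exact (h1t.symm.mul_left h71).mul_left h1t.symm.inv_left
  have hx1 : Commute x (C.inv (pres.gen 1)) := by
    have c19 : Commute (C.inv (pres.gen 1)) o9 := (C.inv_iff h1t h9t).mpr h19
    refine (E9.app_iff hx9 c19).mp ?_
    rw [hE9 _ (C.inv_comm h1t) c19, C.app_inv h1t]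
    exact hu1
  have hs0 : ∀ k ∈ lets, k ≠ 1 → Commute (pres.gen k) e0 ∧ C.inv (pres.gen k) = E0.inv (pres.gen k) := by
    intro k hk hk1'
    have hc : Commute (pres.gen k) e0 := by
      rcases hk0 k hk with rfl | h | h
      · rw [e0_eq]
      · exact absurd h hk1'
      · rw [e0_eq]; exact gen_comm (by rcases lets_mem k hk with ⟨i, hi, rfl⟩; exact (lets_lt hi).1) (by norm_num) h
    have hkt : Commute (pres.gen k) tA := mem_K.mp (gen_lets hk)
    refine ⟨hc, ?_⟩
    have c1 := C.inv_comm hkt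
    have c2 : Commute (C.inv (pres.gen k)) o := (C.inv_iff hkt he0t).mpr hc
    exact E0.app_inj c2 (E0.inv_comm hc) (by rw [hE0 _ c1 c2, C.app_inv hkt, E0.app_inv hc])
  -- the images of the letters
  let f : ℕ → G := fun k => if k = 7 then x else C.inv (pres.gen k)
  have f7 : f 7 = x := if_pos rfl
  have fk : ∀ {k}, k ∈ lets → f k = C.inv (pres.gen k) := fun {k} hk => if_neg fun e => by
    subst e; exact absurd hk (by decide)
  have fword : ∀ l : List ℕ, (∀ k ∈ l, k ∈ lets) → (l.map pres.gen).prod = 1 → (l.map f).prod = 1 := by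
    intro l hl h
    rw [List.map_congr_left fun k hk => fk (hl k hk), inv_word C hl, h, chart_inv_one C]
  have fsq : x * x = 1 := by
    rw [hx, ← E0.inv_mul h70 h70, Pres.gen_sq pres_ok 7]
    refine E0.app_inj (E0.inv_comm (Commute.one_left e0)) (Commute.one_left o) ?_
    rw [E0.app_inv (Commute.one_left e0)]
    have h := E0.app_mul (Commute.one_left o) (Commute.one_left o)
    rw [one_mul] at h
    exact (left_eq_mul.mp h).symm
  have fpair : ∀ i < 10, ∀ j < 10,
      (f i * f j) ^ Cfsg.Spor.coxLabel pres.edges (pres.nm i) (pres.nm j) = 1 := by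
    intro i hi j hj
    rcases hall10 i hi with rfl | hi' <;> rcases hall10 j hj with rfl | hj'
    · rw [f7, fsq, one_pow]
    · by_cases e : j = 1
      · subst e
        rw [f7, fk hj', l71, pow_two, hx1.symm.mul_mul_mul_comm, fsq, one_mul,
          ← C.inv_mul h1t h1t, Pres.gen_sq pres_ok 1, chart_inv_one C]
      · obtain ⟨hc, hs⟩ := hs0 j hj' e
        rw [f7, fk hj', hs, hx, ← E0.inv_mul h70 hc]
        exact E0inv_pow E0 (h70.mul_left hc) (Pres.cox_one pres_ok hi hj)
    · by_cases e : i = 1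
      · subst e
        rw [f7, fk hi', l17, pow_two, hx1.mul_mul_mul_comm, ← C.inv_mul h1t h1t, Pres.gen_sq pres_ok 1,
          chart_inv_one C, one_mul, fsq]
      · obtain ⟨hc, hs⟩ := hs0 i hi' e
        rw [f7, fk hi', hs, hx, ← E0.inv_mul hc h70]
        exact E0inv_pow E0 (hc.mul_left h70) (Pres.cox_one pres_ok hi hj)
    · have h := fword (powW (Cfsg.Spor.coxLabel pres.edges (pres.nm i) (pres.nm j)) [i, j]) (fun k hk => by
        simp only [powW, List.mem_flatten, List.mem_replicate] at hk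
        obtain ⟨_, ⟨-, rfl⟩, hk⟩ := hk
        simp at hk
        rcases hk with rfl | rfl <;> assumption) (by
        rw [prod_powW]; simpa using Pres.cox_one pres_ok hi hj)
      rw [prod_powW] at h
      simpa using h
  have hrel : ∀ r ∈ Cfsg.Spor.coxRelators Cfsg.Spor.Fi23.edges ∪ {r | r ∈ Cfsg.Spor.Fi23.extra},
      FreeGroup.lift (f ∘ ixGen) r = 1 := by
    rintro r (⟨a, -, b, -, rfl⟩ | hr)
    · rw [map_pow, map_mul, FreeGroup.lift_apply_of, FreeGroup.lift_apply_of, Function.comp_apply,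
        Function.comp_apply]
      have h := fpair (ixGen a) (pres_ok.ix_lt a) (ixGen b) (pres_ok.ix_lt b)
      rw [show pres.nm (ixGen a) = a from pres_ok.nm_ix a, show pres.nm (ixGen b) = b from pres_ok.nm_ix b] at h
      exact h
    · have hw : ∀ w ∈ pres.extraW, (w.map f).prod = 1 := fun w hw => fword w (hextra w hw)
        (Pres.relW_one pres_ok (List.mem_append_right _ hw))
      simp only [pres, List.forall_mem_cons, List.not_mem_nil, false_implies, implies_true, and_true,
        prod_powW, List.map_cons, List.map_nil, List.prod_cons, List.prod_nil, mul_one, ← mul_assoc] at hw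
      simp only [Cfsg.Spor.Fi23.extra, Set.mem_setOf_eq, List.mem_cons, List.not_mem_nil, or_false] at hr
      rcases hr with rfl | rfl <;>
        simp only [map_pow, map_mul, FreeGroup.lift_apply_of, Function.comp_apply, ixGen]
      exacts [hw.1, hw.2]
  let ψ : F23 →* G := PresentedGroup.toGroup hrel
  have hψ : ∀ k < 10, ψ (pres.gen k) = f k := by
    intro k hk
    show ψ (Pres.gen pres k) = _
    rw [Pres.gen, if_pos (show k < pres.ng from hk)]
    show PresentedGroup.toGroup hrel (PresentedGroup.of (pres.nm k)) = _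
    rw [PresentedGroup.toGroup.of]
    exact congrArg f (pres_ok.ix_nm k hk)
  have hψK : ∀ y ∈ Ksub, ψ y = C.inv y := by
    intro y hy
    rw [sub_eq_singles, Pres.sub] at hy
    have key : ψ y = C.inv y ∧ Commute y tA := by
      induction hy using Subgroup.closure_induction with
      | mem v hv =>
        obtain ⟨k, hk, rfl⟩ := hv
        refine ⟨?_, mem_K.mp (gen_lets hk)⟩
        obtain ⟨i, hi, rfl⟩ := lets_mem k hk
        rw [hψ _ (lets_lt hi).1, fk hk]
      | one => exact ⟨by rw [map_one, chart_inv_one C], Commute.one_left _⟩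
      | mul a b _ _ ha hb =>
        exact ⟨by rw [map_mul, ha.1, hb.1, C.inv_mul ha.2 hb.2], ha.2.mul_left hb.2⟩
      | inv a _ ha =>
        refine ⟨?_, ha.2.inv_left⟩
        rw [map_inv, ha.1]
        refine (eq_inv_of_mul_eq_one_left ?_).symm
        rw [← C.inv_mul ha.2.inv_left ha.2, inv_mul_cancel, chart_inv_one C]
    exact key.1
  have hbase : ψ tA = d := by rw [hψK tA tA_mem, C.inv_base]
  refine ⟨⟨ψ, ?_, hbase, fun g hg => ⟨C.app g, ?_⟩, fun y hy hc => ⟨C.app y, (C.app_mem hc).mp hy, ?_⟩⟩⟩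
  · rw [← MonoidHom.ker_eq_bot_iff]
    rcases ψ.normal_ker.eq_bot_or_eq_top with h | h
    · exact h
    · exfalso
      apply hd1
      rw [← hbase]
      exact (show tA ∈ ψ.ker from h ▸ Subgroup.mem_top _)
  · rw [hψK _ (mem_K.mpr (C.app_comm hg)), C.inv_app hg]
  · rw [hψK _ (mem_K.mpr (C.app_comm hc)), C.inv_app hc]
where
  gen9_ne : pres.gen 9 ≠ pres.gen 0 := fun h => by
    obtain ⟨u, hu, hne⟩ := chk9
    apply hne
    have h1 := congrArg (fun p => ((rep.hom p ⟨u, by show u < 31671; omega⟩ : Fin rep.P.n) : ℕ))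
      (show (([9] : List ℕ).map pres.gen).prod = (([0] : List ℕ).map pres.gen).prod by simpa using h)
    rw [ev_eq rep.valid pres.gen rep.hom rep.hom_gen (by decide),
      ev_eq rep.valid pres.gen rep.hom rep.hom_gen (by decide)] at h1
    exact h1
  chk9 : ∃ u, u < 300 ∧ ev RepA.rows 10 [9] u ≠ ev RepA.rows 10 [0] u := by decide +kernel
  E0inv_pow {G : Type u} [Group G] {D : Set G} {x : G} {p : F23} (E : Chart D x p) {y : F23} (hy : Commute y p)
      {n : ℕ} (h : y ^ n = 1) : E.inv y ^ n = 1 := by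
    rw [E.inv_eq hy, ← SubgroupClass.coe_pow, ← map_pow,
      show (⟨y, Subgroup.mem_centralizer_singleton_iff.mpr hy.eq⟩ : ↥(Subgroup.centralizer ({p} : Set F23))) ^ n = 1 from
        Subtype.ext h, map_one, Subgroup.coe_one]

end Cfsg.Agent.Spor.CentFi22
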