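import Cfsg.Agent.Lib.Spor.CentFi22.PairCore
import Cfsg.Agent.Lib.Spor.CentU62.Connect

/-!
All conjugates of the involution lie in the copy of Fi23, so the copy is everything.
-/

set_option autoImplicit false
set_option maxRecDepth 100000
set_option linter.unusedSectionVars false

namespace Cfsg.Agent.Spor.CentFi22

open Cfsg.Agent.Spor.M22U (nset)
open Cfsg.Agent.Spor.M22U.InvClasses (Good)
open Cfsg.Agent.Spor.Fi23Cert
open Cfsg.Agent.Spor.Fi23Cert.Below

theorem prod_notMem {a b : F23} (ha : a ∈ DF) (hb : b ∈ DF) (hne : a ≠ b) (hc : Commute a b) : a * b ∉ DF := by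
  intro h
  obtain ⟨f, hf⟩ := prim23.1 a ha tA (IsConj.refl tA)
  have hb' : f * b * f⁻¹ ∈ Nt := by
    refine ⟨group23.2.1 f b hb, fun e => hne ?_, ?_⟩
    · exact (mul_left_cancel (mul_right_cancel (e.trans hf.symm))).symm
    · rw [← hf]; exact Spor.commute_conj_iff.mpr hc
  refine t_mul_notMem hb' ?_
  rw [← hf, show f * a * f⁻¹ * (f * b * f⁻¹) = f * (a * b) * f⁻¹ by group]
  exact group23.2.1 f _ h

/-- a product of three commuting members commutes with a member whose product with it is of the same kind -/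
theorem fourth {l : List F23} (hl : Good DF l) (h3 : l.length = 3) :
    ∃ s ∈ DF, Commute s l.prod ∧ ∃ l' : List F23, Good DF l' ∧ l'.length = 3 ∧ s * l.prod = l'.prod := by
  obtain ⟨L, hn, hlen, hm, hc, hp⟩ := M23Rel.Cent.six_prod setting23
  have hE := M23Rel.pre_of_group group23
  have hP : Good DF (L.take 3) := ⟨hn.sublist (List.take_sublist 3 L), fun a ha => (hm a (List.mem_of_mem_take ha)).1,
    fun a ha b hb => hc a (List.mem_of_mem_take ha) b (List.mem_of_mem_take hb)⟩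
  have hQ : Good DF (L.drop 3) := ⟨hn.sublist (List.drop_sublist 3 L), fun a ha => (hm a (List.mem_of_mem_drop ha)).1,
    fun a ha b hb => hc a (List.mem_of_mem_drop ha) b (List.mem_of_mem_drop hb)⟩
  have hct : Commute tA (L.take 3).prod :=
    Commute.list_prod_right _ _ fun a ha => (hm a (List.mem_of_mem_take ha)).2.2
  have hsplit : tA = (L.take 3).prod * (L.drop 3).prod := by rw [← List.prod_append, List.take_append_drop, hp]
  have hsq := M23Rel.Invol.prod_sq hE (L.take 3) hP.2.1 hP.2.2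
  have hQd : tA * (L.take 3).prod = (L.drop 3).prod := by
    rw [hct.eq, hsplit, ← mul_assoc, hsq, one_mul]
  obtain ⟨g, hg⟩ := isConj_iff.mp (M23Rel.Invol.good_conj setting23 noRel23 hP hl (by simp [hlen, h3])
    (by simp [hlen]) (by simp [hlen]))
  obtain ⟨hQ', hQp⟩ := M23Rel.Invol.good_conjugate hE hQ g
  refine ⟨g * tA * g⁻¹, group23.2.1 g _ (IsConj.refl tA), ?_, _, hQ', by simp [hlen], ?_⟩
  · rw [← hg]; exact Spor.commute_conj_iff.mpr hct
  · rw [hQp, ← hQd, ← hg]; group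

universe u
variable {G : Type u} [Group G] {d : G}

namespace Emb

variable (E : Emb d)

theorem conj_eq {g y : G} (hy : g * d * g⁻¹ = y) : conjugatesOf y = conjugatesOf d :=
  ((isConj_iff.mpr ⟨g, hy⟩ : IsConj d y).conjugatesOf_eq).symm

/-- the copy moved by an element -/
noncomputable def move (g : G) {y : G} (hy : g * d * g⁻¹ = y) : Emb y where
  ψ := (MulAut.conj g).toMonoidHom.comp E.ψ
  inj := (MulAut.conj g).injective.comp E.inj
  base := by show g * E.ψ tA * g⁻¹ = y; rw [E.base, hy]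
  cent k hk := by
    subst hy
    obtain ⟨h, hh⟩ := E.cent (g⁻¹ * k * g) (by
      rw [← Spor.commute_conj_iff (g := g), show g * (g⁻¹ * k * g) * g⁻¹ = k by group]; exact hk)
    exact ⟨h, by show g * E.ψ h * g⁻¹ = k; rw [hh]; group⟩
  near z hz hk := by
    subst hy
    rw [Emb.conj_eq rfl] at hz
    obtain ⟨p, hp, hpz⟩ := E.near (g⁻¹ * z * g) (hz.trans (isConj_iff.mpr ⟨g⁻¹, by rw [inv_inv]⟩)) (by
      rw [← Spor.commute_conj_iff (g := g), show g * (g⁻¹ * z * g) * g⁻¹ = z by group]; exact hk)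
    exact ⟨p, hp, by show g * E.ψ p * g⁻¹ = z; rw [hpz]; group⟩

variable [Finite G]

/-- the centraliser of a product of two commuting members -/
theorem cent_pair {p q : F23} (hp : p ∈ DF) (hq : q ∈ DF) (hne : p ≠ q) (hc : Commute p q) {g : G}
    (hg : Commute g (E.ψ p * E.ψ q)) : ∃ k, E.ψ k = g := by
  obtain ⟨f1, hf1⟩ := prim23.1 p hp tA (IsConj.refl tA)
  have hq1 : f1 * q * f1⁻¹ ∈ Nt := by
    refine ⟨group23.2.1 f1 q hq, fun e => hne ?_, ?_⟩
    · exact (mul_left_cancel (mul_right_cancel (e.trans hf1.symm))).symm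
    · rw [← hf1]; exact Spor.commute_conj_iff.mpr hc
  obtain ⟨k1, hk1⟩ := move1 hq1 e0_Nt
  set f := (k1 : F23) * f1 with hf
  have fp : f * p * f⁻¹ = tA := by
    calc f * p * f⁻¹ = (k1 : F23) * (f1 * p * f1⁻¹) * (k1 : F23)⁻¹ := by rw [hf]; group
      _ = tA := by rw [hf1, (mem_K.mp k1.2).eq, mul_inv_cancel_right]
  have fq : f * q * f⁻¹ = e0 := by
    calc f * q * f⁻¹ = (k1 : F23) * (f1 * q * f1⁻¹) * (k1 : F23)⁻¹ := by rw [hf]; group
      _ = e0 := hk1
  obtain ⟨h, hh⟩ := E.cent_base (g := E.ψ f * g * (E.ψ f)⁻¹) (by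
    have e : E.ψ f * (E.ψ p * E.ψ q) * (E.ψ f)⁻¹ = d * E.ψ e0 := by
      rw [← map_mul, ← map_inv, ← map_mul, ← map_mul,
        show f * (p * q) * f⁻¹ = f * p * f⁻¹ * (f * q * f⁻¹) by group, fp, fq, map_mul, E.base]
    rw [← e]
    exact Spor.commute_conj_iff.mpr hg)
  exact ⟨f⁻¹ * h * f, by rw [map_mul, map_mul, map_inv, hh]; group⟩

/-- outside the copy the products with members have odd order -/
theorem odd_out {p : F23} (hp : p ∈ DF) {y : G} (hy : y ∈ conjugatesOf d) (hyn : ∀ q ∈ DF, E.ψ q ≠ y) :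
    Odd (orderOf (E.ψ p * y)) := by
  by_contra hodd
  have hsq : ∀ z ∈ conjugatesOf d, z * z = 1 := fun z hz => by
    obtain ⟨g, rfl⟩ := isConj_iff.mp hz
    calc g * d * g⁻¹ * (g * d * g⁻¹) = g * (d * d) * g⁻¹ := by group
      _ = 1 := by rw [E.sq]; group
  have hpD := E.img_conj hp
  obtain ⟨z, hz, hzp, hzy, hconj⟩ := CentU62.dihedral_even (hsq _ hpD) (hsq _ hy) hodd
  have hD : E.ψ p * z ∈ conjugatesOf d := by
    rcases hconj with h | h
    exacts [hpD.trans h, hy.trans h]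
  obtain ⟨q, hq, hqe⟩ := E.nearP hp hD (((Commute.refl _).mul_right hzp.symm).symm)
  have hz' : z = E.ψ p * E.ψ q := by rw [hqe, ← mul_assoc, hsq _ hpD, one_mul]
  have hne : p ≠ q := fun e => by
    rw [← e, hsq _ hpD] at hz'
    rw [hz', orderOf_one] at hz
    omega
  have hc : Commute p q := E.inj (by
    rw [map_mul, map_mul, hqe, ← mul_assoc (E.ψ p), hsq _ hpD, one_mul, mul_assoc, hzp.eq, ← mul_assoc,
      hsq _ hpD, one_mul])
  obtain ⟨k, hk⟩ := E.cent_pair hp hq hne hc (hz' ▸ hzy.symm)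
  exact hyn k (E.member (hk ▸ hy)) hk

/-- every conjugate is a member -/
theorem all_in {y : G} (hy : y ∈ conjugatesOf d) : ∃ p ∈ DF, E.ψ p = y := by
  haveI := order.1
  by_contra hcon
  push Not at hcon
  obtain ⟨g0, hg0⟩ := isConj_iff.mp hy
  set E' := E.move g0 hg0 with hE'
  have hce : conjugatesOf y = conjugatesOf d := Emb.conj_eq hg0
  have hdisj : ∀ p ∈ DF, ∀ q ∈ DF, E.ψ p ≠ E'.ψ q := by
    intro p hp q hq e
    obtain ⟨k, hk⟩ := E.stab hq hp (g := g0) e.symm
    refine hcon (k * tA * k⁻¹) (group23.2.1 k _ (IsConj.refl tA)) ?_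
    rw [map_mul, map_mul, map_inv, hk, E.base]
    exact hg0
  have hnD' : ∀ p ∈ DF, ∀ h, E'.ψ h = E.ψ p → False := by
    intro p hp h e
    exact hdisj p hp h (E'.member (by rw [hce, e]; exact E.img_conj hp)) e.symm
  obtain ⟨hw2, hw1, -, -⟩ := E'.w_facts
  set w := y * E'.ψ e0 with hw
  have hwD : w ∉ conjugatesOf d := by
    intro h
    have hcy : Commute w y := ((Commute.refl y).mul_right E'.de_comm).symm
    obtain ⟨p, hp, hpw⟩ := E'.near w (hce ▸ h) hcy
    refine t_mul_notMem e0_Nt ?_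
    rw [← E'.inj (show E'.ψ p = E'.ψ (tA * e0) by rw [hpw, map_mul, E'.base])]
    exact hp
  have hodd : ¬ Odd (orderOf (d * w)) := fun h => by
    obtain ⟨g, hg, -⟩ := CentU62.dihedral_conj E.sq hw2 h
    exact hwD (hg ▸ isConj_iff.mpr ⟨g, rfl⟩)
  obtain ⟨u, hu2, hud, huw, -⟩ := CentU62.dihedral_even E.sq hw2 hodd
  obtain ⟨U, hU⟩ := E.cent u hud
  obtain ⟨U', hU'⟩ := E'.cent_base (g := u) huw
  have hUo : orderOf U = 2 := by rw [← orderOf_injective E.ψ E.inj, hU]; exact hu2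
  obtain ⟨l, hl, h1, h3, hprod⟩ := M23Rel.Invol.exists_good setting23 hUo
  obtain ⟨hn, hmem, hcom⟩ := id hl
  match l, h1, h3 with
  | [a], _, _ =>
    simp only [List.prod_cons, List.prod_nil, mul_one] at hprod
    exact hnD' a (hmem a (by simp)) U' (by rw [hU', ← hU, hprod])
  | [a, b], _, _ =>
    simp only [List.prod_cons, List.prod_nil, mul_one] at hprod
    have hab : a ≠ b := by simpa using hn
    obtain ⟨W', hW'⟩ := E.cent_pair (hmem a (by simp)) (hmem b (by simp)) hab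
      (hcom a (by simp) b (by simp)) (g := w) (by rw [← map_mul, hprod, hU]; exact huw.symm)
    have hW2 : W' * W' = 1 := E.inj (by rw [map_mul, hW', hw2, map_one])
    obtain ⟨p, hp, hpc⟩ := M23Rel.Invol.exists_commute setting23 hW2
    have hpw : Commute (E.ψ p) w := hW' ▸ (hpc.map E.ψ).symm
    obtain ⟨k, hk⟩ := E'.cent_base (g := E.ψ p) hpw
    exact hnD' p hp k hk
  | [a, b, c], _, _ =>
    obtain ⟨s, hs, hcs, l', hl', hl'3, hsl⟩ := fourth hl rfl
    rw [hprod] at hcs hsl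
    simp only [List.prod_cons, List.prod_nil, mul_one] at hprod
    have hU'2 : U' * U' = 1 := E'.inj (by
      rw [map_mul, hU', map_one, ← pow_two, ← hu2, pow_orderOf_eq_one])
    obtain ⟨q, hq, hqc⟩ := M23Rel.Invol.exists_commute setting23 hU'2
    set z := E'.ψ q
    have hzu : Commute z u := hU' ▸ (hqc.map E'.ψ).symm
    have hzD : z ∈ conjugatesOf d := hce ▸ E'.img_conj hq
    have hzn : ∀ r ∈ DF, E.ψ r ≠ z := fun r hr => hdisj r hr q hq
    have mv : ∀ x ∈ DF, Commute x U → ∃ g : G, g * E.ψ x * g⁻¹ = z ∧ Commute g u := by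
      intro x hx hxU
      have hsq : z * z = 1 := by rw [← map_mul, sq23 hq, map_one]
      have hsqx : E.ψ x * E.ψ x = 1 := by rw [← map_mul, sq23 hx, map_one]
      obtain ⟨g, hg, hgc⟩ := CentU62.dihedral_conj hsqx hsq (E.odd_out hx hzD hzn)
      refine ⟨g, hg, hgc u ?_ hzu.symm⟩
      rw [← hU]
      exact (hxU.map E.ψ).symm
    have haU : Commute a U := by
      rw [← hprod]
      exact (Commute.refl a).mul_right ((hcom a (by simp) b (by simp)).mul_right (hcom a (by simp) c (by simp)))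
    obtain ⟨g1, hg1, hc1⟩ := mv a (hmem a (by simp)) haU
    obtain ⟨g2, hg2, hc2⟩ := mv s hs hcs
    have hga : g2⁻¹ * g1 * E.ψ a * (g2⁻¹ * g1)⁻¹ = E.ψ s := by
      calc _ = g2⁻¹ * (g1 * E.ψ a * g1⁻¹) * g2 := by group
        _ = g2⁻¹ * (g2 * E.ψ s * g2⁻¹) * g2 := by rw [hg1, hg2]
        _ = E.ψ s := by group
    obtain ⟨k, hk⟩ := E.stab (hmem a (by simp)) hs hga
    have hka : k * a * k⁻¹ = s := E.inj (by rw [map_mul, map_mul, map_inv, hk]; exact hga)
    have hkU : k * U * k⁻¹ = U := E.inj (by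
      rw [map_mul, map_mul, map_inv, hk, hU, ((hc2.inv_left).mul_left hc1).eq, mul_inv_cancel_right])
    have haU' : a * U = b * c := by rw [← hprod, ← mul_assoc, sq23 (hmem a (by simp)), one_mul]
    have hg2' : Good DF [b, c] := ⟨(List.nodup_cons.mp hn).2, fun x hx => hmem x (List.mem_cons_of_mem _ hx),
      fun x hx y hy => hcom x (List.mem_cons_of_mem _ hx) y (List.mem_cons_of_mem _ hy)⟩
    obtain ⟨hgk, hgp⟩ := M23Rel.Invol.good_conjugate (M23Rel.pre_of_group group23) hg2' k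
    have := M23Rel.Invol.length_eq group23 noRel23 hgk hl' (by simp) (by simp) (by omega) (by
      rw [hgp, ← hsl, List.prod_cons, List.prod_cons, List.prod_nil, mul_one, ← haU',
        show k * (a * U) * k⁻¹ = k * a * k⁻¹ * (k * U * k⁻¹) by group, hka, hkU])
    simp at this
    omega

theorem surjective : Function.Surjective E.ψ := fun g => by
  obtain ⟨p, hp, hpe⟩ := E.all_in (y := g * d * g⁻¹) (isConj_iff.mpr ⟨g, rfl⟩)
  exact E.stab (IsConj.refl tA) hp (by rw [E.base, hpe])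

/-- the isomorphism -/
noncomputable def equiv : F23 ≃* G := MulEquiv.ofBijective E.ψ ⟨E.inj, E.surjective⟩

theorem image_eq : E.equiv '' DF = conjugatesOf d := by
  ext y
  constructor
  · rintro ⟨p, hp, rfl⟩; exact E.img_conj hp
  · intro hy; obtain ⟨p, hp, e⟩ := E.all_in hy; exact ⟨p, hp, e⟩

end Emb

end Cfsg.Agent.Spor.CentFi22
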