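import Cfsg.Agent.Lib.Spor.CentFi22.Model
import Cfsg.Agent.Lib.Spor.TSUModel

/-!
An elementary abelian subgroup of order 2048 in the centraliser of a transposition of Fi23.
-/

set_option autoImplicit false
set_option maxRecDepth 100000
set_option linter.unusedSectionVars false

namespace Cfsg.Agent.Spor.CentFi22

open Cfsg.Agent.Spor.CC
open Cfsg.Agent.Spor.Fi23Cert
open Cfsg.Agent.Spor.Fi23Cert.Below
open Cfsg.Agent.Lead.Fi22Two

/-- a letter of Fi22 in Fi23 -/
def upl (x : ℕ) : ℕ := lets.getD x 10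

/-- word of a member upstairs -/
def upW (i : ℕ) : List ℕ := (Syl.mwd i).map upl

/-- word of a code upstairs, the first n bits -/
def upWn (c : ℕ) : ℕ → List ℕ
  | 0 => []
  | n + 1 => upWn c n ++ bif Nat.testBit c n then (if n = 10 then Below.zW else upW (SDat.bas.getD n 0)) else []

/-- the codes of the members -/
def cE : List ℕ :=
  [1, 2, 4, 8, 16, 32, 64, 1150, 128, 256, 1512, 1447, 187, 512, 1635, 1937, 1678, 956, 727, 1869, 373, 858]

/-- code of a member -/
def ce (i : ℕ) : ℕ := cE.getD i 0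

/-- the product of a word -/
noncomputable abbrev elF (w : List ℕ) : F23 := (w.map pres.gen).prod

/-- a member upstairs -/
noncomputable def um (i : ℕ) : F23 := elF (upW i)

theorem elF_app (u v : List ℕ) : elF (u ++ v) = elF u * elF v := by
  simp only [elF, List.map_append, List.prod_append]

theorem toFi22_word : ∀ {w : List ℕ}, (∀ x ∈ w, x < 9) → ∀ h : elF (w.map upl) ∈ Ksub,
    toFi22 ⟨_, h⟩ = (w.map Fi22Cert.pres.gen).prod
  | [], _, h => by
    rw [show (⟨_, h⟩ : ↥Ksub) = 1 from Subtype.ext (by simp [elF]), map_one]; rfl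
  | a :: w, hw, h => by
    have ha : a < 9 := hw a (by simp)
    have hg : upl a = lets.getD a 0 := by
      revert ha; revert a; intro a _ _ ha
      interval_cases a <;> rfl
    have hw' : elF (w.map upl) ∈ Ksub := by
      have e : elF ((a :: w).map upl) = pres.gen (lets.getD a 0) * elF (w.map upl) := by
        simp [elF, hg]
      rw [e] at h
      exact (Subgroup.mul_mem_cancel_left _ (gen_K ha)).mp h
    have e : (⟨_, h⟩ : ↥Ksub) = ⟨_, gen_K ha⟩ * ⟨_, hw'⟩ := Subtype.ext (by simp [elF, hg])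
    rw [e, map_mul, toFi22_gen ha, toFi22_word (fun x hx => hw x (by simp [hx])) hw', List.map_cons,
      List.prod_cons]

theorem elF_K {w : List ℕ} (hw : ∀ x ∈ w, x < 9) : elF (w.map upl) ∈ Ksub := by
  refine list_prod_mem fun y hy => ?_
  obtain ⟨x, hx, rfl⟩ := List.mem_map.mp hy
  obtain ⟨a, ha, rfl⟩ := List.mem_map.mp hx
  have ha9 := hw a ha
  rw [show upl a = lets.getD a 0 by interval_cases a <;> rfl]
  exact gen_K ha9

theorem upW_shape {i : ℕ} (hi : i < 22) : ∃ w : List ℕ, (∀ x ∈ w, x < 9) ∧ Syl.mwd i = w ++ 0 :: w.reverse :=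
  ⟨M22U.Cent.pwP (Syl.bp i), fun x hx => Syl.mwd_lt hi x (List.mem_append_left _ hx), rfl⟩

theorem um_Nt {i : ℕ} (hi : i < 22) : um i ∈ Nt := by
  obtain ⟨w, hw, he⟩ := upW_shape hi
  have e : um i = elF (w.map upl) * pres.gen (lets.getD 0 0) * (elF (w.map upl))⁻¹ := by
    rw [um, upW, he, List.map_append, List.map_cons, List.map_reverse, elF_app]
    simp only [elF, List.map_cons, List.prod_cons, prod_rev]
    rw [mul_assoc]
    rfl
  rw [e]
  exact Nt_conj (mem_K.mp (elF_K hw)) (gen_Nt (by norm_num))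

theorem toFi22_um {i : ℕ} (hi : i < 22) : toFi22 ⟨um i, Nt_le (um_Nt hi)⟩ = Syl.mm i := by
  rw [Syl.mm_el]
  exact toFi22_word (Syl.mwd_lt hi) _

theorem um_sq {i : ℕ} (hi : i < 22) : um i * um i = 1 := (M23Rel.pre_of_group group23).sq _ (um_Nt hi).1

theorem um_comm {i j : ℕ} (hi : i < 22) (hj : j < 22) : Commute (um i) (um j) := by
  refine M23Rel.commute_lift (M23Rel.pre_of_group group23) tA (um_Nt hi) (um_Nt hj) (nextEquiv.injective ?_)
  rw [map_mul, map_mul, nextEquiv_mk, nextEquiv_mk,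
    show toFi22 ⟨um i, _⟩ = Syl.mm i from toFi22_um hi, show toFi22 ⟨um j, _⟩ = Syl.mm j from toFi22_um hj]
  exact (Syl.mm_comm hi hj).eq

/-- the factor at a bit -/
noncomputable def bitE (n : ℕ) : F23 := if n = 10 then tA else um (SDat.bas.getD n 0)

theorem bitE_sq {n : ℕ} (hn : n < 11) : bitE n * bitE n = 1 := by
  rw [bitE]; split
  · exact tA_sq
  · exact um_sq (Syl.bas_lt (by omega))

theorem bitE_comm {n m : ℕ} (hn : n < 11) (hm : m < 11) : Commute (bitE n) (bitE m) := by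
  rw [bitE, bitE]; split <;> split
  · exact Commute.refl _
  · exact (um_Nt (Syl.bas_lt (by omega))).2.2
  · exact (um_Nt (Syl.bas_lt (by omega))).2.2.symm
  · exact um_comm (Syl.bas_lt (by omega)) (Syl.bas_lt (by omega))

/-- product of the factors by bits -/
noncomputable def enA (c : ℕ) : ℕ → F23
  | 0 => 1
  | n + 1 => enA c n * bif Nat.testBit c n then bitE n else 1

theorem elF_upWn (c : ℕ) : ∀ n, elF (upWn c n) = enA c n
  | 0 => by simp [elF, upWn, enA]
  | n + 1 => by
    rw [upWn, elF_app, elF_upWn c n, enA]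
    cases Nat.testBit c n
    · simp [elF]
    · simp only [cond_true, bitE]
      split <;> rfl

theorem enA_comm (c : ℕ) {m : ℕ} (hm : m < 11) : ∀ n ≤ 11, Commute (enA c n) (bitE m)
  | 0, _ => Commute.one_left _
  | n + 1, hn => by
    rw [enA]
    refine (enA_comm c hm n (by omega)).mul_left ?_
    cases Nat.testBit c n
    · exact Commute.one_left _
    · exact bitE_comm (by omega) hm

theorem enA_xor (c d : ℕ) : ∀ n ≤ 11, enA (Nat.xor c d) n = enA c n * enA d n
  | 0, _ => (one_mul _).symm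
  | n + 1, hn => by
    simp only [enA, enA_xor c d n (by omega)]
    rw [show Nat.testBit (Nat.xor c d) n = (Nat.testBit c n ^^ Nat.testBit d n) from Nat.testBit_xor c d n]
    have hc := enA_comm d (show n < 11 by omega) n (by omega)
    cases Nat.testBit c n <;> cases Nat.testBit d n <;>
      simp only [Bool.xor_false, Bool.false_xor, Bool.xor_self, Bool.xor_true, Bool.not_false, cond_true,
        cond_false, mul_one, one_mul]
    · rw [mul_assoc]
    · rw [mul_assoc, mul_assoc, hc.eq]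
    · rw [← mul_assoc, mul_assoc (enA c n), ← hc.eq, ← mul_assoc, mul_assoc _ (bitE n), bitE_sq (by omega),
        mul_one]

/-- the element of a code -/
noncomputable def eA (c : ℕ) : F23 := enA c 11

theorem eA_mul (c d : ℕ) : eA c * eA d = eA (Nat.xor c d) := (enA_xor c d 11 le_rfl).symm

theorem eA_zero : eA 0 = 1 := by simp [eA, enA, Nat.zero_testBit]

theorem eA_sq (c : ℕ) : eA c * eA c = 1 := by
  rw [eA_mul, show Nat.xor c c = 0 from Nat.xor_self c, eA_zero]

theorem eA_comm (c d : ℕ) : Commute (eA c) (eA d) := by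
  show _ = _
  rw [eA_mul, eA_mul, show Nat.xor c d = Nat.xor d c from Nat.xor_comm c d]

theorem enA_K (c : ℕ) : ∀ n ≤ 11, enA c n ∈ Ksub
  | 0, _ => one_mem _
  | n + 1, hn => by
    rw [enA]
    refine mul_mem (enA_K c n (by omega)) ?_
    cases Nat.testBit c n
    · exact one_mem _
    · simp only [cond_true, bitE]; split
      · exact tA_mem
      · exact Nt_le (um_Nt (Syl.bas_lt (by omega)))

theorem toFi22_enA (c : ℕ) : ∀ n, n ≤ 10 → ∀ h : enA c n ∈ Ksub, toFi22 ⟨_, h⟩ = Syl.en c n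
  | 0, _, h => by rw [show (⟨_, h⟩ : ↥Ksub) = 1 from rfl, map_one]; rfl
  | n + 1, hn, h => by
    have h0 := enA_K c n (by omega)
    have hb : bitE n ∈ Ksub := by
      rw [bitE, if_neg (by omega)]; exact Nt_le (um_Nt (Syl.bas_lt (by omega)))
    rw [Syl.en]
    cases hc : Nat.testBit c n
    · rw [show (⟨_, h⟩ : ↥Ksub) = ⟨_, h0⟩ from Subtype.ext (by simp [enA, hc]), toFi22_enA c n (by omega)]
      simp
    · rw [show (⟨_, h⟩ : ↥Ksub) = ⟨_, h0⟩ * ⟨_, hb⟩ from Subtype.ext (by simp [enA, hc]), map_mul,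
        toFi22_enA c n (by omega)]
      congr 1
      have e : bitE n = um (SDat.bas.getD n 0) := by rw [bitE, if_neg (by omega)]
      have hi := Syl.bas_lt (show n < 10 by omega)
      rw [show (⟨bitE n, hb⟩ : ↥Ksub) = ⟨um (SDat.bas.getD n 0), Nt_le (um_Nt hi)⟩ from
        Subtype.ext e, toFi22_um hi]
      rfl

theorem eA_K (c : ℕ) : eA c ∈ Ksub := enA_K c 11 le_rfl

theorem eA_split (c : ℕ) : eA c = enA c 10 * (bif Nat.testBit c 10 then bitE 10 else 1) := rfl

theorem toFi22_eA (c : ℕ) : toFi22 ⟨eA c, eA_K c⟩ = Syl.eG c := by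
  have h0 := enA_K c 10 (by norm_num)
  have e10 : ∀ x : ↥Ksub, (x : F23) = tA ∨ (x : F23) = 1 → toFi22 x = 1 := by
    rintro x (h | h)
    · rw [show x = ⟨tA, tA_mem⟩ from Subtype.ext h, toFi22_tA]
    · rw [show x = 1 from Subtype.ext h, map_one]
  have hb : (bif Nat.testBit c 10 then bitE 10 else 1) ∈ Ksub := by
    cases Nat.testBit c 10
    · exact one_mem _
    · simpa [bitE] using tA_mem
  have hsplit := eA_split c
  have hz : (bif Nat.testBit c 10 then bitE 10 else 1) = tA ∨ (bif Nat.testBit c 10 then bitE 10 else 1) = 1 := by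
    cases Nat.testBit c 10
    · exact Or.inr rfl
    · left
      rw [cond_true, bitE, if_pos rfl]
  generalize (bif Nat.testBit c 10 then bitE 10 else 1) = z at hb hsplit hz
  have hx := e10 ⟨z, hb⟩ hz
  have he : (⟨eA c, eA_K c⟩ : ↥Ksub) = ⟨_, h0⟩ * ⟨z, hb⟩ := Subtype.ext hsplit
  have hlow := toFi22_enA c 10 le_rfl h0
  unfold Syl.eG
  rw [he, map_mul, hx, mul_one, hlow]

theorem en_mod (c : ℕ) : ∀ n ≤ 10, Syl.en (c % 1024) n = Syl.en c n
  | 0, _ => rfl
  | n + 1, hn => by
    rw [Syl.en, Syl.en, en_mod c n (by omega), show (1024 : ℕ) = 2 ^ 10 by norm_num, Nat.testBit_mod_two_pow,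
      decide_eq_true (show n < 10 by omega), Bool.true_and]

theorem eA_inj {c d : ℕ} (hc : c < 2048) (hd : d < 2048) (h : eA c = eA d) : c = d := by
  have hx : eA (Nat.xor c d) = 1 := by rw [← eA_mul, h, eA_sq]
  have h0 : Syl.eG (Nat.xor c d) = 1 := by
    rw [← toFi22_eA, show (⟨eA (Nat.xor c d), eA_K _⟩ : ↥Ksub) = 1 from Subtype.ext hx, map_one]
  have hlt : Nat.xor c d < 2048 := Nat.xor_lt_two_pow (n := 11) hc hd
  have hmod : Nat.xor c d % 1024 = 0 := by
    refine Syl.eG_inj (Nat.mod_lt _ (by norm_num)) (by norm_num) ?_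
    rw [Syl.eG_zero, Syl.eG, en_mod _ 10 le_rfl]
    exact h0
  refine Nat.xor_eq_zero_iff.mp ?_
  show Nat.xor c d = 0
  rcases (show Nat.xor c d = 0 ∨ Nat.xor c d = 1024 by omega) with e | e
  · exact e
  · exfalso
    rw [e] at hx
    refine tA_ne_one ?_
    rw [← hx]
    simp [eA, enA, bitE, Nat.testBit, Nat.shiftRight_eq_div_pow]

/-- the checks of the codes -/
def codeChk : List (List ℕ) := (List.range 22).map fun i => upW i ++ (upWn (ce i) 11).reverse

theorem code_ok : Mult.oneOK codeChk = true ∧ ∀ i < 22, ce i < 2048 := by decide +kernel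

theorem um_code {i : ℕ} (hi : i < 22) : um i = eA (ce i) := by
  have h := Mult.oneOK_spec code_ok.1 (List.mem_map.mpr ⟨i, List.mem_range.mpr hi, rfl⟩)
  rw [List.map_append, List.prod_append, ← prod_rev, mul_inv_eq_one] at h
  exact h.trans (elF_upWn _ _)

theorem t_code : tA = eA 1024 := by
  simp [eA, enA, bitE, Nat.testBit, Nat.shiftRight_eq_div_pow]

/-- the subgroup -/
noncomputable def AK : Subgroup ↥Ksub where
  carrier := {x | ∃ c < 2048, (x : F23) = eA c}
  mul_mem' := by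
    rintro x y ⟨c, hc, hx⟩ ⟨d, hd, hy⟩
    exact ⟨Nat.xor c d, Nat.xor_lt_two_pow (n := 11) hc hd, by rw [Subgroup.coe_mul, hx, hy, eA_mul]⟩
  one_mem' := ⟨0, by norm_num, eA_zero.symm⟩
  inv_mem' := by
    rintro x ⟨c, hc, hx⟩
    exact ⟨c, hc, by rw [Subgroup.coe_inv, hx]; exact inv_eq_of_mul_eq_one_left (eA_sq c)⟩

theorem mem_AK {c : ℕ} (hc : c < 2048) : (⟨eA c, eA_K c⟩ : ↥Ksub) ∈ AK := ⟨c, hc, rfl⟩

theorem card_AK : Nat.card ↥AK = 2048 := by
  have e : Nat.card ↥AK = Nat.card (Fin 2048) := (Nat.card_congr (Equiv.ofBijective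
    (fun c : Fin 2048 => (⟨⟨eA c.val, eA_K _⟩, mem_AK c.2⟩ : ↥AK))
    ⟨fun c d h => Fin.ext (eA_inj c.2 d.2 (congrArg (fun z : ↥AK => ((z : ↥Ksub) : F23)) h)),
      fun ⟨x, c, hc, h⟩ => ⟨⟨c, hc⟩, Subtype.ext (Subtype.ext h.symm)⟩⟩)).symm
  rw [e, Nat.card_fin]

theorem elem_AK : TSULift.Elem AK 2048 := by
  refine ⟨fun x ⟨c, _, hx⟩ => Subtype.ext ?_, card_AK.ge⟩
  show (x : F23) * x = 1
  rw [hx, eA_sq]

theorem map_AK : AK.map toFi22 = Syl.EE := by
  haveI := Fi22Cert.order.1
  haveI := card_Ksub.1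
  refine Subgroup.eq_of_le_of_card_ge ?_ ?_
  · rintro _ ⟨x, ⟨c, -, hx⟩, rfl⟩
    refine ⟨c % 1024, Nat.mod_lt _ (by norm_num), ?_⟩
    rw [show x = ⟨eA c, eA_K c⟩ from Subtype.ext hx, toFi22_eA, Syl.eG, Syl.eG, en_mod _ 10 le_rfl]
  · have h1 : Nat.card ↥AK ≤ Nat.card ↥((AK.map toFi22).comap toFi22) :=
      Subgroup.card_le_of_le (Subgroup.le_comap_map _ _)
    rw [card_AK, TSULift.card_comap toFi22_surjective, ker_card] at h1
    rw [Syl.card_EE]
    omega

/-- large elementary abelian subgroups of the centraliser are conjugate -/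
theorem conjTo_AK : TSULift.ConjTo AK 2048 := by
  haveI := card_Ksub.1
  haveI := Fi22Cert.order.1
  have h := TSULift.conjTo_up (q := toFi22) toFi22_surjective ker_card (A := Syl.EE) Syl.card_EE
    fun B hB => TSU.big_conj hB
  have e : Syl.EE.comap toFi22 = AK := by
    refine (Subgroup.eq_of_le_of_card_ge ?_ ?_).symm
    · rw [← map_AK]; exact Subgroup.le_comap_map _ _
    · rw [TSULift.card_comap toFi22_surjective, ker_card, Syl.card_EE, card_AK]
  rw [← e]
  exact h

end Cfsg.Agent.Spor.CentFi22
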