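import Cfsg.Agent.Lib.Spor.Fi22O7
import Cfsg.Agent.Lib.Spor.ReflThree
import Cfsg.Agent.Lib.Classical.OrthForms

/-!
The reflection group of a seven-dimensional space over three elements modulo its centre is the simple
orthogonal group.
-/

set_option autoImplicit false
set_option maxRecDepth 100000
set_option linter.unusedSectionVars false

namespace Cfsg.Agent.Spor.CentFi22.Refl7

open Matrix
open Cfsg.Agent.Classical

/-- the coordinates -/
def co : Fin 7 → (Fin 3 ⊕ Fin 3) ⊕ Unit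
  | 0 => .inr ()
  | 1 => .inl (.inl 0)
  | 2 => .inl (.inl 1)
  | 3 => .inl (.inl 2)
  | 4 => .inl (.inr 0)
  | 5 => .inl (.inr 1)
  | 6 => .inl (.inr 2)

/-- the coordinates back -/
def coInv : (Fin 3 ⊕ Fin 3) ⊕ Unit → Fin 7
  | .inr () => 0
  | .inl (.inl i) => ![1, 2, 3] i
  | .inl (.inr i) => ![4, 5, 6] i

theorem co_left : ∀ i, coInv (co i) = i := by decide
theorem co_right : ∀ i, co (coInv i) = i := by decide

/-- the coordinates as an equivalence -/
def coEquiv : Fin 7 ≃ (Fin 3 ⊕ Fin 3) ⊕ Unit := ⟨co, coInv, co_left, co_right⟩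

/-- the form by a formula -/
def qx (v : Fin 7 → ZMod 3) : ZMod 3 := v 0 * v 0 + (v 1 * v 4 + v 2 * v 5 + v 3 * v 6)

/-- the form -/
noncomputable def Q : QuadraticForm (ZMod 3) (Fin 7 → ZMod 3) :=
  OOmega.formOf 3 coEquiv (OCount.lineForm (ZMod 3))

theorem coe_Q : ⇑Q = qx := funext fun v => by
  rw [Q, OOmega.formOf_apply, OCount.stdQ_apply,
    show ∀ z, OCount.lineForm (ZMod 3) z = z () * z () from fun z => rfl]
  simp [qx, coEquiv, coInv, Fin.sum_univ_three]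
  ring

theorem pnd : OCount.PND Q := OOmega.formOf_pnd (OOmega.pnd_line (F := ZMod 3) (by decide))

theorem nondeg : (QuadraticMap.polarBilin Q).Nondegenerate := ORefl.nondeg pnd

theorem disc : Cfsg.polarGramDet qx = 1 := by
  show (Matrix.of fun i j : Fin 7 => QuadraticMap.polar qx (Pi.single i 1) (Pi.single j 1)).det = (1 : ZMod 3)
  let M : Matrix (Fin 7) (Fin 7) (ZMod 3) := Matrix.of fun i j : Fin 7 =>
    if i = 0 ∧ j = 0 then 2 else if (i.val + 3 = j.val ∧ i ≠ 0) ∨ (j.val + 3 = i.val ∧ j ≠ 0) then 1 else 0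
  have e : (Matrix.of fun i j : Fin 7 => QuadraticMap.polar qx (Pi.single i (1 : ZMod 3)) (Pi.single j 1)) = M := by
    decide +kernel
  rw [e]
  have hM : M = Matrix.reindex coEquiv.symm coEquiv.symm
      (Matrix.fromBlocks (Matrix.fromBlocks 0 1 1 0) 0 0 (2 : Matrix Unit Unit (ZMod 3))) := by
    decide +kernel
  rw [hM, Matrix.det_reindex_self, Matrix.det_fromBlocks_zero₂₁, Matrix.det_unique (2 : Matrix Unit Unit (ZMod 3)),
    show (2 : Matrix Unit Unit (ZMod 3)) default default = 2 from by decide +kernel]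
  let I3 : Matrix (Fin 3) (Fin 3) (ZMod 3) := 1
  let O3 : Matrix (Fin 3) (Fin 3) (ZMod 3) := 0
  have h2 : Matrix.fromBlocks O3 I3 I3 O3 =
      (Matrix.fromBlocks I3 I3 O3 I3) * (Matrix.fromBlocks I3 O3 (-I3) I3) * (Matrix.fromBlocks I3 I3 O3 I3) *
        (Matrix.fromBlocks (-I3) O3 O3 I3) := by decide +kernel
  rw [h2, Matrix.det_mul, Matrix.det_mul, Matrix.det_mul, Matrix.det_fromBlocks_zero₂₁,
    Matrix.det_fromBlocks_zero₁₂, Matrix.det_fromBlocks_zero₂₁, Matrix.det_neg]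
  simp
  decide +kernel

/-- the coordinates of the standard form -/
def e7 : Unit ⊕ (Fin 3 ⊕ Fin 3) ≃ Fin 7 := (Equiv.sumComm Unit (Fin 3 ⊕ Fin 3)).trans coEquiv.symm

theorem qf_eq (v : Fin 7 → ZMod 3) : Cfsg.quadFormOdd 3 (ZMod 3) (v ∘ e7) = qx v := by
  simp [Cfsg.quadFormOdd, qx, e7, coEquiv, coInv, Fin.sum_univ_three, sq]

/-- matrices in the two coordinate systems -/
noncomputable def glE : GL (Unit ⊕ (Fin 3 ⊕ Fin 3)) (ZMod 3) ≃* GL (Fin 7) (ZMod 3) :=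
  Units.mapEquiv (Matrix.reindexAlgEquiv (ZMod 3) (ZMod 3) e7).toMulEquiv

theorem glE_mulVec (g : GL (Unit ⊕ (Fin 3 ⊕ Fin 3)) (ZMod 3)) (v : Fin 7 → ZMod 3) :
    (((glE g : GL (Fin 7) (ZMod 3)) : Matrix (Fin 7) (Fin 7) (ZMod 3)) *ᵥ v) ∘ e7 =
      (g : Matrix (Unit ⊕ (Fin 3 ⊕ Fin 3)) (Unit ⊕ (Fin 3 ⊕ Fin 3)) (ZMod 3)) *ᵥ (v ∘ e7) := by
  funext i
  show (Matrix.reindex e7 e7 (g : Matrix _ _ (ZMod 3)) *ᵥ v) (e7 i) = _
  rw [Matrix.reindex_apply, Matrix.submatrix_mulVec_equiv]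
  simp [Function.comp_def]

theorem glE_iff (g : GL (Unit ⊕ (Fin 3 ⊕ Fin 3)) (ZMod 3)) :
    glE g ∈ Cfsg.isometryGroup (ZMod 3) qx ↔ g ∈ Cfsg.isometryGroup (ZMod 3) (Cfsg.quadFormOdd 3 (ZMod 3)) := by
  constructor
  · intro h u w
    show Cfsg.quadFormOdd 3 (ZMod 3) ((g : Matrix _ _ (ZMod 3)) *ᵥ u) = _
    obtain ⟨v, rfl⟩ : ∃ v : Fin 7 → ZMod 3, u = v ∘ e7 := ⟨u ∘ e7.symm, by funext i; simp⟩
    rw [← glE_mulVec]
    show _ = Cfsg.quadFormOdd 3 (ZMod 3) (v ∘ e7)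
    rw [qf_eq, qf_eq]
    exact h v v
  · intro h v w
    show qx (((glE g : GL (Fin 7) (ZMod 3)) : Matrix (Fin 7) (Fin 7) (ZMod 3)) *ᵥ v) = qx v
    rw [← qf_eq, ← qf_eq, glE_mulVec]
    exact h (v ∘ e7) (v ∘ e7)

/-- the isometry groups -/
noncomputable def isoE : ↥(Cfsg.isometryGroup (ZMod 3) (Cfsg.quadFormOdd 3 (ZMod 3))) ≃*
    ↥(Cfsg.isometryGroup (ZMod 3) qx) where
  toFun g := ⟨glE g.1, (glE_iff g.1).mpr g.2⟩
  invFun g := ⟨glE.symm g.1, (glE_iff _).mp (by rw [glE.apply_symm_apply]; exact g.2)⟩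
  left_inv g := Subtype.ext (glE.symm_apply_apply _)
  right_inv g := Subtype.ext (glE.apply_symm_apply _)
  map_mul' a b := Subtype.ext (map_mul _ _ _)

theorem map_omega : (Cfsg.Omega (ZMod 3) (Cfsg.quadFormOdd 3 (ZMod 3))).map isoE.toMonoidHom =
    Cfsg.Omega (ZMod 3) qx := by
  show (commutator _).map isoE.toMonoidHom = commutator _
  rw [commutator_def, Subgroup.map_commutator, Subgroup.map_top_of_surjective _ isoE.surjective,
    ← commutator_def]

/-- the commutator subgroups -/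
noncomputable def omE : ↥(Cfsg.Omega (ZMod 3) (Cfsg.quadFormOdd 3 (ZMod 3))) ≃* ↥(Cfsg.Omega (ZMod 3) qx) :=
  (isoE.subgroupMap _).trans (MulEquiv.subgroupCongr map_omega)

theorem finite_omega : Finite ↥(Cfsg.Omega (ZMod 3) qx) := inferInstance

theorem card_om : Nat.card ↥(Cfsg.Omega (ZMod 3) qx) = 4585351680 := by
  rw [← Nat.card_congr omE.toEquiv]
  exact Fi22Cert.O7Act.card_omega7

theorem center_om : Subgroup.center ↥(Cfsg.Omega (ZMod 3) qx) = ⊥ := by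
  have h0 : Subgroup.center ↥(Cfsg.Omega (ZMod 3) (Cfsg.quadFormOdd 3 (ZMod 3))) = ⊥ := by
    have hz : Function.Bijective
        (QuotientGroup.mk' (Subgroup.center (Cfsg.Omega (ZMod 3) (Cfsg.quadFormOdd 3 (ZMod 3))))) :=
      (QuotientGroup.mk'_surjective _).bijective_of_nat_card_le
        (le_of_eq (Fi22Cert.O7Act.card_omega7.trans Fi22Cert.O7Act.card_pomega7.symm))
    rw [← QuotientGroup.ker_mk' (Subgroup.center (Cfsg.Omega (ZMod 3) (Cfsg.quadFormOdd 3 (ZMod 3))))]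
    exact (MonoidHom.ker_eq_bot_iff _).mpr hz.1
  rw [Subgroup.eq_bot_iff_forall]
  intro z hz
  have : omE.symm z ∈ Subgroup.center ↥(Cfsg.Omega (ZMod 3) (Cfsg.quadFormOdd 3 (ZMod 3))) :=
    Subgroup.mem_center_iff.mpr fun u => omE.injective (by
      rw [map_mul, map_mul, omE.apply_symm_apply, Subgroup.mem_center_iff.mp hz])
  rw [h0, Subgroup.mem_bot] at this
  rw [← omE.apply_symm_apply z, this, map_one]

/-- seven orthogonal vectors of norm two -/
def fr7 : List (Fin 7 → ZMod 3) :=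
  [![0, 1, 0, 0, 2, 0, 0], ![0, 0, 1, 0, 0, 2, 0], ![0, 0, 0, 1, 0, 0, 2],
    ![0, 1, 1, 0, 1, 1, 0], ![0, 1, 2, 0, 1, 2, 0], ![1, 0, 0, 1, 0, 0, 1], ![2, 0, 0, 1, 0, 0, 1]]

theorem fr7_ok : (∀ v ∈ fr7, qx v = 2) ∧
    (fr7.map (Cfsg.reflectionMatrix qx)).prod = -1 := by decide +kernel

/-- the group generated by the reflections -/
abbrev RS : Subgroup ↥(Cfsg.isometryGroup (ZMod 3) qx) := Cfsg.reflectionSubgroup qx 2

theorem rs_index : RS.index = 2 := by
  have h := ReflThree.index_eq pnd (by rw [Fintype.card_fin]; norm_num) (c := 2) (by decide)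
  rwa [coe_Q] at h

theorem om_le : Cfsg.Omega (ZMod 3) qx ≤ RS := by
  haveI := Subgroup.normal_of_index_eq_two rs_index
  have hcomm : ∀ a b : ↥(Cfsg.isometryGroup (ZMod 3) qx) ⧸ RS, a * b = b * a := by
    have hc : Nat.card (↥(Cfsg.isometryGroup (ZMod 3) qx) ⧸ RS) = 2 := rs_index
    haveI : Fact (Nat.Prime 2) := ⟨Nat.prime_two⟩
    haveI := isCyclic_of_prime_card hc
    exact fun a b => (IsCyclic.commGroup (α := ↥(Cfsg.isometryGroup (ZMod 3) qx) ⧸ RS)).mul_comm a b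
  show commutator _ ≤ _
  rw [commutator_def, Subgroup.commutator_le]
  intro a _ b _
  rw [← QuotientGroup.eq_one_iff, ← QuotientGroup.mk'_apply, map_commutatorElement,
    commutatorElement_eq_one_iff_mul_comm]
  exact hcomm _ _

theorem card_rs : Nat.card ↥RS = 2 * 4585351680 := by
  have h1 := Subgroup.card_mul_index RS
  have h2 := Subgroup.card_mul_index (Cfsg.Omega (ZMod 3) qx)
  have hi : (Cfsg.Omega (ZMod 3) qx).index = 4 := by
    rw [← coe_Q]
    exact OOmega.index_omega_odd (by decide) pnd (by simp)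
  rw [rs_index] at h1
  rw [hi, card_om] at h2
  omega

theorem center_two : ∃ z ∈ Subgroup.center ↥RS, z ≠ 1 := by
  have h : ∀ v ∈ fr7, ∃ g : ↥RS, ((g.1.1 : GL (Fin 7) (ZMod 3)) : Matrix (Fin 7) (Fin 7) (ZMod 3)) =
      Cfsg.reflectionMatrix qx v := by
    intro v hv
    have h1 := ORefl.toMat_refl (Q := Q) v
    have hm : ∀ f (_ : f = qx) (g : ↥(Cfsg.isometryGroup (ZMod 3) f)),
        ((g.1 : GL (Fin 7) (ZMod 3)) : Matrix (Fin 7) (Fin 7) (ZMod 3)) = Cfsg.reflectionMatrix f v →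
        ∃ g : ↥RS, ((g.1.1 : GL (Fin 7) (ZMod 3)) : Matrix (Fin 7) (Fin 7) (ZMod 3)) =
          Cfsg.reflectionMatrix qx v := by
      rintro f rfl g hg
      exact ⟨⟨g, Subgroup.subset_closure ⟨v, fr7_ok.1 v hv, hg⟩⟩, hg⟩
    exact hm _ coe_Q _ h1
  choose g hg using h
  let l : List ↥RS := fr7.attach.map fun v => g v.1 v.2
  have hl : ((l.prod.1.1 : GL (Fin 7) (ZMod 3)) : Matrix (Fin 7) (Fin 7) (ZMod 3)) = -1 := by
    let φ : ↥RS →* Matrix (Fin 7) (Fin 7) (ZMod 3) :=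
      (Units.coeHom _).comp ((Cfsg.isometryGroup (ZMod 3) qx).subtype.comp RS.subtype)
    show φ l.prod = -1
    rw [map_list_prod, List.map_map,
      show φ ∘ (fun v : {x // x ∈ fr7} => g v.1 v.2) = (Cfsg.reflectionMatrix qx) ∘ Subtype.val from
        funext fun v => hg v.1 v.2,
      ← List.map_map, List.attach_map_subtype_val]
    exact fr7_ok.2
  refine ⟨l.prod, Subgroup.mem_center_iff.mpr fun y => Subtype.ext (Subtype.ext (Units.ext ?_)), fun e => ?_⟩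
  · show (y.1.1 : Matrix (Fin 7) (Fin 7) (ZMod 3)) * (l.prod.1.1 : Matrix (Fin 7) (Fin 7) (ZMod 3)) =
      (l.prod.1.1 : Matrix (Fin 7) (Fin 7) (ZMod 3)) * (y.1.1 : Matrix (Fin 7) (Fin 7) (ZMod 3))
    rw [hl, mul_neg, neg_mul, one_mul, mul_one]
  · rw [e] at hl
    exact absurd (congrFun (congrFun hl 0) 0) (by decide)

/-- the projective reflection group is the orthogonal group -/
theorem proj_refl : Cfsg.IsProjReflectionGroupModThree ↥(Cfsg.Omega (ZMod 3) qx) 7 (-2) 2 := by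
  refine ⟨Q, nondeg, by rw [coe_Q, disc]; decide, ?_⟩
  suffices H : ∀ q, q = qx → Nonempty (↥(Cfsg.Omega (ZMod 3) qx) ≃*
      ↥(Cfsg.reflectionSubgroup q 2) ⧸ Subgroup.center ↥(Cfsg.reflectionSubgroup q 2)) from H _ coe_Q
  rintro _ rfl
  let f : ↥(Cfsg.Omega (ZMod 3) qx) →* ↥RS ⧸ Subgroup.center ↥RS :=
    (QuotientGroup.mk' _).comp (Subgroup.inclusion om_le)
  have hf : Function.Injective f := by
    rw [← MonoidHom.ker_eq_bot_iff, Subgroup.eq_bot_iff_forall]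
    intro z hz
    have h1 : Subgroup.inclusion om_le z ∈ Subgroup.center ↥RS := (QuotientGroup.eq_one_iff _).mp hz
    have h2 : z ∈ Subgroup.center ↥(Cfsg.Omega (ZMod 3) qx) := Subgroup.mem_center_iff.mpr fun u =>
      Subgroup.inclusion_injective om_le (by
        rw [map_mul, map_mul, Subgroup.mem_center_iff.mp h1])
    rwa [center_om, Subgroup.mem_bot] at h2
  have hcard : Nat.card (↥RS ⧸ Subgroup.center ↥RS) ≤ 4585351680 := by
    have h := Subgroup.card_eq_card_quotient_mul_card_subgroup (Subgroup.center ↥RS)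
    obtain ⟨z, hz, hz1⟩ := center_two
    have : 2 ≤ Nat.card ↥(Subgroup.center ↥RS) := by
      haveI : Nontrivial ↥(Subgroup.center ↥RS) := ⟨⟨⟨z, hz⟩, 1, fun e => hz1 (congrArg Subtype.val e)⟩⟩
      exact Finite.one_lt_card
    rw [card_rs] at h
    nlinarith
  exact ⟨MulEquiv.ofBijective f (hf.bijective_of_nat_card_le (by rw [card_om]; exact hcard))⟩

end Cfsg.Agent.Spor.CentFi22.Refl7
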