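import Cfsg.Agent.Lib.Spor.CentFi22.Model
import Cfsg.Agent.Lib.Spor.CentFi22.Refl7

/-!
The presented group Fi23 with its transpositions is of type M(23).
-/

set_option autoImplicit false
set_option maxRecDepth 100000
set_option linter.unusedSectionVars false

namespace Cfsg.Agent.Spor.CentFi22

open Cfsg.Agent.Spor.Fi23Cert
open Cfsg.Agent.Spor.Fi23Cert.Below
open Cfsg.Agent.Spor.M22U (nset)
open Cfsg.Agent.Spor.M23Rel.TwoOrb

theorem inter_TT : nset DF tA ∩ nset DF tB = TT := by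
  ext u
  constructor
  · rintro ⟨⟨h1, -, h2⟩, -, -, h3⟩
    exact ⟨h1, h2, h3⟩
  · rintro ⟨h1, h2, h3⟩
    exact ⟨⟨h1, fun e => not_comm (by rw [e] at h3; exact h3.symm), h2⟩, h1,
      fun e => not_comm (by rw [e] at h2; exact h2), h3⟩

theorem pair_omega : Nonempty (↥C2 ≃* ↥(Cfsg.Omega (ZMod 3) Refl7.qx)) := by
  obtain ⟨φ⟩ := K0_equiv
  have hz : Function.Bijective
      (QuotientGroup.mk' (Subgroup.center (Cfsg.Omega (ZMod 3) (Cfsg.quadFormOdd 3 (ZMod 3))))) :=
    (QuotientGroup.mk'_surjective _).bijective_of_nat_card_le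
      (le_of_eq (Fi22Cert.O7Act.card_omega7.trans Fi22Cert.O7Act.card_pomega7.symm))
  exact ⟨(((MulEquiv.subgroupCongr K0_eq.symm).trans φ).trans (MulEquiv.ofBijective _ hz).symm).trans Refl7.omE⟩

theorem proj_congr {X Y : Type*} [Group X] [Group Y] (f : X ≃* Y) {n : ℕ} {μ c : ZMod 3}
    (h : Cfsg.IsProjReflectionGroupModThree Y n μ c) : Cfsg.IsProjReflectionGroupModThree X n μ c := by
  obtain ⟨Q, hQ, hμ, ⟨e⟩⟩ := h
  exact ⟨Q, hQ, hμ, ⟨f.trans e⟩⟩

theorem pair_refl : Cfsg.IsProjReflectionGroupModThree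
    (↥(Subgroup.closure (nset DF tA ∩ nset DF tB)) ⧸
      Subgroup.center ↥(Subgroup.closure (nset DF tA ∩ nset DF tB))) 7 (-2) 2 := by
  obtain ⟨ψ⟩ := pair_omega
  let f := (MulEquiv.subgroupCongr (show Subgroup.closure (nset DF tA ∩ nset DF tB) = C2 by
    rw [inter_TT, closure_TT])).trans ψ
  have hc : Subgroup.center ↥(Subgroup.closure (nset DF tA ∩ nset DF tB)) = ⊥ := by
    rw [Subgroup.eq_bot_iff_forall]
    intro z hz
    have h1 : f z ∈ Subgroup.center ↥(Cfsg.Omega (ZMod 3) Refl7.qx) := Subgroup.mem_center_iff.mpr fun u => by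
      obtain ⟨v, rfl⟩ := f.surjective u
      rw [← map_mul, ← map_mul, Subgroup.mem_center_iff.mp hz]
    rw [Refl7.center_om, Subgroup.mem_bot] at h1
    exact f.map_eq_one_iff.mp h1
  exact proj_congr (((QuotientGroup.quotientMulEquivOfEq hc).trans QuotientGroup.quotientBot).trans f)
    Refl7.proj_refl

theorem type23 : Cfsg.IsOfTypeM23 F23 DF :=
  ⟨center23, tA, A_mem, tB, B_mem, not_comm, next22, 2, by decide, pair_refl⟩

theorem noRel23 : ∀ k, 1 ≤ k → k ≤ 6 → M23Rel.NoRel k DF := by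
  haveI := order.1
  exact M23Rel.Invol.noRel group23 prim23 type23

end Cfsg.Agent.Spor.CentFi22
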