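import Cfsg.Agent.Lib.Spor.CentFi22.Tuples
import Cfsg.Agent.Lib.Spor.CentFi22.Type23
import Cfsg.Agent.Lib.Spor.CentFi22.SylA

/-!
The classes of involutions of the centraliser of a transposition of Fi23.
-/

set_option autoImplicit false
set_option maxRecDepth 100000
set_option linter.unusedSectionVars false

namespace Cfsg.Agent.Spor.CentFi22

open Cfsg.Agent.Spor.Fi23Cert
open Cfsg.Agent.Spor.Fi23Cert.Below
open Cfsg.Agent.Spor.M22U.InvClasses (Good)

theorem um_ne {i j : ℕ} (hi : i < 22) (hj : j < 22) (h : i ≠ j) : um i ≠ um j := fun e => by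
  have h2 := eA_inj (code_ok.2 i hi) (code_ok.2 j hj) (by rw [← um_code hi, ← um_code hj, e])
  exact h (ce_inj i hi j hj h2)
where
  ce_inj : ∀ i < 22, ∀ j < 22, ce i = ce j → i = j := by decide +kernel

/-- conjugate in the centraliser -/
def KConj (x y : F23) : Prop := ∃ k : ↥Ksub, (k : F23) * x * (k : F23)⁻¹ = y

theorem KConj.symm {x y : F23} (h : KConj x y) : KConj y x := by
  obtain ⟨k, rfl⟩ := h
  exact ⟨k⁻¹, by rw [Subgroup.coe_inv]; group⟩

theorem KConj.trans {x y z : F23} (h : KConj x y) (h' : KConj y z) : KConj x z := by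
  obtain ⟨k, rfl⟩ := h
  obtain ⟨l, rfl⟩ := h'
  exact ⟨l * k, by rw [Subgroup.coe_mul]; group⟩

theorem KConj.mul_t {x y : F23} (h : KConj x y) : KConj (tA * x) (tA * y) := by
  obtain ⟨k, rfl⟩ := h
  refine ⟨k, ?_⟩
  have hk := (mem_K.mp k.2).eq
  calc (k : F23) * (tA * x) * (k : F23)⁻¹ = (k : F23) * tA * x * (k : F23)⁻¹ := by group
    _ = tA * ((k : F23) * x * (k : F23)⁻¹) := by rw [hk]; group

/-- products of two commuting neighbours -/
def IsPair (x : F23) : Prop := ∃ a ∈ Nt, ∃ b ∈ Nt, a ≠ b ∧ Commute a b ∧ x = a * b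

/-- products of three commuting neighbours -/
def IsTriple (x : F23) : Prop := ∃ a ∈ Nt, ∃ b ∈ Nt, ∃ c ∈ Nt,
  a ≠ b ∧ a ≠ c ∧ b ≠ c ∧ Commute a b ∧ Commute a c ∧ Commute b c ∧ x = a * b * c

theorem one_conj {x : F23} (h : x ∈ Nt) : KConj x (um 0) := move1 h (um_Nt (by norm_num))

theorem pair_conj {x : F23} (h : IsPair x) : KConj x (um 0 * um 1) := by
  obtain ⟨a, ha, b, hb, hab, cab, rfl⟩ := h
  obtain ⟨k, h1, h2⟩ := move2 ha hb hab cab (um_Nt (i := 0) (by norm_num)) (um_Nt (i := 1) (by norm_num))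
    (um_ne (by norm_num) (by norm_num) (by norm_num)) (um_comm (by norm_num) (by norm_num))
  exact ⟨k, by rw [← h1, ← h2]; group⟩

theorem triple_conj {x : F23} (h : IsTriple x) : KConj x (um 0 * um 1 * um 2) := by
  obtain ⟨a, ha, b, hb, c, hc, hab, hac, hbc, cab, cac, cbc, rfl⟩ := h
  obtain ⟨k, h1, h2, h3⟩ := move3 ha hb hc hab hac hbc cab cac cbc (um_Nt (i := 0) (by norm_num))
    (um_Nt (i := 1) (by norm_num)) (um_Nt (i := 2) (by norm_num)) (um_ne (by norm_num) (by norm_num) (by norm_num))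
    (um_ne (by norm_num) (by norm_num) (by norm_num)) (um_ne (by norm_num) (by norm_num) (by norm_num))
    (um_comm (by norm_num) (by norm_num)) (um_comm (by norm_num) (by norm_num))
    (um_comm (by norm_num) (by norm_num))
  exact ⟨k, by rw [← h1, ← h2, ← h3]; group⟩

theorem pair_base : IsPair (um 0 * um 1) :=
  ⟨_, um_Nt (by norm_num), _, um_Nt (by norm_num), um_ne (by norm_num) (by norm_num) (by norm_num),
    um_comm (by norm_num) (by norm_num), rfl⟩

theorem IsTriple.conj {x y : F23} (h : IsTriple x) (hxy : KConj x y) : IsTriple y := by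
  obtain ⟨a, ha, b, hb, c, hc, hab, hac, hbc, cab, cac, cbc, rfl⟩ := h
  obtain ⟨k, rfl⟩ := hxy
  have hk := mem_K.mp k.2
  have hne : ∀ {u v : F23}, u ≠ v → (k : F23) * u * (k : F23)⁻¹ ≠ (k : F23) * v * (k : F23)⁻¹ :=
    fun h e => h (mul_left_cancel (mul_right_cancel e))
  exact ⟨_, Nt_conj hk ha, _, Nt_conj hk hb, _, Nt_conj hk hc, hne hab, hne hac, hne hbc,
    Spor.commute_conj_iff.mpr cab, Spor.commute_conj_iff.mpr cac, Spor.commute_conj_iff.mpr cbc, by group⟩

/-- the first member times a triple is a triple -/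
theorem triple_flip {x : F23} (h : IsTriple x) : IsTriple (tA * x) := by
  haveI := order.1
  obtain ⟨l, hn, hl, hm, hc, hp⟩ := M23Rel.Cent.six_prod setting23
  match l, hl with
  | [s1, s2, s3, s4, s5, s6], _ =>
    simp only [List.nodup_cons, List.mem_cons, List.not_mem_nil, or_false, not_or, List.nodup_nil, and_true,
      not_false_eq_true] at hn
    obtain ⟨⟨n12, n13, -, -, -⟩, ⟨n23, -, -, -⟩, -, ⟨n45, n46⟩, n56⟩ := hn
    have c := fun a b ha hb => hc a ha b hb
    have hA : IsTriple (s1 * s2 * s3) := ⟨s1, hm _ (by simp), s2, hm _ (by simp), s3, hm _ (by simp), n12, n13,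
      n23, c _ _ (by simp) (by simp), c _ _ (by simp) (by simp), c _ _ (by simp) (by simp), rfl⟩
    have hB : IsTriple (s4 * s5 * s6) := ⟨s4, hm _ (by simp), s5, hm _ (by simp), s6, hm _ (by simp), n45, n46,
      n56, c _ _ (by simp) (by simp), c _ _ (by simp) (by simp), c _ _ (by simp) (by simp), rfl⟩
    have hsq : ∀ a ∈ [s1, s2, s3, s4, s5, s6], a * a = 1 := fun a ha =>
      (M23Rel.pre_of_group group23).sq a (hm a ha).1
    have e : tA * (s4 * s5 * s6) = s1 * s2 * s3 := by
      have hB2 : (s4 * s5 * s6) * (s4 * s5 * s6) = 1 := by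
        have := M23Rel.Invol.prod_sq (M23Rel.pre_of_group group23) [s4, s5, s6]
          (fun a ha => (hm a (List.mem_of_mem_drop (i := 3) ha)).1)
          (fun a ha b hb => hc a (List.mem_of_mem_drop (i := 3) ha) b (List.mem_of_mem_drop (i := 3) hb))
        simpa [mul_assoc] using this
      have hp' : tA = s1 * s2 * s3 * (s4 * s5 * s6) := by
        rw [← hp]; simp [mul_assoc]
      rw [hp', mul_assoc _ (s4 * s5 * s6), hB2, mul_one]
    have h4 : KConj (tA * x) (tA * (s4 * s5 * s6)) := ((triple_conj h).trans (triple_conj hB).symm).mul_t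
    rw [e] at h4
    exact hA.conj h4.symm

/-- two members of the subgroup generated by the neighbours with equal images -/
theorem same_image {x p : ↥Ksub} (h : toFi22 x = toFi22 p) : (x : F23) = p ∨ (x : F23) = tA * p := by
  rcases ker_cases (z := x * p⁻¹) (by rw [map_mul, map_inv, h, mul_inv_cancel]) with e | e <;>
    rw [Subgroup.coe_mul, Subgroup.coe_inv] at e
  · exact Or.inl (mul_inv_eq_one.mp e)
  · exact Or.inr (mul_inv_eq_iff_eq_mul.mp e)

theorem exists_pre {u : Fi22Cert.pres.Grp} (hu : u ∈ Top22.D22) :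
    ∃ y : F23, ∃ hy : y ∈ Nt, toFi22 ⟨y, Nt_le hy⟩ = u := by
  obtain ⟨y, hy, rfl⟩ := (show u ∈ NtI from NtI_eq ▸ hu)
  exact ⟨y, hy, rfl⟩

theorem pre_comm {y z : F23} (hy : y ∈ Nt) (hz : z ∈ Nt) (h : Commute (img22 y hy) (img22 z hz)) :
    Commute y z := by
  refine M23Rel.commute_lift (M23Rel.pre_of_group group23) tA hy hz (nextEquiv.injective ?_)
  rw [map_mul, map_mul, nextEquiv_mk, nextEquiv_mk]
  exact h.eq

/-- elements with image of order at most two -/
theorem invol_cases {x : ↥Ksub} (hx : toFi22 x * toFi22 x = 1) :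
    (x : F23) = 1 ∨ (x : F23) = tA ∨ (x : F23) ∈ Nt ∨ tA * (x : F23) ∈ Nt ∨ IsPair x ∨
      IsPair (tA * (x : F23)) ∨ IsTriple x := by
  haveI := Fi22Cert.order.1
  by_cases h1 : toFi22 x = 1
  · rcases ker_cases h1 with e | e
    exacts [Or.inl e, Or.inr (Or.inl e)]
  have hord : orderOf (toFi22 x) = 2 := orderOf_eq_prime (by rw [pow_two]; exact hx) h1
  obtain ⟨m, ⟨hn, hm, hc⟩, hm1, hm3, hmp⟩ :=
    M22U.InvClasses.exists_good Top22.group22 Top22.prim22 Top22.type22 hord
  have htt : ∀ z : F23, tA * (tA * z) = z := fun z => by rw [← mul_assoc, tA_sq, one_mul]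
  match m, hm1, hm3 with
  | [u], _, _ =>
    obtain ⟨a, ha, rfl⟩ := exists_pre (hm u (by simp))
    rcases same_image (p := ⟨a, Nt_le ha⟩) (by rw [← hmp]; simp) with e | e
    · exact Or.inr (Or.inr (Or.inl (by rw [e]; exact ha)))
    · exact Or.inr (Or.inr (Or.inr (Or.inl (by rw [e, htt]; exact ha))))
  | [u, v], _, _ =>
    obtain ⟨a, ha, rfl⟩ := exists_pre (hm u (by simp))
    obtain ⟨b, hb, rfl⟩ := exists_pre (hm v (by simp))
    have hab : a ≠ b := fun e => by subst e; simp at hn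
    have cab := pre_comm ha hb (hc _ (by simp [img22]) _ (by simp [img22]))
    have hp : IsPair (a * b) := ⟨a, ha, b, hb, hab, cab, rfl⟩
    rcases same_image (p := ⟨a, Nt_le ha⟩ * ⟨b, Nt_le hb⟩) (by rw [← hmp, map_mul]; simp) with e | e
    · exact Or.inr (Or.inr (Or.inr (Or.inr (Or.inl (by rw [e]; exact hp)))))
    · exact Or.inr (Or.inr (Or.inr (Or.inr (Or.inr (Or.inl (by rw [e, htt]; exact hp))))))
  | [u, v, w], _, _ =>
    obtain ⟨a, ha, rfl⟩ := exists_pre (hm u (by simp))
    obtain ⟨b, hb, rfl⟩ := exists_pre (hm v (by simp))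
    obtain ⟨c, hc', rfl⟩ := exists_pre (hm w (by simp))
    have hab : a ≠ b := fun e => by subst e; simp at hn
    have hac : a ≠ c := fun e => by subst e; simp at hn
    have hbc : b ≠ c := fun e => by subst e; simp at hn
    have hp : IsTriple (a * b * c) := ⟨a, ha, b, hb, c, hc', hab, hac, hbc,
      pre_comm ha hb (hc _ (by simp [img22]) _ (by simp [img22])), pre_comm ha hc' (hc _ (by simp [img22]) _ (by simp [img22])),
      pre_comm hb hc' (hc _ (by simp [img22]) _ (by simp [img22])), rfl⟩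
    refine Or.inr (Or.inr (Or.inr (Or.inr (Or.inr (Or.inr ?_)))))
    rcases same_image (p := ⟨a, Nt_le ha⟩ * ⟨b, Nt_le hb⟩ * ⟨c, Nt_le hc'⟩)
      (by rw [← hmp, map_mul, map_mul]; simp [mul_assoc]) with e | e
    · rw [e]; exact hp
    · rw [e]; exact triple_flip hp

theorem pair_sq {x : F23} (h : IsPair x) : x * x = 1 := by
  obtain ⟨a, ha, b, hb, -, cab, rfl⟩ := h
  have ha2 := (M23Rel.pre_of_group group23).sq a ha.1
  have hb2 := (M23Rel.pre_of_group group23).sq b hb.1
  calc a * b * (a * b) = a * (b * a) * b := by group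
    _ = (a * a) * (b * b) := by rw [← cab.eq]; group
    _ = 1 := by rw [ha2, hb2, one_mul]

theorem triple_sq {x : F23} (h : IsTriple x) : x * x = 1 := by
  obtain ⟨a, ha, b, hb, c, hc, -, -, -, cab, cac, cbc, rfl⟩ := h
  have hE := M23Rel.pre_of_group group23
  have := M23Rel.Invol.prod_sq hE [a, b, c]
    (by simp only [List.mem_cons, List.not_mem_nil, or_false]; rintro z (rfl | rfl | rfl)
        exacts [ha.1, hb.1, hc.1])
    (by simp only [List.mem_cons, List.not_mem_nil, or_false]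
        rintro z (rfl | rfl | rfl) z' (rfl | rfl | rfl)
        exacts [Commute.refl _, cab, cac, cab.symm, Commute.refl _, cbc, cac.symm, cbc.symm, Commute.refl _])
  simpa [mul_assoc] using this

/-- lifts of involutions of Fi22 are involutions -/
theorem lift_sq {x : ↥Ksub} (hx : toFi22 x * toFi22 x = 1) : x * x = 1 := by
  apply Subtype.ext
  show (x : F23) * x = 1
  have hflip : ∀ {z : F23}, Commute z tA → (tA * z) * (tA * z) = 1 → z * z = 1 := fun {z} hz h => by
    calc z * z = (tA * tA) * (z * z) := by rw [tA_sq, one_mul]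
      _ = tA * (tA * z) * z := by group
      _ = tA * (z * tA) * z := by rw [← hz.eq]
      _ = 1 := by rw [← h]; group
  have hE := M23Rel.pre_of_group group23
  rcases invol_cases hx with h | h | h | h | h | h | h
  · rw [h, one_mul]
  · rw [h, tA_sq]
  · exact hE.sq _ h.1
  · exact hflip (mem_K.mp x.2) (hE.sq _ h.1)
  · exact pair_sq h
  · exact hflip (mem_K.mp x.2) (pair_sq h)
  · exact triple_sq h

theorem t_no_root (r : ↥Ksub) : (r : F23) * r ≠ tA := fun e => by
  have h1 : toFi22 r * toFi22 r = 1 := by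
    rw [← map_mul, show r * r = ⟨tA, tA_mem⟩ from Subtype.ext e, toFi22_tA]
  have h2 := congrArg Subtype.val (lift_sq h1)
  exact tA_ne_one (e.symm.trans h2)

theorem root_chk : Mult.oneOK [[0, 1, 2, 0, 1, 2] ++ [1, 2, 1, 0, 1, 0].map id] = true ∧
    ∃ p, p < 300 ∧ CC.ev RepA.rows 10 [0, 1, 0, 1, 2, 1] p ≠ p := by decide +kernel

open Cfsg.Agent.Spor.CC in
/-- a product of two commuting neighbours is a square -/
theorem pair_root {x : F23} (h : IsPair x) : ∃ r : ↥Ksub, (r : F23) * r = x := by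
  haveI := order.1
  have g : ∀ k, k < 3 → pres.gen k ∈ Nt := fun k hk => by
    have := gen_Nt (x := k) (by omega)
    rwa [show lets.getD k 0 = k by interval_cases k <;> rfl] at this
  have hsq : ∀ k, pres.gen k * pres.gen k = 1 := fun k => Pres.gen_sq pres_ok k
  have hgi : ∀ k, (pres.gen k)⁻¹ = pres.gen k := fun k => inv_eq_of_mul_eq_one_left (hsq k)
  set a := pres.gen 0 * pres.gen 1 * (pres.gen 0)⁻¹
  set b := pres.gen 1 * pres.gen 2 * (pres.gen 1)⁻¹
  have ha : a ∈ Nt := Nt_conj (g 0 (by norm_num)).2.2.symm (g 1 (by norm_num))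
  have hb : b ∈ Nt := Nt_conj (g 1 (by norm_num)).2.2.symm (g 2 (by norm_num))
  obtain ⟨hW, p, hp, hmv⟩ := root_chk
  have he : pres.gen 0 * pres.gen 1 * pres.gen 2 * (pres.gen 0 * pres.gen 1 * pres.gen 2) = a * b := by
    have h1 := Mult.oneOK_spec hW (List.mem_singleton_self _)
    simp only [List.cons_append, List.nil_append, List.map_id, List.map_cons, List.map_nil, List.prod_cons,
      List.prod_nil, mul_one] at h1
    simp only [← mul_assoc] at h1 ⊢
    rw [eq_inv_of_mul_eq_one_left (a := pres.gen 0 * pres.gen 1 * pres.gen 2 * pres.gen 0 * pres.gen 1 * pres.gen 2)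
      (b := pres.gen 1 * pres.gen 2 * pres.gen 1 * pres.gen 0 * pres.gen 1 * pres.gen 0) (by
        simp only [← mul_assoc]; exact h1)]
    simp only [a, b, mul_inv_rev, hgi, ← mul_assoc]
  have hne : a ≠ b := fun e => by
    apply hmv
    have e1 : (([0, 1, 0, 1, 2, 1] : List ℕ).map pres.gen).prod = 1 := by
      have : a * b = 1 := by rw [← e]; exact (M23Rel.pre_of_group group23).sq a ha.1
      rw [← this]; simp [a, b, hgi, mul_assoc]
    have h1 := congrArg (fun r => ((rep.hom r ⟨p, by show p < 31671; omega⟩ : Fin rep.P.n) : ℕ)) e1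
    rw [CC.ev_eq rep.valid pres.gen rep.hom rep.hom_gen (by decide), map_one] at h1
    exact h1
  have cab : Commute a b := by
    have hw : (pres.gen 0 * pres.gen 1 * pres.gen 2) * (pres.gen 0 * pres.gen 1 * pres.gen 2) = a * b := he
    have hE := M23Rel.pre_of_group group23
    by_contra hn
    obtain ⟨h3, -⟩ := hE.braid ha.1 hb.1 hn
    exact hn (comm_of hW2)
  obtain ⟨k, hk⟩ := (pair_conj h).trans (pair_conj ⟨a, ha, b, hb, hne, cab, rfl⟩).symm
  refine ⟨k⁻¹ * (⟨_, Nt_le (g 0 (by norm_num))⟩ * ⟨_, Nt_le (g 1 (by norm_num))⟩ *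
    ⟨_, Nt_le (g 2 (by norm_num))⟩) * k, ?_⟩
  have hx : x = (k : F23)⁻¹ * (a * b) * k := by rw [← hk]; group
  rw [hx, ← he]
  simp only [Subgroup.coe_mul, Subgroup.coe_inv]
  group
where
  hW2 : Mult.oneOK [[0, 1, 0, 1, 2, 1, 0, 1, 0, 1, 2, 1]] = true := by decide +kernel
  comm_of (h : Mult.oneOK [[0, 1, 0, 1, 2, 1, 0, 1, 0, 1, 2, 1]] = true) :
      Commute (pres.gen 0 * pres.gen 1 * (pres.gen 0)⁻¹) (pres.gen 1 * pres.gen 2 * (pres.gen 1)⁻¹) := by
    have h1 := Mult.oneOK_spec h (List.mem_singleton_self _)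
    have hgi : ∀ k, (pres.gen k)⁻¹ = pres.gen k := fun k =>
      inv_eq_of_mul_eq_one_left (Pres.gen_sq pres_ok k)
    simp only [List.map_cons, List.map_nil, List.prod_cons, List.prod_nil, mul_one, ← mul_assoc] at h1
    have h2 := eq_inv_of_mul_eq_one_left (a := pres.gen 0 * pres.gen 1 * pres.gen 0 * pres.gen 1 * pres.gen 2 * pres.gen 1)
      (b := pres.gen 0 * pres.gen 1 * pres.gen 0 * pres.gen 1 * pres.gen 2 * pres.gen 1) (by
        simp only [← mul_assoc]; exact h1)
    show _ = _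
    simp only [hgi, mul_inv_rev, ← mul_assoc] at h2 ⊢
    exact h2

end Cfsg.Agent.Spor.CentFi22
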