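import Cfsg.Agent.Lib.Spor.CentFi22.Top22
import Cfsg.Agent.Lib.Spor.Fi23OutPoints
import Cfsg.Agent.Lib.Spor.M23RelTwoIso
import Cfsg.Agent.Lib.Spor.M23RelShift
import Cfsg.Agent.Lib.Spor.M23RelInvol

/-!
The transpositions of the presented group Fi23 commuting with a given one, and their images in Fi22.
-/

set_option autoImplicit false
set_option maxRecDepth 100000
set_option linter.unusedSectionVars false

namespace Cfsg.Agent.Spor.CentFi22

open Cfsg.Agent.Spor.CC
open Cfsg.Agent.Spor.Fi23Cert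
open Cfsg.Agent.Spor.Fi23Cert.Below
open Cfsg.Agent.Spor.M22U (nset)
open Cfsg.Agent.Spor.M23Rel (pre_of_group nextSet NoRel)

/-- the group -/
abbrev F23 : Type := Fi23Cert.pres.Grp

/-- the transpositions of Fi23 -/
abbrev DF : Set F23 := conjugatesOf tA

/-- the members commuting with the first one -/
abbrev Nt : Set F23 := nset DF tA

theorem finite23 : Finite F23 := order.1

theorem group23 : Cfsg.IsThreeTranspositionGroup DF := Spor.class_isGroup class_transp

theorem mem_K {y : F23} : y ∈ Ksub ↔ Commute y tA := by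
  rw [← centralizer_eq, Subgroup.mem_centralizer_singleton_iff]; rfl

theorem Nt_le {y : F23} (hy : y ∈ Nt) : y ∈ Ksub := mem_K.mpr hy.2.2.symm

theorem lets_mem : ∀ k ∈ lets, ∃ x < 9, lets.getD x 0 = k := by decide +kernel

theorem lets_lt {x : ℕ} (hx : x < 9) : lets.getD x 0 < 10 ∧ lets.getD x 0 ∈ lets := by
  revert x; decide +kernel

theorem gen_K {x : ℕ} (hx : x < 9) : pres.gen (lets.getD x 0) ∈ Ksub := by
  rw [sub_eq_singles]
  exact Subgroup.subset_closure ⟨_, (lets_lt hx).2, rfl⟩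

theorem toFi22_gen {x : ℕ} (hx : x < 9) :
    toFi22 ⟨pres.gen (lets.getD x 0), gen_K hx⟩ = Fi22Cert.pres.gen x :=
  M23Rel.TwoOrb.toFi22_gen hx (gen_K hx)

theorem ker_cases {z : Ksub} (h : toFi22 z = 1) : (z : F23) = 1 ∨ (z : F23) = tA := by
  haveI := order.1
  by_cases h1 : z = 1
  · exact Or.inl (congrArg Subtype.val h1)
  right
  obtain ⟨u, v, huv, huniv⟩ := Nat.card_eq_two_iff.mp ker_card
  have hall : ∀ r : toFi22.ker, r = u ∨ r = v := fun r => by
    have : r ∈ ({u, v} : Set toFi22.ker) := huniv ▸ Set.mem_univ r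
    simpa using this
  have hz : (⟨z, h⟩ : toFi22.ker) ≠ 1 := fun e => h1 (congrArg Subtype.val e)
  have ht : (⟨⟨tA, tA_mem⟩, tA_ker⟩ : toFi22.ker) ≠ 1 := fun e =>
    tA_ne_one (congrArg (fun r : toFi22.ker => ((r : Ksub) : F23)) e)
  have e : (⟨z, h⟩ : toFi22.ker) = ⟨⟨tA, tA_mem⟩, tA_ker⟩ := by
    rcases hall 1 with a | a <;> rcases hall ⟨z, h⟩ with b | b <;>
      rcases hall ⟨⟨tA, tA_mem⟩, tA_ker⟩ with c | c <;> simp_all
  exact congrArg (fun r : toFi22.ker => ((r : Ksub) : F23)) e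

theorem toFi22_tA : toFi22 ⟨tA, tA_mem⟩ = 1 := tA_ker

theorem gen_Nt {x : ℕ} (hx : x < 9) : pres.gen (lets.getD x 0) ∈ Nt := by
  refine ⟨Outer.gen_mem_class (lets_lt hx).1, fun e => ?_, (mem_K.mp (gen_K hx)).symm⟩
  have h := toFi22_gen hx
  rw [show (⟨pres.gen (lets.getD x 0), gen_K hx⟩ : Ksub) = ⟨tA, tA_mem⟩ from Subtype.ext e, toFi22_tA] at h
  have := Fi22Cert.Outer.gen_mem_class hx
  rw [← h] at this
  obtain ⟨g, hg⟩ := isConj_iff.mp this
  have h2 := Fi22Cert.U62Act.orderOf_tA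
  rw [conj_eq_one_iff.mp hg, orderOf_one] at h2
  norm_num at h2

theorem closure_Nt : Subgroup.closure Nt = Ksub := by
  refine le_antisymm ((Subgroup.closure_le _).mpr fun y hy => Nt_le hy) ?_
  rw [sub_eq_singles, Pres.sub, Subgroup.closure_le]
  rintro _ ⟨k, hk, rfl⟩
  obtain ⟨x, hx, rfl⟩ := lets_mem k hk
  exact Subgroup.subset_closure (gen_Nt hx)

theorem Nt_conj {g y : F23} (hg : Commute g tA) (hy : y ∈ Nt) : g * y * g⁻¹ ∈ Nt :=
  M23Rel.nset_conj (pre_of_group group23) hg hy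

/-- the images in Fi22 -/
def NtI : Set Fi22Cert.pres.Grp := {u | ∃ y : Ksub, (y : F23) ∈ Nt ∧ toFi22 y = u}

theorem NtI_sq {u : Fi22Cert.pres.Grp} (hu : u ∈ NtI) : orderOf u = 2 := by
  obtain ⟨y, hy, rfl⟩ := hu
  have hy2 : (y : F23) * y = 1 := (pre_of_group group23).sq _ hy.1
  refine orderOf_eq_prime ?_ ?_
  · rw [pow_two, ← map_mul, show y * y = 1 from Subtype.ext hy2, map_one]
  · intro h
    rcases ker_cases h with e | e
    · exact absurd (e ▸ class_transp.1.1 _ hy.1) (by rw [orderOf_one]; norm_num)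
    · exact hy.2.1 e

theorem NtI_pair {u v : Fi22Cert.pres.Grp} (hu : u ∈ NtI) (hv : v ∈ NtI) :
    (u * v) ^ 2 = 1 ∨ (u * v) ^ 3 = 1 := by
  obtain ⟨y, hy, rfl⟩ := hu
  obtain ⟨z, hz, rfl⟩ := hv
  rcases (pre_of_group group23).two _ hy.1 _ hz.1 with h | h
  · exact Or.inl (by rw [← map_mul, ← map_pow, show (y * z) ^ 2 = 1 from Subtype.ext h, map_one])
  · exact Or.inr (by rw [← map_mul, ← map_pow, show (y * z) ^ 3 = 1 from Subtype.ext h, map_one])

theorem NtI_conj (g : Fi22Cert.pres.Grp) {u : Fi22Cert.pres.Grp} (hu : u ∈ NtI) : g * u * g⁻¹ ∈ NtI := by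
  obtain ⟨y, hy, rfl⟩ := hu
  obtain ⟨k, rfl⟩ := toFi22_surjective g
  exact ⟨k * y * k⁻¹, Nt_conj (mem_K.mp k.2) hy, by simp⟩

theorem NtI_eq : NtI = Top22.D22 := by
  ext u
  constructor
  · intro hu
    have hne : u ≠ 1 := fun e => by
      have := NtI_sq hu; rw [e, orderOf_one] at this; norm_num at this
    have hc : ∀ v ∈ conjugatesOf u, v ∈ NtI := fun v hv => by
      obtain ⟨g, rfl⟩ := isConj_iff.mp hv
      exact NtI_conj g hu
    haveI := Fi22Cert.simple
    have hcl : Cfsg.IsThreeTranspositionClass (conjugatesOf u) := by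
      refine ⟨⟨fun v hv => NtI_sq (hc v hv), fun v hv w hw => NtI_pair (hc v hv) (hc w hw)⟩,
        ⟨u, IsConj.refl u, rfl⟩, ?_⟩
      have hn : (Subgroup.closure (conjugatesOf u)).Normal := by
        rw [show Subgroup.closure (conjugatesOf u) = Subgroup.normalClosure {u} by
          simp [Subgroup.normalClosure, Group.conjugatesOfSet]]
        infer_instance
      rcases hn.eq_bot_or_eq_top with h | h
      · exact absurd (by simpa [h] using Subgroup.subset_closure (k := conjugatesOf u) (IsConj.refl u)) hne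
      · exact h
    rw [← Top22.unique22 hcl]
    exact IsConj.refl u
  · intro hu
    obtain ⟨g, rfl⟩ := isConj_iff.mp hu
    exact NtI_conj g ⟨⟨_, gen_K (x := 0) (by norm_num)⟩, gen_Nt (x := 0) (by norm_num),
      toFi22_gen (x := 0) (by norm_num)⟩

theorem t_gen_chk : ∃ p, p < 300 ∧ ∃ q, q < 300 ∧
    ev RepA.rows 10 (powW 2 (zW ++ [0, 7])) p ≠ p ∧ ev RepA.rows 10 (powW 3 (zW ++ [0, 7])) q ≠ q :=
  have h2 : ∃ p, p < 300 ∧ ev RepA.rows 10 (powW 2 (zW ++ [0, 7])) p ≠ p := by decide +kernel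
  have h3 : ∃ q, q < 300 ∧ ev RepA.rows 10 (powW 3 (zW ++ [0, 7])) q ≠ q := by decide +kernel
  let ⟨p, hp, hp'⟩ := h2
  let ⟨q, hq, hq'⟩ := h3
  ⟨p, hp, q, hq, hp', hq'⟩

/-- the product of the first member with a commuting one is not a member -/
theorem t_mul_notMem {y : F23} (hy : y ∈ Nt) : tA * y ∉ DF := by
  haveI := order.1
  intro h
  -- reduce to a letter
  have hu : toFi22 ⟨y, Nt_le hy⟩ ∈ Top22.D22 := NtI_eq ▸ ⟨_, hy, rfl⟩
  obtain ⟨g, hg⟩ := isConj_iff.mp hu
  obtain ⟨k, rfl⟩ := toFi22_surjective g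
  have hk := mem_K.mp k.2
  -- the letter is y or its product with the first member
  set g0 : Ksub := ⟨_, gen_K (x := 0) (by norm_num)⟩ with hg0
  have hq : toFi22 (k⁻¹ * ⟨y, Nt_le hy⟩ * k * g0⁻¹) = 1 := by
    rw [map_mul, map_mul, map_mul, map_inv, map_inv, ← hg, show toFi22 g0 = Fi22Cert.pres.gen 0 from
      toFi22_gen (x := 0) (by norm_num),
      show Fi22Cert.pres.gen 0 = Fi22Cert.U62Act.tA from rfl]
    group
  have hmem : (k : F23)⁻¹ * y * k ∈ DF ∧ (k : F23)⁻¹ * (tA * y) * k ∈ DF := by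
    refine ⟨?_, ?_⟩
    · simpa using group23.2.1 (k : F23)⁻¹ y hy.1
    · simpa using group23.2.1 (k : F23)⁻¹ _ h
  have hsplit : (k : F23)⁻¹ * (tA * y) * k = tA * ((k : F23)⁻¹ * y * k) := by
    rw [← mul_assoc, ← mul_assoc, hk.inv_left.eq]; group
  have hbad : tA * pres.gen (lets.getD 0 0) ∈ DF := by
    rcases ker_cases hq with e | e <;> simp only [Subgroup.coe_mul, Subgroup.coe_inv, hg0] at e
    · have e' := mul_inv_eq_one.mp e
      rw [← e', ← hsplit]; exact hmem.2
    · have e' := mul_inv_eq_iff_eq_mul.mp e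
      rw [← e']; exact hmem.1
  have h7 : pres.gen 7 ∈ DF := Outer.gen_mem_class (by norm_num)
  have hw : ((zW ++ [0, 7]).map pres.gen).prod = tA * pres.gen (lets.getD 0 0) * pres.gen 7 := by
    simp [List.map_append, List.prod_append, mul_assoc]
    rfl
  obtain ⟨p, hp, q, hq', hpn, hqn⟩ := t_gen_chk
  have hl : ∀ n, ∀ x ∈ powW n (zW ++ [0, 7]), x < 10 := fun n x hx => by
    have : x ∈ zW ++ [0, 7] := by
      simp only [powW, List.mem_flatten, List.mem_replicate] at hx
      obtain ⟨_, ⟨-, rfl⟩, hx⟩ := hx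
      exact hx
    rcases List.mem_append.mp this with h | h
    · exact zW_lt x h
    · simp at h; omega
  have fin : ∀ n u, u < 300 → (tA * pres.gen (lets.getD 0 0) * pres.gen 7) ^ n = 1 →
      ev RepA.rows 10 (powW n (zW ++ [0, 7])) u = u := fun n u hu e => by
    rw [← hw, ← prod_powW] at e
    have h1 := congrArg (fun r => ((rep.hom r ⟨u, by show u < 31671; omega⟩ : Fin rep.P.n) : ℕ)) e
    rw [ev_eq rep.valid pres.gen rep.hom rep.hom_gen (hl n), map_one] at h1
    exact h1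
  rcases (pre_of_group group23).two _ hbad _ h7 with e | e
  · exact hpn (fin 2 p hp e)
  · exact hqn (fin 3 q hq' e)

/-- different members commuting with the first have different images -/
theorem toFi22_inj {y z : F23} (hy : y ∈ Nt) (hz : z ∈ Nt)
    (h : toFi22 ⟨y, Nt_le hy⟩ = toFi22 ⟨z, Nt_le hz⟩) : y = z := by
  have h1 : toFi22 (⟨y, Nt_le hy⟩ * (⟨z, Nt_le hz⟩)⁻¹) = 1 := by rw [map_mul, map_inv, h, mul_inv_cancel]
  rcases ker_cases h1 with e | e <;> simp only [Subgroup.coe_mul, Subgroup.coe_inv] at e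
  · exact mul_inv_eq_one.mp e
  · exact absurd (show tA * z ∈ DF by rw [← mul_inv_eq_iff_eq_mul.mp e]; exact hy.1) (t_mul_notMem hz)

/-- the next level -/
noncomputable def nextEquiv :
    (↥(Subgroup.closure Nt) ⧸ Subgroup.center ↥(Subgroup.closure Nt)) ≃* Fi22Cert.pres.Grp :=
  (M23Rel.Shift.cq (MulEquiv.subgroupCongr closure_Nt)).trans
    ((QuotientGroup.quotientMulEquivOfEq center_eq).trans
      (QuotientGroup.quotientKerEquivOfSurjective _ toFi22_surjective))

theorem nextEquiv_mk (x : ↥(Subgroup.closure Nt)) :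
    nextEquiv (QuotientGroup.mk x) = toFi22 ⟨(x : F23), closure_Nt ▸ x.2⟩ := rfl

theorem nextEquiv_set : nextEquiv '' nextSet DF tA = Top22.D22 := by
  rw [← NtI_eq]
  ext u
  constructor
  · rintro ⟨_, ⟨x, hx, rfl⟩, rfl⟩
    exact ⟨⟨x, closure_Nt ▸ x.2⟩, hx, (nextEquiv_mk x).symm⟩
  · rintro ⟨y, hy, rfl⟩
    exact ⟨_, ⟨⟨y, Subgroup.subset_closure hy⟩, hy, rfl⟩, nextEquiv_mk _⟩

theorem next22 : Cfsg.IsOfTypeM22 _ (nextSet DF tA) := by
  have h := M23Rel.Shift.type22_congr nextEquiv.symm Top22.type22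
  rwa [← nextEquiv_set, ← Set.image_comp, show nextEquiv.symm ∘ nextEquiv = id from
    funext fun x => nextEquiv.symm_apply_apply x, Set.image_id] at h

theorem center23 : Subgroup.center F23 = ⊥ := by
  haveI := simple
  rcases (Subgroup.center F23).normal_of_characteristic.eq_bot_or_eq_top with h | h
  · exact h
  · exfalso
    exact M23Rel.TwoOrb.not_comm
      (Subgroup.mem_center_iff.mp (h ▸ Subgroup.mem_top M23Rel.TwoOrb.tB) tA)

theorem prim23 : Cfsg.IsPrimitiveUnderConj DF := by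
  haveI := order.1
  haveI := simple
  haveI : Fact (Nat.Prime 2) := ⟨Nat.prime_two⟩
  haveI : Fact (Nat.Prime 3) := ⟨Nat.prime_three⟩
  have hne : ¬ ∀ a b : F23, a * b = b * a := fun h => M23Rel.TwoOrb.not_comm (h _ _)
  have hQ : commutator F23 = ⊤ := by
    rcases (inferInstance : (commutator F23).Normal).eq_bot_or_eq_top with h | h
    · exfalso
      rw [commutator_def, Subgroup.commutator_eq_bot_iff_le_centralizer] at h
      refine hne fun a b => ?_
      exact (Subgroup.mem_centralizer_iff.mp (h (Subgroup.mem_top a)) b (Subgroup.mem_top b)).symm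
    · exact h
  have hcore : ∀ p : ℕ, [Fact p.Prime] → Cfsg.pCore p F23 ≤ Subgroup.center F23 := by
    intro p _
    haveI := Solv.pCore_normal (G := F23) p
    rcases (inferInstance : (Cfsg.pCore p F23).Normal).eq_bot_or_eq_top with h | h
    · rw [h]; exact bot_le
    · haveI : Group.IsNilpotent F23 := by
        have := Solv.pCore_isPGroup (G := F23) p
        rw [h] at this
        exact (this.of_equiv Subgroup.topEquiv).isNilpotent
      exact absurd (IsSimpleGroup.comm_iff_isSolvable.mpr (inferInstance : Group.IsSolvable F23)) hne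
  exact (Fischer.primitive class_transp ⟨tA, IsConj.refl tA, _, (gen_Nt (x := 0) (by norm_num)).1,
    (gen_Nt (x := 0) (by norm_num)).2.1.symm⟩ (hcore 2) (hcore 3) (by rw [hQ, ← commutator_def, hQ])).1

/-- the standing hypotheses at the first member -/
theorem setting23 : M23Rel.Fix.Setting DF tA := by
  haveI := order.1
  have hE := pre_of_group group23
  have hne : ∀ e ∈ DF, e ≠ 1 := fun e he h1 => by
    have := class_transp.1.1 e he
    rw [h1, orderOf_one] at this
    norm_num at this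
  have hS : M23Rel.Sep DF := by
    intro x hx y hy _ _ hxy
    rcases relation_dichotomy group23 prim23 (SameV DF) (fun _ _ _ _ => Iff.rfl) (fun _ _ _ _ h => h.symm)
        (fun _ _ _ _ _ _ h h' => h.trans h') (fun g _ _ _ _ h => h.conj group23.2.1 g) with h | h
    · exact h x hx y hy hxy
    · exact absurd ((h tA M23Rel.TwoOrb.A_mem _ M23Rel.TwoOrb.B_mem).commute M23Rel.TwoOrb.A_mem)
        M23Rel.TwoOrb.not_comm
  have h1 : M23Rel.One DF := fun a ha b hb _ _ => prim23.1 a ha b hb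
  have hnext := M23Rel.next_group hE hne h1 hS (IsConj.refl tA)
  have h5 := ((M23Rel.Top.lev22 (pre_of_group hnext) next22).2
    (M23Rel.next_ne_one hE hne h1 hS (IsConj.refl tA))).2
  exact ⟨group23, prim23, IsConj.refl tA, center23, hS, next22, M23Rel.noRel_step hE hne h1 hS (IsConj.refl tA) h5⟩

end Cfsg.Agent.Spor.CentFi22
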