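import Cfsg.Agent.Lib.Spor.CentU62.Coords

/-!
Permutations of the 693 points respecting the reflections: six classes modulo the inner ones.
-/

set_option autoImplicit false
set_option maxRecDepth 100000
set_option linter.unusedSectionVars false

namespace Cfsg.Agent.Spor.CentFi22.PtAuto

open Matrix Cfsg.Agent.Small Cfsg.Agent.Small.Unitary Cfsg.Agent.Spor.SpFour Cfsg.Agent.Spor.CC
open Cfsg.Agent.Spor.M22U
open Cfsg.Agent.Spor.M22U.Invol (V6 G6 TV mk)
open Cfsg.Agent.Spor.M22U.Pts (gv ptr pw)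
open Cfsg.Agent.Spor.M22U.Sym (pt6 Simi timg conjMap)
open Cfsg.Agent.Spor.CentU62 (tm tm_lt tm_timg orth_herm)

/-- a permutation of the points respecting reflections -/
structure Adm (P : ℕ → ℕ) : Prop where
  lt : ∀ x < 693, P x < 693
  inj : ∀ x < 693, ∀ y < 693, P x = P y → x = y
  conj : ∀ x < 693, ∀ y < 693, P (tm x y) = tm (P x) (P y)

theorem orth_tm {x y : ℕ} (hx : x < 693) (hy : y < 693) : orth x y = true ↔ tm x y = y := by
  rw [orth, beq_iff]; rfl

theorem Adm.orth' {P : ℕ → ℕ} (h : Adm P) {x y : ℕ} (hx : x < 693) (hy : y < 693) :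
    orth (P x) (P y) = orth x y := by
  rw [Bool.eq_iff_iff, orth_tm (h.lt x hx) (h.lt y hy), orth_tm hx hy, ← h.conj x hx y hy]
  exact ⟨fun e => h.inj _ (tm_lt hx hy) _ hy e, fun e => by rw [e]⟩

theorem Adm.comp {P R : ℕ → ℕ} (hP : Adm P) (hR : Adm R) : Adm (fun x => P (R x)) where
  lt x hx := hP.lt _ (hR.lt x hx)
  inj x hx y hy e := hR.inj x hx y hy (hP.inj _ (hR.lt x hx) _ (hR.lt y hy) e)
  conj x hx y hy := by rw [hR.conj x hx y hy, hP.conj _ (hR.lt x hx) _ (hR.lt y hy)]

theorem adm_simi (S : Simi) : Adm S.P where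
  lt _ hx := (S.spec hx).1
  inj _ hx _ hy e := S.P_inj hx hy e
  conj x hx y hy := by
    rw [← tm_timg hx hy, S.P_timg hx hy, tm_timg (S.spec hx).1 (S.spec hy).1]

/-! ### seven fixed points -/

/-- the neighbours in the standard subset -/
noncomputable def sig (x : ℕ) : ℕ :=
  ((List.range 693).filter fun t => inT0 t).foldl (fun r t => 2 * r + bif orth x t then 1 else 0) 0

/-- the points outside -/
def outs : List ℕ := (List.range 693).filter fun x => !inT0 x

/-- different numbers -/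
noncomputable def distinct : List ℕ → Bool
  | [] => true
  | a :: l => (l.all fun b => !(Nat.beq a b)) && distinct l

theorem distinct_nodup : ∀ {l : List ℕ}, distinct l = true → l.Nodup
  | [], _ => List.nodup_nil
  | a :: l, h => by
    simp only [distinct, Bool.and_eq_true, List.all_eq_true, Bool.not_eq_true'] at h
    refine List.nodup_cons.mpr ⟨fun ha => ?_, distinct_nodup h.2⟩
    have := h.1 a ha
    rw [Nat.beq_refl] at this
    exact Bool.noConfusion this

theorem sig_ok : distinct (outs.map sig) = true := by decide +kernel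

theorem pev_comm {P : ℕ → ℕ} (h : Adm P) : ∀ {w : List ℕ}, (∀ j ∈ w, j < 7) →
    (∀ j < 7, P (gpt j) = gpt j) → ∀ {x : ℕ}, x < 693 → P (pev w x) = pev w (P x)
  | [], _, _, _, _ => rfl
  | j :: w, hw, hf, x, hx => by
    have hj : j < 7 := hw j (by simp)
    have hw' : below 8 w = true := below_iff.mpr fun z hz => Nat.lt_succ_of_lt (hw z (by simp [hz]))
    have hl := pev_lt hw' hx
    have e : ∀ y, y < 693 → pim j y = tm (gpt j) y := fun y hy => by
      rw [← Sym.gen_timg (by omega) hy, tm_timg (gpt_lt (by omega)) hy]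
    show P (pim j (pev w x)) = pim j (pev w (P x))
    rw [e _ hl, h.conj _ (gpt_lt (by omega)) _ hl, hf j hj,
      pev_comm h (fun z hz => hw z (by simp [hz])) hf hx, e _ (pev_lt hw' (h.lt x hx))]

/-- a permutation fixing the seven standard points is trivial -/
theorem fix_seven {P : ℕ → ℕ} (h : Adm P) (hf : ∀ j < 7, P (gpt j) = gpt j) :
    ∀ x < 693, P x = x := by
  have hin : ∀ x < 693, inT0 x = true → P x = x := fun x hx ht => by
    obtain ⟨h1, h2, h3⟩ := tw_word hx ht
    rw [← h3, pev_comm h (below_iff.mp h2) hf (gpt_lt (by omega)), hf _ h1]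
  intro x hx
  cases ht : inT0 x with
  | true => exact hin x hx ht
  | false =>
    have hPx : inT0 (P x) = false := by
      by_contra hc
      rw [Bool.not_eq_false] at hc
      have e := h.inj _ (h.lt x hx) _ hx (hin _ (h.lt x hx) hc)
      rw [e] at hc
      rw [hc] at ht
      exact Bool.noConfusion ht
    have hs : sig (P x) = sig x := by
      have key : ∀ t ∈ (List.range 693).filter fun t => inT0 t, orth (P x) t = orth x t := fun t ht' => by
        simp only [List.mem_filter, List.mem_range] at ht'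
        conv_lhs => rw [← hin t ht'.1 ht'.2]
        exact h.orth' hx ht'.1
      have gen : ∀ (l : List ℕ), (∀ t ∈ l, orth (P x) t = orth x t) → ∀ r : ℕ,
          l.foldl (fun r t => 2 * r + bif orth (P x) t then 1 else 0) r =
            l.foldl (fun r t => 2 * r + bif orth x t then 1 else 0) r := by
        intro l
        induction l with
        | nil => intro _ r; rfl
        | cons a l ih =>
          intro hl r
          rw [List.foldl_cons, List.foldl_cons, hl a (by simp)]
          exact ih (fun t ht' => hl t (by simp [ht'])) _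
      exact gen _ key 0
    refine List.inj_on_of_nodup_map (distinct_nodup sig_ok) ?_ ?_ hs
    · exact List.mem_filter.mpr ⟨List.mem_range.mpr (h.lt x hx), by rw [hPx]; rfl⟩
    · exact List.mem_filter.mpr ⟨List.mem_range.mpr hx, by rw [ht]; rfl⟩

/-! ### unitary matrices -/

/-- the similarity of a unitary matrix -/
noncomputable def mkSimi (B : Matrix (Fin 6) (Fin 6) F4) (hB : Bᴴ * B = 1) : Simi where
  f v := B *ᵥ v
  th := id
  th_eq _ hc := hc
  th_zero := rfl
  map_add u v := Matrix.mulVec_add _ _ _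
  map_smul c v := Matrix.mulVec_smul _ _ _
  inj v v' h := by
    have h1 := congrArg (Bᴴ *ᵥ ·) h
    simpa only [Matrix.mulVec_mulVec, hB, Matrix.one_mulVec] using h1
  herm_map v v' := by
    rw [herm, Matrix.star_mulVec, ← Matrix.dotProduct_mulVec, Matrix.mulVec_mulVec, hB, Matrix.one_mulVec]
    rfl

theorem mkSimi_P (B : Matrix (Fin 6) (Fin 6) F4) (hB : Bᴴ * B = 1) (x : ℕ) :
    (mkSimi B hB).P x = pt6 (B *ᵥ gv x) := rfl

theorem mkSimi_mul (A B : Matrix (Fin 6) (Fin 6) F4) (hA : Aᴴ * A = 1) (hB : Bᴴ * B = 1)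
    (hAB : (A * B)ᴴ * (A * B) = 1) {x : ℕ} (hx : x < 693) :
    (mkSimi (A * B) hAB).P x = (mkSimi A hA).P ((mkSimi B hB).P x) := by
  obtain ⟨-, c, hc, e⟩ := (mkSimi B hB).spec hx
  have e' : B *ᵥ gv x = c • gv ((mkSimi B hB).P x) := e
  rw [mkSimi_P, mkSimi_P A, ← Matrix.mulVec_mulVec, e', Matrix.mulVec_smul, pt6, pt6, SUSix.idx_smul c hc]

theorem exists_mat (p : ℕ → ℕ)
    (hpat : ∀ k < 6, ∀ l < 6, herm (gv (p k)) (gv (p l)) = 0 ↔ ¬(k + 1 = l ∨ l + 1 = k)) :
    ∃ B : Matrix (Fin 6) (Fin 6) F4, Bᴴ * B = 1 ∧ ∀ k < 6, pt6 (B *ᵥ gv (p k)) = gpt k := by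
  set g : ℕ → V6 := fun k => gv (p k)
  have hstep : ∀ l, l + 1 < 6 → herm (g l) (g (l + 1)) ≠ 0 := fun l hl h =>
    (hpat l (by omega) (l + 1) hl).mp h (Or.inl rfl)
  have hs : ∀ k < 6, Sym.scale g k ≠ 0 := fun k hk => Sym.scale_ne g k hk hstep
  set u : ℕ → V6 := fun k => Sym.scale g k • g k
  set M : Matrix (Fin 6) (Fin 6) F4 := Matrix.of fun i k => u k i
  have hone : ∀ l, l + 1 < 6 → herm (u l) (u (l + 1)) = 1 := fun l hl => by
    have h0 : star (Sym.scale g l) * herm (g l) (g (l + 1)) ≠ 0 :=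
      mul_ne_zero (fun e => hs l (by omega) (star_eq_zero.mp e)) (hstep l hl)
    show herm (Sym.scale g l • g l) (Sym.scale g (l + 1) • g (l + 1)) = 1
    rw [herm_smul_left, herm_smul_right, Sym.scale, mul_left_comm]
    exact inv_mul_cancel₀ h0
  have hMM : Mᴴ * M = Sym.gramP := by
    ext k l
    show herm (u k) (u l) = Sym.gramP k l
    simp only [Sym.gramP, Matrix.of_apply]
    split_ifs with h
    · rcases h with h | h
      · rw [← h]; exact hone k (by omega)
      · rw [← h, ← star_herm, hone l (by omega), star_one]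
    · show herm (Sym.scale g k • g k) (Sym.scale g l • g l) = 0
      rw [herm_smul_left, herm_smul_right, (hpat k k.2 l l.2).mpr h, mul_zero, mul_zero]
  set A := M * Sym.N0
  have hA : Aᴴ * A = 1 := by
    rw [Matrix.conjTranspose_mul, Matrix.mul_assoc, ← Matrix.mul_assoc Mᴴ, hMM, ← Sym.std_gram,
      ← Matrix.mul_assoc, ← Matrix.mul_assoc, ← Matrix.conjTranspose_mul, Sym.std_mul, Matrix.mul_assoc,
      Sym.std_mul]
    simp
  have hA' : Aᴴᴴ * Aᴴ = 1 := by rw [Matrix.conjTranspose_conjTranspose]; exact mul_eq_one_comm.mp hA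
  refine ⟨Aᴴ, hA', fun k hk => ?_⟩
  have h1 : Sym.w0 k = Sym.M0 *ᵥ Pi.single (⟨k, hk⟩ : Fin 6) 1 := by rw [Matrix.mulVec_single_one]; rfl
  have hc : A *ᵥ Sym.w0 k = u k := by
    rw [h1, Matrix.mulVec_mulVec, Matrix.mul_assoc, Sym.std_mul', Matrix.mul_one, Matrix.mulVec_single_one]
    rfl
  have e : Aᴴ *ᵥ u k = Sym.w0 k := by rw [← hc, Matrix.mulVec_mulVec, hA, Matrix.one_mulVec]
  rw [show Aᴴ *ᵥ u k = Sym.scale g k • (Aᴴ *ᵥ g k) from Matrix.mulVec_smul _ _ _] at e
  rw [← Sym.std_pts k hk, ← e, pt6, pt6, SUSix.idx_smul _ (hs k hk)]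

theorem pw_rev : ∀ w : List ℕ, pw w.reverse = (pw w)⁻¹ := by
  intro w
  induction w with
  | nil => simp [pw]
  | cons j w ih =>
    simp only [pw, List.reverse_cons, List.map_append, List.prod_append, List.map_cons, List.prod_cons,
      List.map_nil, List.prod_nil, mul_one, _root_.mul_inv_rev] at ih ⊢
    rw [ih, inv_eq_of_mul_eq_one_right (Pts.ptr_sq (gpt j))]

/-- unimodular unitary matrices act as words in the generators -/
theorem inner_word (B : Matrix (Fin 6) (Fin 6) F4) (hB : Bᴴ * B = 1) (hd : B.det = 1) :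
    ∃ w, below 8 w = true ∧ ∀ x < 693, (mkSimi B hB).P x = pev w x := by
  let g : G6 := mkSU F4.star_eq_pow B hB hd
  haveI := psu_simple F4.star_eq_pow F4.card_sq (n := 6) (by norm_num) (by omega)
  let S : Set (Cfsg.PSU 6 F4 2) := {y | ∃ j < 8, ptr (gpt j) = y}
  have hword : ∀ y ∈ Subgroup.closure S, ∃ w, below 8 w = true ∧ pw w = y := by
    intro y hy
    induction hy using Subgroup.closure_induction with
    | mem u hu => obtain ⟨j, hj, rfl⟩ := hu; exact ⟨[j], below_iff.mpr (by simpa using hj), by simp [pw]⟩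
    | one => exact ⟨[], rfl, by simp [pw]⟩
    | mul a b _ _ ia ib =>
      obtain ⟨v, hv, rfl⟩ := ia
      obtain ⟨w, hw, rfl⟩ := ib
      exact ⟨v ++ w, below_append hv hw, by simp [pw, List.map_append, List.prod_append]⟩
    | inv a _ ia =>
      obtain ⟨v, hv, rfl⟩ := ia
      exact ⟨v.reverse, below_rev hv, pw_rev v⟩
  have hptr : ∀ x < 693, ptr x ∈ Subgroup.closure S := fun x hx => by
    rw [Pts.ptr_word hx]
    exact list_prod_mem fun y hy => by
      obtain ⟨j, hj, rfl⟩ := List.mem_map.mp hy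
      exact Subgroup.subset_closure ⟨j, below_iff.mp (CentU62.cwd_below hx) j hj, rfl⟩
  have hnorm : (Subgroup.closure S).Normal := by
    refine ⟨fun y hy p => ?_⟩
    obtain ⟨h, rfl⟩ := QuotientGroup.mk'_surjective (Subgroup.center G6) p
    have hle : Subgroup.closure S ≤ (Subgroup.closure S).comap (MulAut.conj (mk h)).toMonoidHom := by
      rw [Subgroup.closure_le]
      rintro _ ⟨j, hj, rfl⟩
      have hg := Pts.gv_spec (gpt_lt hj)
      have hiso : herm (act h (gv (gpt j))) (act h (gv (gpt j))) = 0 := by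
        rw [herm_act F4.star_eq_pow]; exact hg.2
      obtain ⟨hl, e⟩ := Pts.exists_ptr (fun h0 => hg.1 (act_injective h (h0.trans (by simp [act])))) hiso
      show mk h * mk (TV (gv (gpt j))) * (mk h)⁻¹ ∈ Subgroup.closure S
      rw [← map_inv, ← map_mul, ← map_mul, CoverUnitarySix.T_conj, e]
      exact hptr _ hl
    exact hle hy
  have htop : Subgroup.closure S = ⊤ := by
    rcases hnorm.eq_bot_or_eq_top with h | h
    · exfalso
      have := Subgroup.subset_closure (k := S) ⟨0, by norm_num, rfl⟩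
      rw [h] at this
      exact Pts.ptr_ne_one (gpt_lt (by norm_num)) (Subgroup.mem_bot.mp this)
    · exact h
  obtain ⟨w, hw, e⟩ := hword (mk g) (htop ▸ Subgroup.mem_top _)
  refine ⟨w, hw, fun x hx => ?_⟩
  let ρ : Cfsg.PSU 6 F4 2 →* Equiv.Perm (Fin 693) :=
    QuotientGroup.lift (Subgroup.center G6) SUSix.uperm (le_of_eq SUSix.ker_eq.symm)
  have hρ : ∀ v, below 8 v = true → ∀ u : Fin 693, (ρ (pw v) u : ℕ) = pev v u := by
    intro v
    induction v with
    | nil => intro _ u; simp [pw, pev]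
    | cons j v ih =>
      intro hv u
      rw [below_iff] at hv
      have hv' : below 8 v = true := below_iff.mpr fun z hz => hv z (by simp [hz])
      have e2 : ρ (pw (j :: v)) u = SUSix.uperm (TV (gv (gpt j))) (ρ (pw v) u) := by
        rw [show pw (j :: v) = ptr (gpt j) * pw v by simp [pw], map_mul, Equiv.Perm.mul_apply]
        rfl
      rw [e2, SUSix.uperm_val, ih hv' u]
      exact Pts.act_gen (hv j (by simp)) (pev_lt hv' u.2)
  rw [← hρ w hw ⟨x, hx⟩, e]
  rfl

/-! ### the class of a permutation -/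

theorem std_pattern : ∀ k < 6, ∀ l < 6, orth (gpt k) (gpt l) = !decide (k + 1 = l ∨ l + 1 = k) := by
  decide +kernel

theorem seven_facts : orth (gpt 5) (gpt 6) = true ∧ gpt 1 ≠ gpt 6 := by decide +kernel

theorem exists_norm {P : ℕ → ℕ} (h : Adm P) : ∃ B : Matrix (Fin 6) (Fin 6) F4, ∃ hB : Bᴴ * B = 1,
    ∀ k < 6, (mkSimi B hB).P (P (gpt k)) = gpt k := by
  obtain ⟨B, hB, hk⟩ := exists_mat (fun k => P (gpt k)) fun k hk l hl => by
    rw [← orth_herm (h.lt _ (gpt_lt (by omega))) (h.lt _ (gpt_lt (by omega))),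
      h.orth' (gpt_lt (by omega)) (gpt_lt (by omega)), std_pattern k hk l hl]
    simp
  exact ⟨B, hB, hk⟩

/-- the normalising matrix -/
noncomputable def nB {P : ℕ → ℕ} (h : Adm P) : Matrix (Fin 6) (Fin 6) F4 := (exists_norm h).choose

theorem nB_unit {P : ℕ → ℕ} (h : Adm P) : (nB h)ᴴ * nB h = 1 := (exists_norm h).choose_spec.choose

/-- the normalised permutation -/
noncomputable def norm {P : ℕ → ℕ} (h : Adm P) : ℕ → ℕ := fun x => (mkSimi (nB h) (nB_unit h)).P (P x)

theorem norm_adm {P : ℕ → ℕ} (h : Adm P) : Adm (norm h) := (adm_simi _).comp h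

theorem norm_six {P : ℕ → ℕ} (h : Adm P) : ∀ k < 6, norm h (gpt k) = gpt k :=
  (exists_norm h).choose_spec.choose_spec

theorem norm_seventh {P : ℕ → ℕ} (h : Adm P) : norm h (gpt 6) = gpt 6 ∨ norm h (gpt 6) = Dat.xAlt := by
  have hn := norm_adm h
  rcases Sym.seventh (hn.lt (gpt 6) (gpt_lt (show 6 < 8 by norm_num))) (fun k hk => by
      have hk8 : k < 8 := by omega
      rw [← orth_herm (gpt_lt hk8) (hn.lt _ (gpt_lt (show 6 < 8 by norm_num))),
        ← orth_herm (gpt_lt hk8) (gpt_lt (show 6 < 8 by norm_num))]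
      conv_lhs => rw [← norm_six h k hk]
      rw [hn.orth' (gpt_lt hk8) (gpt_lt (show 6 < 8 by norm_num))]) with e | e | e
  · exact absurd (hn.inj (gpt 6) (gpt_lt (show 6 < 8 by norm_num)) (gpt 1) (gpt_lt (show 1 < 8 by norm_num))
      (e.trans (norm_six h 1 (by norm_num)).symm)).symm seven_facts.2
  · exact Or.inl e
  · exact Or.inr e

/-- same seventh point, same normalised permutation -/
theorem norm_eq {P R : ℕ → ℕ} (hP : Adm P) (hR : Adm R) (h6 : norm hP (gpt 6) = norm hR (gpt 6)) :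
    ∀ x < 693, norm hP x = norm hR x := by
  obtain ⟨c6, c7⟩ := Sym.conj_ok
  have hnP := norm_adm hP
  have hnR := norm_adm hR
  rcases norm_seventh hP with e | e
  · have a := fix_seven hnP fun j hj => by
      rcases (show j < 6 ∨ j = 6 by omega) with hj | rfl
      exacts [norm_six hP j hj, e]
    have b := fix_seven hnR fun j hj => by
      rcases (show j < 6 ∨ j = 6 by omega) with hj | rfl
      exacts [norm_six hR j hj, h6 ▸ e]
    exact fun x hx => (a x hx).trans (b x hx).symm
  · have hc := adm_simi conjMap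
    have fixed : ∀ {T : ℕ → ℕ}, Adm T → (∀ k < 6, T (gpt k) = gpt k) → T (gpt 6) = Dat.xAlt →
        ∀ x < 693, conjMap.P (T x) = x := fun {T} hT h1 h2 =>
      fix_seven (hc.comp hT) fun j hj => by
        rcases (show j < 6 ∨ j = 6 by omega) with hj | rfl
        · show conjMap.P (T (gpt j)) = gpt j
          rw [h1 j hj, c6 j hj]
        · show conjMap.P (T (gpt 6)) = gpt 6
          rw [h2, c7]
    intro x hx
    exact hc.inj _ (hnP.lt x hx) _ (hnR.lt x hx)
      ((fixed hnP (norm_six hP) e x hx).trans (fixed hnR (norm_six hR) (h6 ▸ e) x hx).symm)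

/-- the class -/
noncomputable def cls {P : ℕ → ℕ} (h : Adm P) : F4 × Bool := ((nB h).det, Nat.beq (norm h (gpt 6)) (gpt 6))

theorem det_ne {P : ℕ → ℕ} (h : Adm P) : (nB h).det ≠ 0 := fun e => by
  have := congrArg Matrix.det (nB_unit h)
  rw [Matrix.det_mul, e, mul_zero, Matrix.det_one] at this
  exact zero_ne_one this

theorem same_class {P R : ℕ → ℕ} (hP : Adm P) (hR : Adm R) (h : cls hP = cls hR) :
    ∃ w, below 8 w = true ∧ ∀ x < 693, R x = pev w (P x) := by
  obtain ⟨hdet, h6⟩ := Prod.ext_iff.mp h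
  have h6' : norm hP (gpt 6) = norm hR (gpt 6) := by
    rcases norm_seventh hP with a | a <;> rcases norm_seventh hR with b | b <;>
      simp only [cls, a, b] at h6 ⊢
    all_goals
      exfalso
      rw [Nat.beq_refl] at h6
      first
        | exact alt_ne (Nat.eq_of_beq_eq_true h6.symm)
        | exact alt_ne (Nat.eq_of_beq_eq_true h6)
  have hnn := norm_eq hP hR h6'
  set B := nB hP
  set B' := nB hR
  have hB := nB_unit hP
  have hB' := nB_unit hR
  have hB'2 : B'ᴴᴴ * B'ᴴ = 1 := by rw [Matrix.conjTranspose_conjTranspose]; exact mul_eq_one_comm.mp hB'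
  have hAB : (B'ᴴ * B)ᴴ * (B'ᴴ * B) = 1 := by
    rw [Matrix.conjTranspose_mul, Matrix.mul_assoc, ← Matrix.mul_assoc B'ᴴᴴ, hB'2, Matrix.one_mul, hB]
  have hd : (B'ᴴ * B).det = 1 := by
    rw [Matrix.det_mul, Matrix.det_conjTranspose, show B.det = B'.det from hdet]
    exact Sym.norm_one _ (det_ne hR)
  obtain ⟨w, hw, hwe⟩ := inner_word _ hAB hd
  refine ⟨w, hw, fun x hx => ?_⟩
  rw [← hwe _ (hP.lt x hx), mkSimi_mul _ _ hB'2 hB hAB (hP.lt x hx),
    show (mkSimi B hB).P (P x) = norm hP x from rfl, hnn x hx,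
    show norm hR x = (mkSimi B' hB').P (R x) from rfl]
  have hone : (B'ᴴ * B')ᴴ * (B'ᴴ * B') = 1 := by rw [hB', Matrix.conjTranspose_one, Matrix.one_mul]
  rw [← mkSimi_mul _ _ hB'2 hB' hone (hR.lt x hx), mkSimi_P, hB', Matrix.one_mulVec]
  exact (SUSix.pt_spec (hR.lt x hx)).1.symm
where
  alt_ne : Dat.xAlt ≠ gpt 6 := by decide +kernel

/-- the possible classes -/
theorem cls_card : Fintype.card {v : F4 × Bool // v.1 ≠ 0} = 6 := by decide +kernel

end Cfsg.Agent.Spor.CentFi22.PtAuto
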