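import Cfsg.Agent.Lib.Spor.CentFi22.OnePart
import Cfsg.Agent.Lib.Spor.CentFi22.Cover
import Cfsg.Agent.Lib.Spor.Fi22OutMain

/-!
An automorphism of the centraliser of a transposition of Fi23 which takes the members to their products
with the transposition.
-/

set_option autoImplicit false
set_option maxRecDepth 100000
set_option linter.unusedSectionVars false

namespace Cfsg.Agent.Spor.CentFi22

open Cfsg.Agent.Spor.Fi23Cert
open Cfsg.Agent.Spor.Fi23Cert.Below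
open Cfsg.Agent.Spor.Fi22Cert.Outer (sw sw_facts)

theorem seven_facts : Mult.oneOK [Fi22SixCert.sevenA.map upl] = true ∧
    CC.lettersOK 10 [(Fi22SixCert.sevenA.map sw).map upl] = true ∧
    (∀ x ∈ Fi22SixCert.sevenA, x < 9) ∧
    ∃ p, p < 300 ∧ CC.ev RepA.rows 10 ((Fi22SixCert.sevenA.map sw).map upl) p ≠ p := by decide +kernel

theorem upl_eq {x : ℕ} (hx : x < 9) : upl x = lets.getD x 0 := by interval_cases x <;> rfl

/-- the member of a letter -/
noncomputable def mK {x : ℕ} (hx : x < 9) : ↥Ksub := ⟨pres.gen (lets.getD x 0), gen_K hx⟩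

theorem exists_swap : ∃ β : ↥Ksub ≃* ↥Ksub, ∀ y : ↥Ksub, (y : F23) ∈ Nt → tA * (β y : F23) ∈ Nt := by
  haveI := order.1
  obtain ⟨β, hβ⟩ := exists_lift_aut Fi22Cert.Outer.sigma
  refine ⟨β, ?_⟩
  have hmove : ∀ y z : ↥Ksub, (y : F23) ∈ Nt → (z : F23) ∈ Nt → KConj (β y : F23) (β z : F23) := by
    intro y z hy hz
    obtain ⟨k, hk⟩ := move1 hy hz
    refine ⟨β k, ?_⟩
    rw [← Subgroup.coe_inv, ← Subgroup.coe_mul, ← Subgroup.coe_mul, ← map_inv, ← map_mul, ← map_mul,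
      show k * y * k⁻¹ = z from Subtype.ext hk]
  have hcase : ∀ x, ∀ hx : x < 9, (β (mK hx) : F23) = mK (sw_facts.1 x hx).1 ∨
      (β (mK hx) : F23) = tA * (mK (sw_facts.1 x hx).1 : F23) := fun x hx =>
    same_image (by rw [hβ, mK, toFi22_gen hx, Fi22Cert.Outer.sigma_gen hx, mK, toFi22_gen (sw_facts.1 x hx).1])
  by_contra hcon
  push Not at hcon
  obtain ⟨y, hy, hbad⟩ := hcon
  have hgood : ∀ x, ∀ hx : x < 9, (β (mK hx) : F23) = mK (sw_facts.1 x hx).1 := by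
    intro x hx
    rcases hcase x hx with e | e
    · exact e
    · exfalso
      obtain ⟨k, hk⟩ := (hmove (mK hx) y (gen_Nt hx) hy).mul_t
      rw [e, ← mul_assoc tA tA, tA_sq, one_mul] at hk
      exact hbad (hk ▸ Nt_conj (mem_K.mp k.2) (gen_Nt (sw_facts.1 x hx).1))
  have hw : ∀ l : List ℕ, (∀ x ∈ l, x < 9) → ∀ h : elF (l.map upl) ∈ Ksub,
      (β ⟨_, h⟩ : F23) = elF ((l.map sw).map upl) := by
    intro l
    induction l with
    | nil =>
      intro _ h
      rw [show (⟨_, h⟩ : ↥Ksub) = 1 from rfl, map_one]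
      rfl
    | cons a l ih =>
      intro hl h
      have ha : a < 9 := hl a (by simp)
      have hl' := elF_K (w := l) fun x hx => hl x (by simp [hx])
      rw [show (⟨_, h⟩ : ↥Ksub) = mK ha * ⟨_, hl'⟩ from Subtype.ext (by simp [elF, mK, upl_eq ha]), map_mul,
        Subgroup.coe_mul, hgood a ha, ih (fun x hx => hl x (by simp [hx])) hl']
      simp [elF, mK, upl_eq (sw_facts.1 a ha).1]
  obtain ⟨h1, hl, h9, p, hp, hne⟩ := seven_facts
  have e1 : elF (Fi22SixCert.sevenA.map upl) = 1 := Mult.oneOK_spec h1 (List.mem_singleton_self _)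
  have h2 := hw _ h9 (elF_K h9)
  rw [show (⟨_, elF_K h9⟩ : ↥Ksub) = 1 from Subtype.ext e1, map_one, Subgroup.coe_one] at h2
  apply hne
  have h3 := congrArg (fun r => ((rep.hom r ⟨p, by show p < 31671; omega⟩ : Fin rep.P.n) : ℕ)) h2.symm
  rw [elF, CC.ev_eq rep.valid pres.gen rep.hom rep.hom_gen
    (fun x hx => CC.lettersOK_spec hl (List.mem_singleton_self _) hx), map_one] at h3
  exact h3

/-- the identification can be chosen to take the conjugates to the members -/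
theorem exists_good_chi {G : Type*} [Group G] [Finite G] {d : G}
    {χ : ↥(Subgroup.centralizer ({d} : Set G)) ≃* ↥Ksub} (hs : Setup d χ) :
    ∃ χ' : ↥(Subgroup.centralizer ({d} : Set G)) ≃* ↥Ksub, Setup d χ' ∧ XK χ' = insert tA Nt := by
  rcases one_part hs with h | h
  · exact ⟨χ, hs, h⟩
  obtain ⟨β, hβ⟩ := exists_swap
  have hs' : Setup d (χ.trans β) := ⟨hs.ne, hs.sq, hs.nwc⟩
  refine ⟨χ.trans β, hs', ?_⟩
  rcases one_part hs' with h' | h'
  · exact h'
  · exfalso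
    obtain ⟨y, hy⟩ : ∃ y : F23, y ∈ Nt := ⟨_, gen_Nt (x := 0) (by norm_num)⟩
    have hK : tA * y ∈ Ksub := mul_mem tA_mem (Nt_le hy)
    have hx : tA * y ∈ XK χ := by rw [h]; exact Or.inr ⟨y, hy, rfl⟩
    obtain ⟨hxK, hx⟩ := hx
    have hbx : (β ⟨_, hK⟩ : F23) ∈ XK (χ.trans β) := ⟨(β ⟨_, hK⟩).2, by
      rw [Subtype.coe_eta, show (χ.trans β).symm (β ⟨_, hK⟩) = χ.symm ⟨_, hK⟩ from by
        rw [MulEquiv.symm_trans_apply, β.symm_apply_apply]]
      exact hx⟩
    -- this image is a member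
    have ht : β ⟨tA, tA_mem⟩ = ⟨tA, tA_mem⟩ := (congrArg β (chi_d hs)).symm.trans (chi_d hs')
    have he : (β ⟨_, hK⟩ : F23) = tA * (β ⟨y, Nt_le hy⟩ : F23) := by
      rw [show (⟨_, hK⟩ : ↥Ksub) = ⟨tA, tA_mem⟩ * ⟨y, Nt_le hy⟩ from rfl, map_mul, Subgroup.coe_mul, ht]
    have hmem : (β ⟨_, hK⟩ : F23) ∈ Nt := he ▸ hβ _ hy
    rw [h'] at hbx
    rcases hbx with e | ⟨z, hz, e⟩
    · exact hmem.2.1 e
    · exact t_mul_notMem hz (show tA * z ∈ DF from (show tA * z = (β ⟨_, hK⟩ : F23) from e) ▸ hmem.1)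

end Cfsg.Agent.Spor.CentFi22
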