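import Cfsg.Agent.Lib.Spor.CentFi22.PairPoints
import Cfsg.Agent.Lib.Spor.CentFi22.PtAuto
import Cfsg.Agent.Lib.Spor.CentFi22.Swap

/-!
An automorphism of the centraliser of two commuting transpositions of Fi23 which fixes both and permutes
the members is inner.
-/

set_option autoImplicit false
set_option maxRecDepth 100000
set_option linter.unusedSectionVars false

namespace Cfsg.Agent.Spor.CentFi22

open Cfsg.Agent.Spor.M22U (nset pev pev_lt below gpt gpt_lt orth)
open Cfsg.Agent.Spor.CentU62 (tm tm_lt)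
open Cfsg.Agent.Spor.Fi23Cert
open Cfsg.Agent.Spor.Fi23Cert.Below
open PtAuto (Adm cls)

/-- a member as an element of the centraliser -/
noncomputable def mW {i : ℕ} (hi : i < 693) : ↥W := ⟨m i, S2_W (m_mem hi)⟩

theorem mW_conj {i j : ℕ} (hi : i < 693) (hj : j < 693) :
    mW hi * mW hj * (mW hi)⁻¹ = mW (tm_lt hi hj) := Subtype.ext (m_conj hi hj)

/-- the members are permuted up to the centre -/
def Pres (β : ↥W ≃* ↥W) : Prop :=
  ∀ i, ∀ hi : i < 693, ∃ j < 693, ∃ c, InV c ∧ (β (mW hi) : F23) = m j * c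

theorem unique_pt {i j : ℕ} (hi : i < 693) (hj : j < 693) {c c' : F23} (hc : InV c) (hc' : InV c')
    (h : m i * c = m j * c') : i = j := by
  by_contra hne
  obtain ⟨k, hk, hne'⟩ := orth_sep hi hj hne
  apply hne'
  have e : m i = m j * (c' * c⁻¹) := by rw [← mul_assoc, ← h, mul_inv_cancel_right]
  have hd : InV (c' * c⁻¹) := hc'.mul hc.inv
  have hcm : Commute (c' * c⁻¹) (m k) := hd.comm (S2_W (m_mem hk))
  rw [Bool.eq_iff_iff, ← m_comm hi hk, ← m_comm hj hk, e]
  constructor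
  · intro h1
    have := h1.mul_left hcm.inv_left
    rwa [mul_inv_cancel_right] at this
  · intro h1; exact h1.mul_left hcm

/-- the permutation of the points -/
noncomputable def perm {β : ↥W ≃* ↥W} (h : Pres β) (i : ℕ) : ℕ := if hi : i < 693 then (h i hi).choose else 0

theorem perm_spec {β : ↥W ≃* ↥W} (h : Pres β) {i : ℕ} (hi : i < 693) :
    perm h i < 693 ∧ ∃ c, InV c ∧ (β (mW hi) : F23) = m (perm h i) * c := by
  rw [perm, dif_pos hi]; exact (h i hi).choose_spec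

theorem perm_adm {β : ↥W ≃* ↥W} (h : Pres β) : Adm (perm h) where
  lt x hx := (perm_spec h hx).1
  inj x hx y hy e := by
    obtain ⟨-, c, hc, e1⟩ := perm_spec h hx
    obtain ⟨-, c', hc', e2⟩ := perm_spec h hy
    rw [← e] at e2
    have hz : ((β ((mW hy)⁻¹ * mW hx) : ↥W) : F23) = c'⁻¹ * c := by
      rw [map_mul, map_inv, Subgroup.coe_mul, Subgroup.coe_inv, e1, e2]; group
    have hcen : β ((mW hy)⁻¹ * mW hx) ∈ Subgroup.center ↥W := (center_W _).mpr (hz ▸ hc'.inv.mul hc)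
    have hcen' : (mW hy)⁻¹ * mW hx ∈ Subgroup.center ↥W :=
      Subgroup.mem_center_iff.mpr fun v => β.injective
        ((map_mul β v _).trans ((Subgroup.mem_center_iff.mp hcen (β v)).trans (map_mul β _ v).symm))
    refine unique_pt hx hy (Or.inl rfl) ((center_W _).mp hcen') ?_
    show m x * 1 = m y * ((m y)⁻¹ * m x)
    group
  conj x hx y hy := by
    obtain ⟨ha, c, hc, e1⟩ := perm_spec h hx
    obtain ⟨hb, c', hc', e2⟩ := perm_spec h hy
    obtain ⟨hd, c'', hc'', e3⟩ := perm_spec h (tm_lt hx hy)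
    refine unique_pt hd (tm_lt ha hb) hc'' hc' (e3.symm.trans ?_)
    rw [← mW_conj hx hy, map_mul, map_mul, map_inv, Subgroup.coe_mul, Subgroup.coe_mul, Subgroup.coe_inv, e1, e2,
      ← m_conj ha hb]
    have hca : Commute c (m (perm h x)) := hc.comm (S2_W (m_mem ha))
    have hcb : Commute c (m (perm h y)) := hc.comm (S2_W (m_mem hb))
    have hc'a : Commute c' (m (perm h x)) := hc'.comm (S2_W (m_mem ha))
    have hcc : Commute c c' := hc.comm hc'.mem
    calc m (perm h x) * c * (m (perm h y) * c') * (m (perm h x) * c)⁻¹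
        = m (perm h x) * (c * m (perm h y)) * c' * c⁻¹ * (m (perm h x))⁻¹ := by group
      _ = m (perm h x) * m (perm h y) * (c * c' * c⁻¹) * (m (perm h x))⁻¹ := by rw [hcb.eq]; group
      _ = m (perm h x) * m (perm h y) * (c' * (m (perm h x))⁻¹) := by rw [hcc.eq]; group
      _ = m (perm h x) * m (perm h y) * (m (perm h x))⁻¹ * c' := by rw [hc'a.inv_right.eq]; group

/-- two endomorphisms which agree up to the centre on the members are equal -/
theorem agree {f g : ↥W →* ↥W}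
    (h : ∀ i, ∀ hi : i < 693, InV (((f (mW hi))⁻¹ * g (mW hi) : ↥W) : F23)) : f = g := by
  have hall : ∀ x : ↥W, (f x)⁻¹ * g x ∈ Subgroup.center ↥W := by
    intro x
    have hx : (x : F23) ∈ Subgroup.closure S2 := closure_S2.symm ▸ x.2
    have key : ∀ y, y ∈ Subgroup.closure S2 →
        ∀ hy : y ∈ W, (f ⟨y, hy⟩)⁻¹ * g ⟨y, hy⟩ ∈ Subgroup.center ↥W := by
      intro y hy
      induction hy using Subgroup.closure_induction with
      | mem u hu =>
        intro hu'
        obtain ⟨i, hi, rfl⟩ := m_surj hu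
        exact (center_W _).mpr (h i hi)
      | one =>
        intro hu'
        rw [show (⟨(1 : F23), hu'⟩ : ↥W) = 1 from rfl, map_one, map_one, inv_one, one_mul]
        exact one_mem _
      | mul a b ha hb iha ihb =>
        intro hab
        have haW : a ∈ W := closure_S2 ▸ ha
        have hbW : b ∈ W := closure_S2 ▸ hb
        rw [show (⟨a * b, hab⟩ : ↥W) = ⟨a, haW⟩ * ⟨b, hbW⟩ from rfl, map_mul, map_mul]
        have e : (f ⟨a, haW⟩ * f ⟨b, hbW⟩)⁻¹ * (g ⟨a, haW⟩ * g ⟨b, hbW⟩) =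
            (f ⟨b, hbW⟩)⁻¹ * ((f ⟨a, haW⟩)⁻¹ * g ⟨a, haW⟩) * g ⟨b, hbW⟩ := by group
        rw [e, Subgroup.mem_center_iff.mp (iha haW) (f ⟨b, hbW⟩)⁻¹, mul_assoc]
        exact mul_mem (iha haW) (ihb hbW)
      | inv a ha iha =>
        intro ha'
        have haW : a ∈ W := closure_S2 ▸ ha
        rw [show (⟨a⁻¹, ha'⟩ : ↥W) = (⟨a, haW⟩)⁻¹ from rfl, map_inv, map_inv, inv_inv]
        have e : f ⟨a, haW⟩ * (g ⟨a, haW⟩)⁻¹ =
            f ⟨a, haW⟩ * ((f ⟨a, haW⟩)⁻¹ * g ⟨a, haW⟩)⁻¹ * (f ⟨a, haW⟩)⁻¹ := by group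
        rw [e, Subgroup.mem_center_iff.mp (inv_mem (iha haW)) (f ⟨a, haW⟩), mul_inv_cancel_right]
        exact inv_mem (iha haW)
    exact key _ hx x.2
  let φ : ↥W →* ↥W :=
    { toFun := fun x => (f x)⁻¹ * g x
      map_one' := by simp
      map_mul' := fun a b => by
        rw [map_mul, map_mul,
          show (f a * f b)⁻¹ * (g a * g b) = (f b)⁻¹ * ((f a)⁻¹ * g a) * g b by group,
          Subgroup.mem_center_iff.mp (hall a) (f b)⁻¹, mul_assoc] }
  haveI := W_perfect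
  have hle : (⊤ : Subgroup ↥W) ≤ φ.ker := by
    rw [← W_perfect.commutator_eq_top, commutator_def, Subgroup.commutator_le]
    intro a _ b _
    rw [MonoidHom.mem_ker, map_commutatorElement, commutatorElement_eq_one_iff_mul_comm]
    exact Subgroup.mem_center_iff.mp (hall b) _
  ext x
  have : (f x)⁻¹ * g x = 1 := hle (Subgroup.mem_top x)
  rw [inv_mul_eq_one.mp this]

/-- automorphisms with the same class differ by an inner one -/
theorem same_inner {β γ : ↥W ≃* ↥W} (hβ : Pres β) (hγ : Pres γ) (h : cls (perm_adm hβ) = cls (perm_adm hγ)) :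
    ∃ u : ↥W, ∀ x, γ x = u * β x * u⁻¹ := by
  obtain ⟨w, hw, hR⟩ := PtAuto.same_class (perm_adm hβ) (perm_adm hγ) h
  refine ⟨⟨wordF w, wordF_W hw⟩, fun x => ?_⟩
  have e : (MulAut.conj (⟨wordF w, wordF_W hw⟩ : ↥W)).toMonoidHom.comp β.toMonoidHom = γ.toMonoidHom := by
    refine agree fun i hi => ?_
    obtain ⟨ha, c, hc, e1⟩ := perm_spec hβ hi
    obtain ⟨hb, c', hc', e2⟩ := perm_spec hγ hi
    show InV ((wordF w * (β (mW hi) : F23) * (wordF w)⁻¹)⁻¹ * (γ (mW hi) : F23))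
    have hcw : Commute c (wordF w) := hc.comm (wordF_W hw)
    have e3 : wordF w * (β (mW hi) : F23) * (wordF w)⁻¹ = m (perm hγ i) * c := by
      rw [e1, hR i hi, ← wordF_conj hw ha]
      calc wordF w * (m (perm hβ i) * c) * (wordF w)⁻¹ = wordF w * m (perm hβ i) * (c * (wordF w)⁻¹) := by group
        _ = _ := by rw [hcw.inv_right.eq]; group
    rw [e3, e2, show (m (perm hγ i) * c)⁻¹ * (m (perm hγ i) * c') = c⁻¹ * c' by group]
    exact hc.inv.mul hc'
  exact (DFunLike.congr_fun e x).symm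

/-! ### six models -/

/-- the first member -/
noncomputable def tW : ↥W := ⟨tA, InV.mem (Or.inr (Or.inl rfl))⟩

/-- the second member -/
noncomputable def eW : ↥W := ⟨e0, InV.mem (Or.inr (Or.inr (Or.inl rfl)))⟩

/-- the effect on the two members -/
noncomputable def actOn (β : ↥W ≃* ↥W) : F23 × F23 := ((β tW : F23), (β eW : F23))

theorem pres_refl : Pres (MulEquiv.refl ↥W) := fun i hi => ⟨i, hi, 1, Or.inl rfl, (mul_one _).symm⟩

theorem Pres.trans {β γ : ↥W ≃* ↥W} (hβ : Pres β) (hγ : Pres γ) : Pres (β.trans γ) := fun i hi => by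
  obtain ⟨j, hj, c, hc, e⟩ := hβ i hi
  obtain ⟨k, hk, c', hc', e'⟩ := hγ j hj
  have h1 : β (mW hi) = mW hj * ⟨c, hc.mem⟩ := Subtype.ext e
  have hcen : γ ⟨c, hc.mem⟩ ∈ Subgroup.center ↥W := Subgroup.mem_center_iff.mpr fun v => by
    obtain ⟨v, rfl⟩ := γ.surjective v
    rw [← map_mul, ← map_mul, Subgroup.mem_center_iff.mp ((center_W ⟨c, hc.mem⟩).mpr hc) v]
  refine ⟨k, hk, c' * (γ ⟨c, hc.mem⟩ : F23), hc'.mul ((center_W _).mp hcen), ?_⟩
  show (γ (β (mW hi)) : F23) = _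
  rw [h1, map_mul, Subgroup.coe_mul, e', mul_assoc]

theorem pres_of_mem {β : ↥W ≃* ↥W} (h : ∀ i, ∀ hi : i < 693, (β (mW hi) : F23) ∈ S2) : Pres β := fun i hi => by
  obtain ⟨j, hj, e⟩ := m_surj (h i hi)
  exact ⟨j, hj, 1, Or.inl rfl, by rw [e, mul_one]⟩

theorem exists_flip : ∃ n : ↥W ≃* ↥W, Pres n ∧ (n tW : F23) = e0 ∧ (n eW : F23) = tA := by
  obtain ⟨g1, hg1⟩ := prim23.1 tA (IsConj.refl tA) e0 e0_Nt.1
  have hz : g1⁻¹ * tA * g1 ∈ Nt := by
    refine ⟨?_, fun e => ?_, ?_⟩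
    · simpa using group23.2.1 g1⁻¹ tA (IsConj.refl tA)
    · apply e0_Nt.2.1
      rw [← hg1]
      conv_lhs => rw [← e]
      group
    · rw [← Spor.commute_conj_iff (g := g1), hg1, show g1 * (g1⁻¹ * tA * g1) * g1⁻¹ = tA by group]
      exact te_comm.symm
  obtain ⟨k, hk⟩ := move1 e0_Nt hz
  set g := g1 * (k : F23) with hg
  have hkt : (k : F23) * tA * (k : F23)⁻¹ = tA := by rw [(mem_K.mp k.2).eq, mul_inv_cancel_right]
  have gt : g * tA * g⁻¹ = e0 := by
    rw [hg, ← hg1]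
    calc g1 * (k : F23) * tA * (g1 * (k : F23))⁻¹ = g1 * ((k : F23) * tA * (k : F23)⁻¹) * g1⁻¹ := by group
      _ = _ := by rw [hkt]
  have ge : g * e0 * g⁻¹ = tA := by
    calc g * e0 * g⁻¹ = g1 * ((k : F23) * e0 * (k : F23)⁻¹) * g1⁻¹ := by rw [hg]; group
      _ = tA := by rw [hk]; group
  have hW : ∀ {x}, x ∈ W ↔ g * x * g⁻¹ ∈ W := by
    intro x
    rw [mem_W, mem_W]
    conv_rhs =>
      arg 1; rw [← ge, Spor.commute_conj_iff]
    conv_rhs =>
      arg 2; rw [← gt, Spor.commute_conj_iff]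
    exact and_comm
  let n : ↥W ≃* ↥W :=
    { toFun := fun x => ⟨g * x * g⁻¹, hW.mp x.2⟩
      invFun := fun x => ⟨g⁻¹ * x * g, hW.mpr (by rw [show g * (g⁻¹ * (x : F23) * g) * g⁻¹ = x by group]; exact x.2)⟩
      left_inv := fun x => Subtype.ext (by show g⁻¹ * (g * (x : F23) * g⁻¹) * g = x; group)
      right_inv := fun x => Subtype.ext (by show g * (g⁻¹ * (x : F23) * g) * g⁻¹ = x; group)
      map_mul' := fun a b => Subtype.ext (by
        show g * ((a : F23) * b) * g⁻¹ = g * a * g⁻¹ * (g * b * g⁻¹); group) }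
  refine ⟨n, pres_of_mem fun i hi => ?_, gt, ge⟩
  show g * m i * g⁻¹ ∈ S2
  obtain ⟨⟨hD, hne, hc⟩, -, hne', hc'⟩ := m_mem hi
  refine ⟨⟨group23.2.1 g _ hD, fun e => hne' ?_, ?_⟩, group23.2.1 g _ hD, fun e => hne ?_, ?_⟩
  · exact mul_left_cancel (mul_right_cancel (e.trans ge.symm))
  · rw [← ge]; exact Spor.commute_conj_iff.mpr hc'
  · exact mul_left_cancel (mul_right_cancel (e.trans gt.symm))
  · rw [← gt]; exact Spor.commute_conj_iff.mpr hc

theorem exists_twist : ∃ s : ↥W ≃* ↥W, Pres s ∧ (s tW : F23) = tA ∧ (s eW : F23) = tA * e0 := by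
  obtain ⟨β0, hβ0⟩ := exists_swap
  set eK : ↥Ksub := ⟨e0, Nt_le e0_Nt⟩
  set tK : ↥Ksub := ⟨tA, tA_mem⟩
  obtain ⟨k, hk⟩ := move1 (hβ0 eK e0_Nt) e0_Nt
  let σ : ↥Ksub ≃* ↥Ksub := β0.trans (MulAut.conj k)
  have hkt : Commute (k : F23) tA := mem_K.mp k.2
  have hσt : σ tK = tK := by
    have hc : σ tK ∈ Subgroup.center ↥Ksub := Subgroup.mem_center_iff.mpr fun v => by
      obtain ⟨v, rfl⟩ := σ.surjective v
      rw [← map_mul, ← map_mul, show v * tK = tK * v from Subtype.ext (mem_K.mp v.2).eq]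
    rw [center_eq] at hc
    rcases ker_cases hc with e | e
    · exfalso
      have h : σ tK = 1 := Subtype.ext e
      rw [σ.map_eq_one_iff] at h
      exact tA_ne_one (congrArg Subtype.val h)
    · exact Subtype.ext e
  have hσ : ∀ y : ↥Ksub, (y : F23) ∈ Nt → tA * (σ y : F23) ∈ Nt := fun y hy => by
    have := Nt_conj hkt (hβ0 y hy)
    show tA * ((k : F23) * (β0 y : F23) * (k : F23)⁻¹) ∈ Nt
    rw [← mul_assoc (k : F23) tA, hkt.eq] at this
    simpa only [mul_assoc] using this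
  have hσe : (σ eK : F23) = tA * e0 := by
    show (k : F23) * (β0 eK : F23) * (k : F23)⁻¹ = _
    conv_rhs => rw [← hk]
    rw [← mul_assoc (k : F23) tA, hkt.eq]
    simp only [← mul_assoc, tA_sq, one_mul]
  have hW : ∀ x : ↥Ksub, (x : F23) ∈ W ↔ (σ x : F23) ∈ W := fun x => by
    have h1 : Commute (x : F23) e0 ↔ Commute (σ x : F23) (tA * e0) := by
      rw [← hσe]
      constructor
      · intro h; exact congrArg Subtype.val ((show Commute x eK from Subtype.ext h.eq).map σ).eq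
      · intro h
        have h' : Commute (σ x) (σ eK) := Subtype.ext h.eq
        have h2 := h'.map σ.symm
        rw [σ.symm_apply_apply, σ.symm_apply_apply] at h2
        exact congrArg Subtype.val h2.eq
    rw [mem_W, mem_W]
    refine ⟨fun h => ⟨mem_K.mp (σ x).2, ?_⟩, fun h => ⟨mem_K.mp x.2, h1.mpr (h.1.mul_right h.2)⟩⟩
    have := (mem_K.mp (σ x).2).mul_right (h1.mp h.2)
    rwa [← mul_assoc, tA_sq, one_mul] at this
  let s : ↥W ≃* ↥W :=
    { toFun := fun x => ⟨σ ⟨x, W_K x.2⟩, (hW ⟨x, W_K x.2⟩).mp x.2⟩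
      invFun := fun x => ⟨σ.symm ⟨x, W_K x.2⟩, (hW _).mpr (by rw [σ.apply_symm_apply]; exact x.2)⟩
      left_inv := fun x => Subtype.ext (by
        show (σ.symm ⟨(σ ⟨x, W_K x.2⟩ : F23), _⟩ : F23) = x
        rw [Subtype.coe_eta, σ.symm_apply_apply])
      right_inv := fun x => Subtype.ext (by
        show (σ ⟨(σ.symm ⟨x, W_K x.2⟩ : F23), _⟩ : F23) = x
        rw [Subtype.coe_eta, σ.apply_symm_apply])
      map_mul' := fun a b => Subtype.ext (by
        show (σ (⟨a, W_K a.2⟩ * ⟨b, W_K b.2⟩) : F23) = (σ _ : F23) * (σ _ : F23)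
        rw [map_mul, Subgroup.coe_mul]) }
  refine ⟨s, fun i hi => ?_, congrArg Subtype.val hσt, hσe⟩
  set p : F23 := (s (mW hi) : F23) with hp
  have hpN : tA * p ∈ Nt := hσ ⟨m i, Nt_le (m_Nt hi)⟩ (m_Nt hi)
  have hpW : p ∈ W := (s (mW hi)).2
  have hpe : Commute (tA * p) e0 := te_comm.mul_left (mem_W.mp hpW).2
  have hne : tA * p ≠ e0 := fun e => by
    have h2 : σ ⟨m i, Nt_le (m_Nt hi)⟩ = σ eK := Subtype.ext (by
      rw [hσe]
      show p = tA * e0
      rw [← e, ← mul_assoc, tA_sq, one_mul])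
    exact (m_mem hi).2.2.1 (congrArg Subtype.val (σ.injective h2))
  obtain ⟨j, hj, e⟩ := m_surj (y := tA * p) ⟨hpN, hpN.1, hne, hpe.symm⟩
  refine ⟨j, hj, tA, Or.inr (Or.inl rfl), ?_⟩
  rw [e, mul_assoc, (mem_W.mp hpW).1.eq, ← mul_assoc, tA_sq, one_mul]

/-- an automorphism fixing both members and permuting the members is inner -/
theorem rigid {f : ↥W ≃* ↥W} (hf : Pres f) (ht : f tW = tW) (he : f eW = eW) :
    ∃ u : ↥W, ∀ x, f x = u * x * u⁻¹ := by
  classical
  obtain ⟨n, hn, n1, n2⟩ := exists_flip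
  obtain ⟨s, hs, s1, s2⟩ := exists_twist
  have ne1 : n tW = eW := Subtype.ext n1
  have ne2 : n eW = tW := Subtype.ext n2
  have se1 : s tW = tW := Subtype.ext s1
  have se2 : s eW = tW * eW := Subtype.ext s2
  let M : Fin 6 → {β : ↥W ≃* ↥W // Pres β} :=
    ![⟨MulEquiv.refl _, pres_refl⟩, ⟨n, hn⟩, ⟨s, hs⟩, ⟨s.trans n, hs.trans hn⟩, ⟨n.trans s, hn.trans hs⟩,
      ⟨(n.trans s).trans n, (hn.trans hs).trans hn⟩]
  let A : Fin 6 → F23 × F23 :=
    ![(tA, e0), (e0, tA), (tA, tA * e0), (e0, e0 * tA), (tA * e0, tA), (e0 * tA, e0)]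
  have hA : ∀ i, actOn (M i).1 = A i := by
    intro i
    fin_cases i <;>
      simp [M, A, actOn, ne1, ne2, se1, se2] <;> simp [tW, eW]
  have hte : tA ≠ e0 := Ne.symm e0_Nt.2.1
  have hAinj : ∀ i j, A i = A j → i = j := by
    have h1 : tA * e0 ≠ tA := fun h => tA_ne_one (by
      have := mul_left_cancel (h.trans (mul_one tA).symm)
      exact absurd this fun h' => by
        have := class_transp.1.1 _ e0_Nt.1
        rw [h', orderOf_one] at this
        norm_num at this)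
    have h2 : tA * e0 ≠ e0 := fun h => tA_ne_one (mul_right_cancel (h.trans (one_mul e0).symm))
    intro i j
    fin_cases i <;> fin_cases j <;>
      simp [A, te_comm.symm.eq, hte, hte.symm, h1, h2, h1.symm, h2.symm]
  let c : Fin 6 → {v : SpFour.F4 × Bool // v.1 ≠ 0} :=
    fun i => ⟨cls (perm_adm (M i).2), PtAuto.det_ne _⟩
  have hcinj : Function.Injective c := fun i j h => by
    obtain ⟨u, hu⟩ := same_inner (M i).2 (M j).2 (congrArg Subtype.val h)
    refine hAinj i j ?_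
    rw [← hA i, ← hA j]
    have key : ∀ z : ↥W, InV (z : F23) → u * (M i).1 z * u⁻¹ = (M i).1 z := fun z hz => by
      have hcen : (M i).1 z ∈ Subgroup.center ↥W := Subgroup.mem_center_iff.mpr fun v => by
        obtain ⟨v, rfl⟩ := (M i).1.surjective v
        rw [← map_mul, ← map_mul, Subgroup.mem_center_iff.mp ((center_W z).mpr hz) v]
      rw [Subgroup.mem_center_iff.mp hcen u, mul_inv_cancel_right]
    simp only [actOn, hu, key tW (Or.inr (Or.inl rfl)), key eW (Or.inr (Or.inr (Or.inl rfl)))]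
  have hsurj : Function.Surjective c :=
    ((Fintype.bijective_iff_injective_and_card c).mpr ⟨hcinj, by rw [Fintype.card_fin, PtAuto.cls_card]⟩).2
  obtain ⟨i, hi⟩ := hsurj ⟨cls (perm_adm hf), PtAuto.det_ne _⟩
  obtain ⟨u, hu⟩ := same_inner (M i).2 hf (congrArg Subtype.val hi)
  have key : ∀ z : ↥W, InV (z : F23) → (M i).1 z = f z := fun z hz => by
    have hcen : (M i).1 z ∈ Subgroup.center ↥W := Subgroup.mem_center_iff.mpr fun v => by
      obtain ⟨v, rfl⟩ := (M i).1.surjective v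
      rw [← map_mul, ← map_mul, Subgroup.mem_center_iff.mp ((center_W z).mpr hz) v]
    rw [hu, Subgroup.mem_center_iff.mp hcen u, mul_inv_cancel_right]
  have h0 : A i = A 0 := by
    rw [← hA, ← hA]
    simp only [actOn, key tW (Or.inr (Or.inl rfl)), key eW (Or.inr (Or.inr (Or.inl rfl))), ht, he]
    rfl
  obtain rfl := hAinj i 0 h0
  exact ⟨u, hu⟩

end Cfsg.Agent.Spor.CentFi22
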