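import Cfsg.Agent.Lib.Spor.CentFi22.Embed
import Cfsg.Agent.Lib.Spor.CentFi22.Type23
import Cfsg.Agent.Lib.Spor.M23RelInvol
import Cfsg.Agent.Lib.Char.ZStar
import Cfsg.Agent.Lib.Solv.Cores

/-!
The centraliser of a product of two commuting members lies in the embedded Fi23.
-/

set_option autoImplicit false
set_option maxRecDepth 100000
set_option linter.unusedSectionVars false

namespace Cfsg.Agent.Spor.CentFi22

open Cfsg.Agent.Spor.M22U (nset)
open Cfsg.Agent.Spor.Fi23Cert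
open Cfsg.Agent.Spor.Fi23Cert.Below
open scoped commutatorElement

theorem sq23 {p : F23} (hp : p ∈ DF) : p * p = 1 := (M23Rel.pre_of_group group23).sq p hp

theorem ne_one23 {p : F23} (hp : p ∈ DF) : p ≠ 1 := fun e => by
  have := class_transp.1.1 p hp
  rw [e, orderOf_one] at this
  norm_num at this

/-- a pair of commuting members is determined by its product -/
theorem pair_unique {p q : F23} (hp : p ∈ DF) (hq : q ∈ DF) (hc : Commute p q) (h : p * q = tA * e0) :
    p = tA ∨ p = e0 := by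
  by_contra hne
  push Not at hne
  obtain ⟨hpt, hpe⟩ := hne
  have hne1 : tA * e0 ≠ 1 := fun e => e0_Nt.2.1 (by
    rw [← inv_eq_of_mul_eq_one_right e, inv_eq_of_mul_eq_one_right tA_sq])
  have hpq : p ≠ q := fun e => hne1 (by rw [← h, e, sq23 hq])
  have hpq' : p * (p * q) = q := by rw [← mul_assoc, sq23 hp, one_mul]
  have htt : Commute tA (tA * e0) := (Commute.refl tA).mul_right te_comm
  have hee : Commute e0 (tA * e0) := te_comm.symm.mul_right (Commute.refl e0)
  obtain ⟨ctp, ctq⟩ :=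
    (Spor.commute_pair_iff class_transp.1 hp hq (IsConj.refl tA) hpq hc).mp (by rw [h]; exact htt)
  obtain ⟨cep, ceq⟩ := (Spor.commute_pair_iff class_transp.1 hp hq e0_Nt.1 hpq hc).mp (by rw [h]; exact hee)
  have hqt : q ≠ tA := fun e => hpe (by
    rw [e, ← ctp.eq] at h
    exact mul_left_cancel h)
  have hqe : q ≠ e0 := fun e => hpt (by
    rw [e] at h
    exact mul_right_cancel h)
  refine noRel23 4 (by norm_num) (by norm_num) [tA, e0, p, q] ?_ rfl ?_ ?_ ?_
  · simp [e0_Nt.2.1.symm, Ne.symm hpt, Ne.symm hpe, Ne.symm hqt, Ne.symm hqe, hpq]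
  · intro a ha
    simp only [List.mem_cons, List.not_mem_nil, or_false] at ha
    rcases ha with rfl | rfl | rfl | rfl
    exacts [⟨IsConj.refl _, tA_ne_one⟩, ⟨e0_Nt.1, ne_one23 e0_Nt.1⟩, ⟨hp, ne_one23 hp⟩, ⟨hq, ne_one23 hq⟩]
  · intro a ha b hb
    simp only [List.mem_cons, List.not_mem_nil, or_false] at ha hb
    rcases ha with rfl | rfl | rfl | rfl <;> rcases hb with rfl | rfl | rfl | rfl
    exacts [Commute.refl _, te_comm, ctp, ctq, te_comm.symm, Commute.refl _, cep, ceq,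
      ctp.symm, cep.symm, Commute.refl _, hc, ctq.symm, ceq.symm, hc.symm, Commute.refl _]
  · simp only [List.prod_cons, List.prod_nil, mul_one]
    rw [h, ← mul_assoc, te_comm.symm.mul_mul_mul_comm, tA_sq, e0_sq, one_mul]

universe u
variable {G : Type u} [Group G] {d : G}

namespace Emb

variable (E : Emb d)

include E in
theorem ne_one : d ≠ 1 := fun h => tA_ne_one (E.inj (E.base.trans (h.trans (map_one E.ψ).symm)))

include E in
theorem sq : d * d = 1 :=
  (congrArg (fun z : G => z * z) E.base).symm.trans (by rw [← map_mul, tA_sq, map_one])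

theorem de_comm : Commute d (E.ψ e0) := by
  have h := te_comm.map E.ψ
  rwa [E.base] at h

theorem img_conj {p : F23} (hp : p ∈ DF) : E.ψ p ∈ conjugatesOf d := by
  obtain ⟨f, rfl⟩ := isConj_iff.mp hp
  exact isConj_iff.mpr ⟨E.ψ f, by rw [map_mul, map_mul, map_inv, E.base]⟩

theorem centP {p : F23} (hp : p ∈ DF) {g : G} (hg : Commute g (E.ψ p)) : ∃ h, E.ψ h = g := by
  obtain ⟨f, rfl⟩ := isConj_iff.mp hp
  obtain ⟨h, hh⟩ := E.cent ((E.ψ f)⁻¹ * g * E.ψ f) (by
    rw [← Spor.commute_conj_iff (g := E.ψ f), show E.ψ f * ((E.ψ f)⁻¹ * g * E.ψ f) * (E.ψ f)⁻¹ = g by group,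
      show E.ψ f * d * (E.ψ f)⁻¹ = E.ψ (f * tA * f⁻¹) by rw [map_mul, map_mul, map_inv, E.base]]
    exact hg)
  exact ⟨f * h * f⁻¹, by rw [map_mul, map_mul, map_inv, hh]; group⟩

theorem nearP {p : F23} (hp : p ∈ DF) {y : G} (hy : y ∈ conjugatesOf d) (hg : Commute y (E.ψ p)) :
    ∃ q ∈ DF, E.ψ q = y := by
  obtain ⟨f, rfl⟩ := isConj_iff.mp hp
  have hy' : (E.ψ f)⁻¹ * y * E.ψ f ∈ conjugatesOf d :=
    hy.trans (isConj_iff.mpr ⟨(E.ψ f)⁻¹, by rw [inv_inv]⟩)
  obtain ⟨q, hq, hqy⟩ := E.near _ hy' (by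
    rw [← Spor.commute_conj_iff (g := E.ψ f), show E.ψ f * ((E.ψ f)⁻¹ * y * E.ψ f) * (E.ψ f)⁻¹ = y by group,
      show E.ψ f * d * (E.ψ f)⁻¹ = E.ψ (f * tA * f⁻¹) by rw [map_mul, map_mul, map_inv, E.base]]
    exact hg)
  exact ⟨f * q * f⁻¹, group23.2.1 f q hq, by rw [map_mul, map_mul, map_inv, hqy]; group⟩

theorem stab {p q : F23} (hp : p ∈ DF) (hq : q ∈ DF) {g : G} (h : g * E.ψ p * g⁻¹ = E.ψ q) :
    ∃ k, E.ψ k = g := by
  obtain ⟨f, hf⟩ := prim23.1 q hq p hp
  obtain ⟨k, hk⟩ := E.centP hp (g := E.ψ f * g) (by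
    refine mul_inv_eq_iff_eq_mul.mp ?_
    calc E.ψ f * g * E.ψ p * (E.ψ f * g)⁻¹ = E.ψ f * (g * E.ψ p * g⁻¹) * (E.ψ f)⁻¹ := by group
      _ = E.ψ p := by rw [h, ← map_inv, ← map_mul, ← map_mul, hf])
  exact ⟨f⁻¹ * k, by rw [map_mul, map_inv, hk]; group⟩

theorem member {h : F23} (hh : E.ψ h ∈ conjugatesOf d) : h ∈ DF := by
  haveI := order.1
  have hsq : h * h = 1 := E.inj (by
    obtain ⟨g, hg⟩ := isConj_iff.mp hh
    rw [map_mul, map_one, ← hg]
    calc g * d * g⁻¹ * (g * d * g⁻¹) = g * (d * d) * g⁻¹ := by group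
      _ = 1 := by rw [E.sq]; group)
  obtain ⟨p, hp, hc⟩ := M23Rel.Invol.exists_commute setting23 hsq
  obtain ⟨q, hq, e⟩ := E.nearP hp hh (hc.map E.ψ)
  rw [← E.inj e]; exact hq

/-- a conjugate under the centraliser of the pair which lies in the copy is one of the pair -/
theorem conj_w {g : G} (hg : Commute g (d * E.ψ e0)) {h : F23} (hh : E.ψ h = g * d * g⁻¹) :
    g * d * g⁻¹ = d ∨ g * d * g⁻¹ = E.ψ e0 := by
  have hp : h ∈ DF := E.member (hh ▸ isConj_iff.mpr ⟨g, rfl⟩)
  have hde : Commute d (E.ψ e0) := E.de_comm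
  have hc : Commute (g * E.ψ e0 * g⁻¹) (E.ψ h) := by
    rw [hh]; exact Spor.commute_conj_iff.mpr hde.symm
  obtain ⟨q, hq, hqe⟩ := E.nearP hp
    ((show IsConj d (E.ψ e0) from E.img_conj e0_Nt.1).trans (isConj_iff.mpr ⟨g, rfl⟩)) hc
  have hprod : h * q = tA * e0 := E.inj (by
    rw [map_mul, map_mul, hh, hqe, E.base]
    calc g * d * g⁻¹ * (g * E.ψ e0 * g⁻¹) = g * (d * E.ψ e0) * g⁻¹ := by group
      _ = d * E.ψ e0 := by rw [hg.eq, mul_inv_cancel_right])
  have hcF : Commute h q := E.inj (by rw [map_mul, map_mul, hqe]; exact hc.symm.eq)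
  rcases pair_unique hp hq hcF hprod with rfl | rfl
  · left; rw [← hh, E.base]
  · right; rw [← hh]

theorem w_facts : (d * E.ψ e0) * (d * E.ψ e0) = 1 ∧ d * E.ψ e0 ≠ 1 ∧ d * E.ψ e0 ≠ d ∧
    Commute d (d * E.ψ e0) := by
  have hde : Commute d (E.ψ e0) := E.de_comm
  refine ⟨?_, fun h => ?_, fun h => ?_, (Commute.refl d).mul_right hde⟩
  · rw [hde.symm.mul_mul_mul_comm, E.sq, one_mul, ← map_mul, e0_sq, map_one]
  · have h' : E.ψ (tA * e0) = E.ψ 1 := by rw [map_mul, map_one, E.base]; exact h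
    replace h := h'
    refine e0_Nt.2.1 ?_
    rw [← inv_eq_of_mul_eq_one_right (E.inj h), inv_eq_of_mul_eq_one_right tA_sq]
  · rw [mul_eq_left, ← map_one E.ψ] at h
    exact ne_one23 e0_Nt.1 (E.inj h)

theorem isolated {g : G} (hg : Commute g (d * E.ψ e0))
    (h : d * (g * d * g⁻¹) = (g * d * g⁻¹) * d ∨ d * (g * d * g⁻¹) = (g * d * g⁻¹) * d * (d * E.ψ e0)) :
    g * d * g⁻¹ = d ∨ g * d * g⁻¹ = E.ψ e0 := by
  set y := g * d * g⁻¹ with hy
  have hyD : y ∈ conjugatesOf d := isConj_iff.mpr ⟨g, rfl⟩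
  obtain ⟨hw2, hw1, -, hdw⟩ := E.w_facts
  rcases h with h | h
  · obtain ⟨q, -, hq⟩ := E.near y hyD h.symm
    exact E.conj_w hg hq
  exfalso
  have hy2 : y * y = 1 := by
    calc y * y = g * (d * d) * g⁻¹ := by rw [hy]; group
      _ = 1 := by rw [E.sq]; group
  have hyd : y * d * y⁻¹ = E.ψ e0 := by
    rw [inv_eq_of_mul_eq_one_right hy2, mul_assoc, h]
    calc y * (y * d * (d * E.ψ e0)) = (y * y) * (d * d) * E.ψ e0 := by simp only [mul_assoc]
      _ = E.ψ e0 := by rw [hy2, E.sq, one_mul, one_mul]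
  obtain ⟨k, hk⟩ := E.stab (p := tA) (IsConj.refl tA) e0_Nt.1 (g := y) (by rw [E.base]; exact hyd)
  apply hw1
  have hc : Commute d y := by
    rcases E.conj_w hg hk with e | e
    · rw [show y = d from e]
    · rw [show y = E.ψ e0 from e]; exact E.de_comm
  rw [hc.eq, left_eq_mul] at h
  exact h

variable [Finite G]

/-- the centraliser of the product of the base pair -/
theorem cent_base {g : G} (hg : Commute g (d * E.ψ e0)) : ∃ k, E.ψ k = g := by
  classical
  haveI := order.1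
  obtain ⟨hw2, hw1, hwd, hdw⟩ := E.w_facts
  have hde : Commute d (E.ψ e0) := E.de_comm
  set w := d * E.ψ e0 with hwdef
  set Cw := Subgroup.centralizer ({w} : Set G)
  set Z := (Subgroup.zpowers w).subgroupOf Cw
  have hZmem : ∀ z : Cw, z ∈ Z ↔ (z : G) = 1 ∨ (z : G) = w := by
    intro z
    rw [Subgroup.mem_subgroupOf, Subgroup.mem_zpowers_iff]
    constructor
    · rintro ⟨k, hk⟩
      rcases Int.even_or_odd' k with ⟨m, rfl | rfl⟩
      · left; rw [← hk, zpow_mul, zpow_two, hw2, one_zpow]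
      · right; rw [← hk, zpow_add, zpow_mul, zpow_two, hw2, one_zpow, one_mul, zpow_one]
    · rintro (h | h)
      · exact ⟨0, by rw [h, zpow_zero]⟩
      · exact ⟨1, by rw [h, zpow_one]⟩
  haveI hZn : Z.Normal := ⟨fun z hz g => by
    rw [hZmem] at hz ⊢
    rcases hz with h | h
    · left; show (g : G) * z * (g : G)⁻¹ = 1; rw [h]; group
    · right; show (g : G) * z * (g : G)⁻¹ = w
      rw [h, Subgroup.mem_centralizer_singleton_iff.mp g.2, mul_inv_cancel_right]⟩
  let ρ : Cw →* Cw ⧸ Z := QuotientGroup.mk' Z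
  have hρ : ∀ a b : Cw, ρ a = ρ b ↔ (a : G) = b ∨ (a : G) = b * w := by
    intro a b
    rw [show ρ a = QuotientGroup.mk a from rfl, show ρ b = QuotientGroup.mk b from rfl, eq_comm,
      QuotientGroup.eq, hZmem]
    constructor
    · rintro (h | h)
      · exact Or.inl (inv_mul_eq_one.mp h).symm
      · exact Or.inr (inv_mul_eq_iff_eq_mul.mp h)
    · rintro (h | h)
      · left; show (b : G)⁻¹ * a = 1; rw [h, inv_mul_cancel]
      · right; show (b : G)⁻¹ * a = w; rw [h, inv_mul_cancel_left]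
  have hcw : ∀ a : Cw, Commute (a : G) w := fun a => Subgroup.mem_centralizer_singleton_iff.mp a.2
  let dw : Cw := ⟨d, Subgroup.mem_centralizer_singleton_iff.mpr hdw.eq⟩
  set t := ρ dw with ht
  have ht1 : t ≠ 1 := fun h => by
    rw [ht, ← map_one ρ, hρ] at h
    rcases h with h | h
    · exact E.ne_one h
    · exact hwd (by simpa using h.symm)
  have htt : t * t = 1 := by
    rw [ht, ← map_mul, show dw * dw = 1 from Subtype.ext E.sq, map_one]
  have hto : orderOf t = 2 := orderOf_eq_prime (by rw [pow_two]; exact htt) ht1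
  have hiso : Cfsg.IsIsolatedInvolution t := by
    refine ⟨hto, fun q hq => ?_⟩
    obtain ⟨g, rfl⟩ := QuotientGroup.mk'_surjective Z q
    change Commute t (ρ g * t * (ρ g)⁻¹) at hq
    show ρ g * t * (ρ g)⁻¹ = t
    rw [ht, ← map_inv, ← map_mul, ← map_mul] at hq ⊢
    have h' := hq.eq
    rw [← map_mul, ← map_mul, hρ] at h'
    rw [hρ]
    rcases E.isolated (hcw g) h' with h1 | h1
    · exact Or.inl h1
    · right
      show (g : G) * d * (g : G)⁻¹ = d * w
      rw [h1, hwdef, ← mul_assoc, E.sq, one_mul]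
  have hz := Char.zStar_isolated hiso
  set U := Cfsg.oddCore (Cw ⧸ Z) with hU
  have hUn : U.Normal := Solv.pPrimeCore_normal 2
  have hUodd : ∀ r ∈ U, Odd (orderOf r) := fun r hr =>
    Odd.of_dvd_nat (Char.card_oddCore_odd _) (Subgroup.orderOf_dvd_natCard U hr)
  -- lifts of odd order
  have hlift : ∀ r ∈ U, ∃ v : Cw, ρ v = r ∧ (v : G) ^ orderOf r = 1 := by
    intro r hr
    obtain ⟨v, rfl⟩ := QuotientGroup.mk'_surjective Z r
    obtain ⟨k, hk⟩ := hUodd _ hr
    have h1 : ρ (v ^ orderOf (ρ v)) = ρ 1 := by rw [map_pow, pow_orderOf_eq_one, map_one]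
    rw [hρ] at h1
    rcases h1 with h1 | h1
    · exact ⟨v, rfl, h1⟩
    · let ww : Cw := ⟨w, Subgroup.mem_centralizer_singleton_iff.mpr rfl⟩
      refine ⟨v * ww, ?_, ?_⟩
      · show ρ (v * ww) = ρ v
        rw [hρ]; exact Or.inr rfl
      · show ((v : G) * w) ^ orderOf (ρ v) = 1
        rw [(hcw v).mul_pow, show (v : G) ^ orderOf (ρ v) = 1 * w from h1, hk, pow_succ, pow_mul, pow_two,
          hw2, one_pow, one_mul, hw2]
  -- equal up to the pair product and of odd order
  have odd_eq : ∀ {a b : G} {n : ℕ}, Odd n → a ^ n = 1 → b ^ n = 1 → Commute b w → (a = b ∨ a = b * w) → a = b := by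
    intro a b n hn ha hb hc h
    rcases h with h | h
    · exact h
    obtain ⟨k, rfl⟩ := hn
    rw [h, hc.mul_pow, hb, one_mul, pow_succ, pow_mul, pow_two, hw2, one_pow, one_mul] at ha
    rw [h, ha, mul_one]
  have inW : ∀ y : W, E.ψ (y : F23) ∈ Cw := fun y => by
    rw [Subgroup.mem_centralizer_singleton_iff, hwdef, show d * E.ψ e0 = E.ψ (tA * e0) by rw [map_mul, E.base],
      ← map_mul, ← map_mul]
    exact congrArg E.ψ ((mem_W.mp y.2).1.mul_right (mem_W.mp y.2).2).eq
  let φ : ↥W →* Cw ⧸ Z := ρ.comp ((E.ψ.comp W.subtype).codRestrict Cw inW)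
  -- nothing in the core commutes with the image of d
  have hCt : ∀ r ∈ U, Commute r t → r = 1 := by
    intro r hr hrt
    obtain ⟨v, rfl, hvn⟩ := hlift r hr
    have hn := hUodd _ hr
    have hvd : Commute (v : G) d := by
      have h := hrt.eq
      rw [ht, ← map_mul, ← map_mul, hρ] at h
      rcases h with h | h
      · exact h
      exfalso
      have e1 : (v : G) * d * (v : G)⁻¹ = d * w := by
        rw [show (v : G) * d = d * v * w from h, mul_assoc d, (hcw v).eq]; group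
      have hvw : ∀ k : ℕ, (v : G) ^ k * d * ((v : G) ^ k)⁻¹ = d * w ^ k := by
        intro k
        induction k with
        | zero => simp
        | succ k ih =>
          calc (v : G) ^ (k + 1) * d * ((v : G) ^ (k + 1))⁻¹ = (v : G) * ((v : G) ^ k * d * ((v : G) ^ k)⁻¹) * (v : G)⁻¹ := by
                rw [pow_succ']; group
            _ = ((v : G) * d * (v : G)⁻¹) * ((v : G) * w ^ k * (v : G)⁻¹) := by rw [ih]; group
            _ = d * w * w ^ k := by rw [e1, ((hcw v).pow_right k).eq, mul_inv_cancel_right]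
            _ = _ := by rw [mul_assoc, ← pow_succ']
      have := hvw (orderOf (ρ v))
      obtain ⟨k, hk⟩ := hn
      rw [hvn, hk, pow_succ, pow_mul, pow_two, hw2, one_pow, one_mul, one_mul, inv_one, mul_one,
        left_eq_mul] at this
      exact hw1 this
    obtain ⟨h, hh⟩ := E.cent _ hvd
    have hve : Commute (v : G) (E.ψ e0) := by
      have := hvd.mul_right (hcw v)
      rwa [hwdef, ← mul_assoc, E.sq, one_mul] at this
    have hhW : h ∈ W := mem_W.mpr
      ⟨E.inj (by rw [map_mul, map_mul, hh, E.base]; exact hvd.eq),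
        E.inj (by rw [map_mul, map_mul, hh]; exact hve.eq)⟩
    set N := U.comap φ with hN
    haveI : N.Normal := hUn.comap φ
    have hφv : φ ⟨h, hhW⟩ = ρ v := congrArg ρ (Subtype.ext hh)
    have hφt : φ tW = t := congrArg ρ (Subtype.ext E.base)
    have htN : tW ∉ N := fun hm => by
      have h2 : Odd (orderOf t) := hUodd _ (hφt ▸ hm)
      rw [hto] at h2
      exact absurd h2 (by decide)
    have hsimp : IsSimpleGroup (↥W ⧸ Subgroup.center ↥W) := (M23Rel.PairCent.quasisimple setting23 e0_Nt).2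
    have hle : N ≤ Subgroup.center ↥W := by
      haveI : (N.map (QuotientGroup.mk' (Subgroup.center ↥W))).Normal :=
        Subgroup.Normal.map inferInstance _ (QuotientGroup.mk'_surjective _)
      rcases this.eq_bot_or_eq_top with hb | hb
      · rw [Subgroup.map_eq_bot_iff, QuotientGroup.ker_mk'] at hb; exact hb
      · exfalso
        apply htN
        haveI := W_perfect
        have hcomm : commutator ↥W ≤ N := by
          rw [commutator_def, Subgroup.commutator_le]
          intro a _ b _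
          obtain ⟨n, hn', hna⟩ := Subgroup.mem_map.mp (hb ▸ Subgroup.mem_top (QuotientGroup.mk' _ a))
          have hzc : n⁻¹ * a ∈ Subgroup.center ↥W := QuotientGroup.eq.mp hna
          have e : ⁅a, b⁆ = ⁅n, b⁆ := by
            have ea : a = n * (n⁻¹ * a) := by group
            have hcb := Subgroup.mem_center_iff.mp hzc b
            rw [ea, commutatorElement_def, commutatorElement_def]
            calc n * (n⁻¹ * a) * b * (n * (n⁻¹ * a))⁻¹ * b⁻¹
                = n * ((n⁻¹ * a) * b) * (n⁻¹ * a)⁻¹ * n⁻¹ * b⁻¹ := by group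
              _ = _ := by rw [← hcb]; group
          rw [e, commutatorElement_def]
          have h1 := (inferInstance : N.Normal).conj_mem _ (N.inv_mem hn') b
          simpa only [mul_assoc] using N.mul_mem hn' h1
        exact hcomm (W_perfect.commutator_eq_top.symm ▸ Subgroup.mem_top _)
    have hmem : (⟨h, hhW⟩ : ↥W) ∈ N := show φ ⟨h, hhW⟩ ∈ U from hφv ▸ hr
    have hV : InV h := (center_W _).mp (hle hmem)
    have hh2 : h * h = 1 := by
      rcases hV with rfl | rfl | rfl | rfl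
      · exact one_mul 1
      · exact tA_sq
      · exact e0_sq
      · rw [te_comm.symm.mul_mul_mul_comm, tA_sq, e0_sq, one_mul]
    have hv1 : (v : G) = 1 := by
      have h2 : (v : G) * v = 1 := by rw [← hh, ← map_mul, hh2, map_one]
      obtain ⟨k, hk⟩ := hn
      rw [hk, pow_succ, pow_mul, pow_two, h2, one_pow, one_mul] at hvn
      exact hvn
    rw [show v = 1 from Subtype.ext hv1, map_one]
  -- inversion by fixed-point-free involutions
  have hinv : ∀ s : Cw ⧸ Z, s * s = 1 → (∀ r ∈ U, Commute r s → r = 1) → ∀ r ∈ U, s * r * s = r⁻¹ := by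
    intro s hs hfree r hr
    have hsi : s⁻¹ = s := inv_eq_of_mul_eq_one_right hs
    let f : ↥U → ↥U := fun p => ⟨(p : Cw ⧸ Z)⁻¹ * (s * p * s⁻¹), U.mul_mem (U.inv_mem p.2) (hUn.conj_mem _ p.2 s)⟩
    have hf : Function.Injective f := by
      intro p p' h
      have h' : (p : Cw ⧸ Z)⁻¹ * (s * p * s⁻¹) = (p' : Cw ⧸ Z)⁻¹ * (s * p' * s⁻¹) := congrArg Subtype.val h
      refine Subtype.ext (mul_inv_eq_one.mp (hfree _ (U.mul_mem p.2 (U.inv_mem p'.2)) ?_))
      show (p : Cw ⧸ Z) * (p' : Cw ⧸ Z)⁻¹ * s = s * ((p : Cw ⧸ Z) * (p' : Cw ⧸ Z)⁻¹)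
      calc (p : Cw ⧸ Z) * (p' : Cw ⧸ Z)⁻¹ * s
          = (p : Cw ⧸ Z) * ((p' : Cw ⧸ Z)⁻¹ * (s * p' * s⁻¹)) * s * (p' : Cw ⧸ Z)⁻¹ := by group
        _ = (p : Cw ⧸ Z) * ((p : Cw ⧸ Z)⁻¹ * (s * p * s⁻¹)) * s * (p' : Cw ⧸ Z)⁻¹ := by rw [h']
        _ = _ := by group
    obtain ⟨p, hp⟩ := (Finite.injective_iff_surjective.mp hf) ⟨r, hr⟩
    have hp' : (p : Cw ⧸ Z)⁻¹ * (s * p * s⁻¹) = r := congrArg Subtype.val hp
    rw [← hp', hsi]
    simp only [mul_inv_rev, inv_inv, hsi]
    simp only [mul_assoc, hs, mul_one]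
  have htU := hinv t htt hCt
  -- the element inverted by d
  let g' : Cw := ⟨g, Subgroup.mem_centralizer_singleton_iff.mpr hg.eq⟩
  have hc := hz (ρ g')
  obtain ⟨v, hv, hvn⟩ := hlift _ hc
  have hn := hUodd _ hc
  have hvU : ρ v ∈ U := hv ▸ hc
  have conj_pow' : ∀ (b a : G) (n : ℕ), b * b = 1 → a ^ n = 1 → (b * a * b) ^ n = 1 := fun b a n hb ha => by
    conv_lhs => arg 1; arg 2; rw [← inv_eq_of_mul_eq_one_right hb]
    rw [conj_pow, ha]; group
  have hvd : d * (v : G) * d = (v : G)⁻¹ := by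
    have h := htU _ hvU
    rw [ht, ← map_mul, ← map_mul, ← map_inv, hρ] at h
    exact odd_eq hn (conj_pow' _ _ _ E.sq hvn) (by rw [inv_pow, hvn, inv_one]) (hcw v).inv_left h
  -- members of the pair invert it too
  have hbv : ∀ b ∈ S2, E.ψ b * (v : G) * E.ψ b = (v : G)⁻¹ := by
    intro b hb
    have hb2 : E.ψ b * E.ψ b = 1 := by rw [← map_mul, sq23 hb.1.1, map_one]
    let bw : Cw := ⟨E.ψ b, inW ⟨b, S2_W hb⟩⟩
    have hfree : ∀ r ∈ U, Commute r (ρ bw) → r = 1 := by
      intro r hr hrb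
      obtain ⟨u, rfl, hun⟩ := hlift r hr
      have hn := hUodd _ hr
      have hub : Commute (u : G) (E.ψ b) := by
        have h := hrb.eq
        rw [← map_mul, ← map_mul, hρ] at h
        have e1 : E.ψ b * (u : G) * (E.ψ b)⁻¹ = u ∨ E.ψ b * (u : G) * (E.ψ b)⁻¹ = u * w := by
          have hbw : Commute (E.ψ b) w := hcw bw
          rcases h with h | h
          · left; rw [← show (u : G) * E.ψ b = E.ψ b * u from h, mul_inv_cancel_right]
          · right
            rw [mul_inv_eq_iff_eq_mul, mul_assoc, ← hbw.eq, ← mul_assoc,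
              show (u : G) * E.ψ b = E.ψ b * u * w from h, mul_assoc _ w w, hw2, mul_one]
        exact (mul_inv_eq_iff_eq_mul.mp (odd_eq hn (by rw [conj_pow, hun]; group) hun (hcw u) e1)).symm
      obtain ⟨k, hk⟩ := E.centP hb.1.1 hub
      have hkd : E.ψ (k * tA * k⁻¹) = (u : G) * d * (u : G)⁻¹ := by
        rw [map_mul, map_mul, map_inv, hk, E.base]
      refine hCt _ hr ?_
      show ρ u * t = t * ρ u
      rw [ht, ← map_mul, ← map_mul, hρ]
      rcases E.conj_w (hcw u) hkd with h | h <;> rw [mul_inv_eq_iff_eq_mul] at h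
      · left; exact h
      · right
        show (u : G) * d = d * u * w
        rw [h, mul_assoc, (hcw u).eq, hwdef, ← mul_assoc, ← mul_assoc, E.sq, one_mul]
    have hsq : ρ bw * ρ bw = 1 := by
      rw [← map_mul, ← map_one ρ]; exact congrArg ρ (Subtype.ext hb2)
    have h := hinv (ρ bw) hsq hfree _ hvU
    rw [← map_mul, ← map_mul, ← map_inv, hρ] at h
    exact odd_eq hn (conj_pow' _ _ _ hb2 hvn) (by rw [inv_pow, hvn, inv_one]) (hcw v).inv_left h
  have hv1 : (v : G) = 1 := by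
    obtain ⟨l, hlen, hm, hp⟩ := M23Rel.PairCent.six_in_pair setting23 e0_Nt
    obtain ⟨a, b, c, a', b', c', rfl⟩ : ∃ a b c a' b' c', l = [a, b, c, a', b', c'] := by
      rcases l with _ | ⟨a, _ | ⟨b, _ | ⟨c, _ | ⟨a', _ | ⟨b', _ | ⟨c', _ | ⟨z, l⟩⟩⟩⟩⟩⟩⟩ <;>
        simp only [List.length_cons, List.length_nil] at hlen <;> try omega
      exact ⟨a, b, c, a', b', c', rfl⟩
    have two : ∀ p ∈ S2, ∀ q ∈ S2, Commute (E.ψ p * E.ψ q) (v : G) := by
      intro p hp' q hq'
      have hp2 : E.ψ p * E.ψ p = 1 := by rw [← map_mul, sq23 hp'.1.1, map_one]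
      have hq2 : E.ψ q * E.ψ q = 1 := by rw [← map_mul, sq23 hq'.1.1, map_one]
      have eq1 : E.ψ q * (v : G) = (v : G)⁻¹ * E.ψ q := by
        rw [← hbv q hq', mul_assoc, hq2, mul_one]
      have ep1 : E.ψ p * (v : G)⁻¹ = (v : G) * E.ψ p := by
        rw [← hbv p hp', ← mul_assoc, ← mul_assoc, hp2, one_mul]
      show E.ψ p * E.ψ q * v = v * (E.ψ p * E.ψ q)
      rw [mul_assoc, eq1, ← mul_assoc, ep1, mul_assoc]
    have hm' : ∀ x ∈ [a, b, c, a', b', c'], x ∈ S2 := fun x hx => hm x hx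
    have hdv : Commute d (v : G) := by
      have h := ((two a (hm' a (by simp)) b (hm' b (by simp))).mul_left
        (two c (hm' c (by simp)) a' (hm' a' (by simp)))).mul_left (two b' (hm' b' (by simp)) c' (hm' c' (by simp)))
      rw [← map_mul, ← map_mul, ← map_mul, ← map_mul, ← map_mul] at h
      rwa [show a * b * (c * a') * (b' * c') = tA by rw [← hp]; simp [mul_assoc], E.base] at h
    rw [hdv.eq, mul_assoc, E.sq, mul_one] at hvd
    have h2 : (v : G) * v = 1 := by nth_rewrite 2 [hvd]; exact mul_inv_cancel _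
    obtain ⟨k, hk⟩ := hn
    rw [hk, pow_succ, pow_mul, pow_two, h2, one_pow, one_mul] at hvn
    exact hvn
  rw [show v = 1 from Subtype.ext hv1, map_one] at hv
  have hv' := hv.symm
  rw [ht, ← map_inv, ← map_inv, ← map_mul, ← map_mul, ← map_mul, ← map_one ρ, hρ] at hv'
  rcases hv' with h | h
  · have e1 : g * d * g⁻¹ = d := by
      have h' : d * g * d⁻¹ * g⁻¹ = 1 := h
      rw [inv_eq_of_mul_eq_one_right E.sq] at h'
      calc g * d * g⁻¹ = (d * d) * (g * d * g⁻¹) := by rw [E.sq, one_mul]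
        _ = d * (d * g * d * g⁻¹) := by group
        _ = d := by rw [h', mul_one]
    exact E.stab (IsConj.refl tA) (IsConj.refl tA) (by rw [E.base]; exact e1)
  · have e1 : g * d * g⁻¹ = E.ψ e0 := by
      have h' : d * g * d⁻¹ * g⁻¹ = 1 * w := h
      rw [inv_eq_of_mul_eq_one_right E.sq, one_mul] at h'
      calc g * d * g⁻¹ = (d * d) * (g * d * g⁻¹) := by rw [E.sq, one_mul]
        _ = d * (d * g * d * g⁻¹) := by group
        _ = d * w := by rw [h']
        _ = E.ψ e0 := by rw [hwdef, ← mul_assoc, E.sq, one_mul]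
    exact E.stab (IsConj.refl tA) e0_Nt.1 (by rw [E.base]; exact e1)

end Emb

end Cfsg.Agent.Spor.CentFi22
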