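import Cfsg.Agent.Lib.Spor.CentFi22.Kinds
import Cfsg.Agent.Lib.Spor.M23RelPairCent
import Cfsg.Agent.Lib.Spor.CentU62.Coords

/-!
The members of Fi23 commuting with two commuting ones: the 693 points, and the centraliser of the two.
-/

set_option autoImplicit false
set_option maxRecDepth 100000
set_option linter.unusedSectionVars false

namespace Cfsg.Agent.Spor.CentFi22

open Cfsg.Agent.Small.Unitary Cfsg.Agent.Spor.SpFour
open Cfsg.Agent.Spor.M22U (nset pev pev_lt below below_iff gpt gpt_lt pim orth pev_rev pev_rev' below_rev)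
open Cfsg.Agent.Spor.M22U.Norm (Coord)
open Cfsg.Agent.Spor.CentU62 (tm tm_lt tm_timg orth_herm mb mb_mem mb_e e_mb mb_surj mb_inj mb_comm orth_pev)
open Cfsg.Agent.Spor.Fi23Cert
open Cfsg.Agent.Spor.Fi23Cert.Below
open scoped commutatorElement

instance finiteF23 : Finite F23 := order.1

/-- the second member -/
noncomputable abbrev e0 : F23 := pres.gen (lets.getD 0 0)

theorem e0_Nt : e0 ∈ Nt := gen_Nt (by norm_num)

theorem e0_sq : e0 * e0 = 1 := (M23Rel.pre_of_group group23).sq _ e0_Nt.1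

theorem te_comm : Commute tA e0 := e0_Nt.2.2

/-- the members commuting with both -/
abbrev S2 : Set F23 := Nt ∩ nset DF e0

/-- the centraliser of both -/
noncomputable abbrev W : Subgroup F23 := M23Rel.PairCent.Kp tA e0

theorem mem_W {x : F23} : x ∈ W ↔ Commute x tA ∧ Commute x e0 := M23Rel.PairCent.mem_Kp

theorem S2_W {y : F23} (hy : y ∈ S2) : y ∈ W := mem_W.mpr ⟨hy.1.2.2.symm, hy.2.2.2.symm⟩

theorem W_K {x : F23} (hx : x ∈ W) : x ∈ Ksub := mem_K.mpr (mem_W.mp hx).1

theorem S2_conj {g y : F23} (hg : g ∈ W) (hy : y ∈ S2) : g * y * g⁻¹ ∈ S2 :=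
  ⟨Nt_conj (mem_W.mp hg).1 hy.1, M23Rel.nset_conj (M23Rel.pre_of_group group23) (mem_W.mp hg).2 hy.2⟩

/-! ### coordinates -/

/-- the image of the second member -/
noncomputable abbrev u0 : Fi22Cert.pres.Grp := img22 e0 e0_Nt

theorem exists_coord22 : Nonempty (Coord Top22.D22 u0) := by
  haveI := Fi22Cert.order.1
  have hu : u0 ∈ Top22.D22 := img22_mem e0_Nt
  obtain ⟨-, d, hd, c, hc, hnc, -, -⟩ := id Top22.type22
  obtain ⟨g, hg⟩ := Top22.prim22.1 d hd u0 hu
  have hc' : g * c * g⁻¹ ∈ Top22.D22 := Top22.group22.2.1 g c hc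
  have hnc' : ¬ Commute u0 (g * c * g⁻¹) := by
    rw [← hg, Spor.commute_conj_iff]; exact hnc
  refine M22U.Norm.coord_of Top22.group22 Top22.prim22 hu hc' hnc' ?_
  obtain ⟨-, -, ⟨φ⟩, -⟩ := M22U.Facts.cover_at Top22.group22 Top22.prim22 Top22.type22 hu
  have hcl : Subgroup.closure (nset Top22.D22 u0) = Subgroup.centralizer ({u0} : Set Fi22Cert.pres.Grp) :=
    M22U.Facts.closure_cent Top22.group22 Top22.prim22 Top22.type22 hu
  exact ⟨F4, inferInstance, inferInstance, F4.card, ⟨(M23Rel.Shift.cq (MulEquiv.subgroupCongr hcl)).trans φ⟩⟩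

/-- coordinates at the image of the second member -/
noncomputable def C0 : Coord Top22.D22 u0 := Classical.choice exists_coord22

theorem exists_mem {i : ℕ} (hi : i < 693) : ∃ y : F23, ∃ hy : y ∈ Nt, img22 y hy = mb C0 i :=
  exists_pre (mb_mem C0 hi).1

/-- the member at a point -/
noncomputable def m (i : ℕ) : F23 := if h : i < 693 then (exists_mem h).choose else 1

theorem m_Nt {i : ℕ} (hi : i < 693) : m i ∈ Nt := by
  rw [m, dif_pos hi]; exact (exists_mem hi).choose_spec.choose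

theorem m_img {i : ℕ} (hi : i < 693) : img22 (m i) (m_Nt hi) = mb C0 i := by
  have h := (exists_mem hi).choose_spec.choose_spec
  have e : m i = (exists_mem hi).choose := by rw [m, dif_pos hi]
  simp only [e]
  exact h

theorem m_mem {i : ℕ} (hi : i < 693) : m i ∈ S2 := by
  obtain ⟨-, hne, hcm⟩ := mb_mem C0 hi
  refine ⟨m_Nt hi, (m_Nt hi).1, fun e => hne ?_, pre_comm e0_Nt (m_Nt hi) (by rw [m_img hi]; exact hcm)⟩
  rw [← m_img hi]
  simp only [e]

theorem m_surj {y : F23} (hy : y ∈ S2) : ∃ i < 693, m i = y := by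
  have hyn : img22 y hy.1 ∈ nset Top22.D22 u0 :=
    ⟨img22_mem hy.1, img22_ne hy.1 e0_Nt hy.2.2.1, img22_comm e0_Nt hy.1 hy.2.2.2⟩
  obtain ⟨i, hi, e⟩ := mb_surj C0 hyn
  exact ⟨i, hi, toFi22_inj (m_Nt hi) hy.1 ((m_img hi).trans e)⟩

theorem m_inj {i j : ℕ} (hi : i < 693) (hj : j < 693) (h : m i = m j) : i = j := by
  refine mb_inj C0 hi hj ?_
  rw [← m_img hi, ← m_img hj]
  simp only [h]

theorem m_comm {i j : ℕ} (hi : i < 693) (hj : j < 693) : Commute (m i) (m j) ↔ orth i j = true := by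
  rw [← mb_comm C0 hi hj, ← m_img hi, ← m_img hj]
  exact ⟨img22_comm (m_Nt hi) (m_Nt hj), pre_comm (m_Nt hi) (m_Nt hj)⟩

theorem m_sq {i : ℕ} (hi : i < 693) : m i * m i = 1 := (M23Rel.pre_of_group group23).sq _ (m_Nt hi).1

theorem m_conj {i j : ℕ} (hi : i < 693) (hj : j < 693) : m i * m j * (m i)⁻¹ = m (tm i j) := by
  have hij := tm_lt hi hj
  have hc := Nt_conj (m_Nt hi).2.2.symm (m_Nt hj)
  refine toFi22_inj hc (m_Nt hij) ?_
  show img22 _ hc = img22 _ (m_Nt hij)
  have e : img22 _ hc = mb C0 i * mb C0 j * (mb C0 i)⁻¹ := by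
    rw [← m_img hi, ← m_img hj]
    show toFi22 (⟨m i, Nt_le (m_Nt hi)⟩ * ⟨m j, Nt_le (m_Nt hj)⟩ * (⟨m i, Nt_le (m_Nt hi)⟩)⁻¹) = _
    rw [map_mul, map_mul, map_inv]
    rfl
  rw [e, m_img hij]
  obtain ⟨hbD, hbne, hbc⟩ := mb_mem C0 hj
  obtain ⟨-, -, hac⟩ := mb_mem C0 hi
  have hm : mb C0 i * mb C0 j * (mb C0 i)⁻¹ ∈ nset Top22.D22 u0 := by
    refine ⟨Top22.group22.2.1 _ _ hbD, fun h => hbne ?_, (hac.mul_right hbc).mul_right hac.inv_right⟩
    rw [mul_inv_eq_iff_eq_mul, hac.eq] at h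
    exact mul_left_cancel h
  have h := C0.conj ⟨mb C0 i, mb_mem C0 hi⟩ ⟨mb C0 j, mb_mem C0 hj⟩ ⟨_, hm⟩ rfl
  rw [e_mb C0 hi, e_mb C0 hj, tm_timg hi hj] at h
  rw [← h]
  exact (mb_e C0 ⟨_, hm⟩).symm

/-- the element of a word -/
noncomputable def wordF (w : List ℕ) : F23 := (w.map fun j => m (gpt j)).prod

theorem wordF_W {w : List ℕ} (hw : below 8 w = true) : wordF w ∈ W :=
  list_prod_mem fun y hy => by
    obtain ⟨j, hj, rfl⟩ := List.mem_map.mp hy
    exact S2_W (m_mem (gpt_lt (below_iff.mp hw j hj)))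

theorem wordF_conj : ∀ {w : List ℕ}, below 8 w = true → ∀ {i : ℕ}, i < 693 →
    wordF w * m i * (wordF w)⁻¹ = m (pev w i)
  | [], _, i, _ => by simp [wordF, pev]
  | j :: w, hw, i, hi => by
    have hj : j < 8 := below_iff.mp hw j (by simp)
    have hw' : below 8 w = true := below_iff.mpr fun z hz => below_iff.mp hw z (by simp [hz])
    have hl := pev_lt hw' hi
    have e : pim j (pev w i) = tm (gpt j) (pev w i) := by
      rw [← M22U.Sym.gen_timg hj hl, tm_timg (gpt_lt hj) hl]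
    show wordF (j :: w) * m i * (wordF (j :: w))⁻¹ = m (pim j (pev w i))
    rw [e, ← m_conj (gpt_lt hj) hl, ← wordF_conj hw' hi, show wordF (j :: w) = m (gpt j) * wordF w by simp [wordF]]
    group

/-! ### separation -/

theorem sep_ok : ((List.range 693).all fun x => Nat.beq x (gpt 0) ||
    (List.range 693).any fun k => !(orth x k == orth (gpt 0) k)) = true := by decide +kernel

theorem orth_sep {x y : ℕ} (hx : x < 693) (hy : y < 693) (h : x ≠ y) : ∃ k < 693, orth x k ≠ orth y k := by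
  obtain ⟨w, hw, e⟩ := M22U.Pts.from_first hy
  have hr := below_rev hw
  have hx' := pev_lt hr hx
  have hne : pev w.reverse x ≠ gpt 0 := fun e' => h (by rw [← e, ← e', pev_rev' hw hx])
  have := List.all_eq_true.mp sep_ok _ (List.mem_range.mpr hx')
  rw [Bool.or_eq_true, List.any_eq_true] at this
  rcases this with h1 | ⟨k, hk, h1⟩
  · exact absurd (Nat.eq_of_beq_eq_true h1) hne
  rw [List.mem_range] at hk
  refine ⟨pev w k, pev_lt hw hk, fun h2 => ?_⟩
  rw [Bool.not_eq_true', beq_eq_false_iff_ne] at h1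
  apply h1
  rw [← orth_pev hw hx' hk, pev_rev' hw hx, h2, ← e, orth_pev hw (gpt_lt (by norm_num)) hk]

/-! ### the centre and generation -/

theorem W_perfect : Group.IsPerfect ↥W := by
  haveI := order.1
  exact M23Rel.PairCent.perfect setting23 e0_Nt

/-- one of the four central elements -/
def InV (z : F23) : Prop := z = 1 ∨ z = tA ∨ z = e0 ∨ z = tA * e0

theorem InV.mem {z : F23} (h : InV z) : z ∈ W := by
  have h1 : tA ∈ W := mem_W.mpr ⟨Commute.refl _, te_comm⟩
  have h2 : e0 ∈ W := mem_W.mpr ⟨te_comm.symm, Commute.refl _⟩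
  rcases h with rfl | rfl | rfl | rfl
  exacts [one_mem _, h1, h2, mul_mem h1 h2]

theorem InV.comm {z x : F23} (h : InV z) (hx : x ∈ W) : Commute z x := by
  obtain ⟨h1, h2⟩ := mem_W.mp hx
  rcases h with rfl | rfl | rfl | rfl
  exacts [Commute.one_left _, h1.symm, h2.symm, h1.symm.mul_left h2.symm]

theorem InV.mul {a b : F23} (ha : InV a) (hb : InV b) : InV (a * b) := by
  have h1 := tA_sq
  have h2 := e0_sq
  have h3 : e0 * tA = tA * e0 := te_comm.symm.eq
  have h4 : tA * (tA * e0) = e0 := by rw [← mul_assoc, h1, one_mul]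
  have h5 : e0 * (tA * e0) = tA := by rw [← mul_assoc, h3, mul_assoc, h2, mul_one]
  have h6 : tA * e0 * tA = e0 := by rw [mul_assoc, h3, h4]
  have h7 : tA * e0 * e0 = tA := by rw [mul_assoc, h2, mul_one]
  have h8 : tA * e0 * (tA * e0) = 1 := by rw [← mul_assoc, h6, h2]
  rcases ha with rfl | rfl | rfl | rfl <;> rcases hb with rfl | rfl | rfl | rfl <;>
    simp only [InV, one_mul, mul_one, h1, h2, h3, h4, h5, h6, h7, h8, true_or, or_true]

theorem InV.inv {a : F23} (ha : InV a) : InV a⁻¹ := by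
  have h1 : tA⁻¹ = tA := inv_eq_of_mul_eq_one_right tA_sq
  have h2 : e0⁻¹ = e0 := inv_eq_of_mul_eq_one_right e0_sq
  rcases ha with rfl | rfl | rfl | rfl <;>
    simp only [InV, inv_one, h1, h2, mul_inv_rev, te_comm.symm.eq, true_or, or_true]

theorem center_W (z : ↥W) : z ∈ Subgroup.center ↥W ↔ InV (z : F23) := by
  haveI := order.1
  refine ⟨fun hz => ?_, fun h => Subgroup.mem_center_iff.mpr fun x => Subtype.ext (h.comm x.2).symm.eq⟩
  have h : (z : F23) ∈ (Subgroup.center ↥W).map W.subtype := Subgroup.mem_map_of_mem _ hz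
  rw [M23Rel.PairCent.center_map setting23 e0_Nt] at h
  generalize (z : F23) = v at h
  induction h using Subgroup.closure_induction with
  | mem u hu => rcases hu with rfl | rfl; exacts [Or.inr (Or.inl rfl), Or.inr (Or.inr (Or.inl rfl))]
  | one => exact Or.inl rfl
  | mul a b _ _ ha hb => exact ha.mul hb
  | inv a _ ha => exact ha.inv

theorem closure_S2 : Subgroup.closure S2 = W := by
  haveI := order.1
  haveI := Fi22Cert.order.1
  refine le_antisymm ((Subgroup.closure_le _).mpr fun y hy => S2_W hy) ?_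
  set L := Subgroup.closure S2 with hL
  have hLW : L ≤ W := (Subgroup.closure_le _).mpr fun y hy => S2_W hy
  have hcl : Subgroup.closure (nset Top22.D22 u0) = Subgroup.centralizer ({u0} : Set Fi22Cert.pres.Grp) :=
    M22U.Facts.closure_cent Top22.group22 Top22.prim22 Top22.type22 (img22_mem e0_Nt)
  have hcases : ∀ x ∈ W, x ∈ L ∨ tA * x ∈ L := by
    intro x hx
    have hc : toFi22 ⟨x, W_K hx⟩ ∈ Subgroup.centralizer ({u0} : Set Fi22Cert.pres.Grp) :=
      Subgroup.mem_centralizer_singleton_iff.mpr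
        ((show Commute (⟨x, W_K hx⟩ : ↥Ksub) ⟨e0, Nt_le e0_Nt⟩ from Subtype.ext (mem_W.mp hx).2.eq).map toFi22).eq
    rw [← hcl] at hc
    have hle : Subgroup.closure (nset Top22.D22 u0) ≤ (L.subgroupOf Ksub).map toFi22 := by
      rw [Subgroup.closure_le]
      intro u hu
      obtain ⟨i, hi, e⟩ := mb_surj C0 hu
      exact ⟨⟨m i, Nt_le (m_Nt hi)⟩, Subgroup.subset_closure (m_mem hi), (m_img hi).trans e⟩
    obtain ⟨p, hp, e⟩ := hle hc
    rcases same_image e.symm with h | h <;> simp only at h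
    · exact Or.inl (h ▸ hp)
    · refine Or.inr ?_
      rw [h, ← mul_assoc, tA_sq, one_mul]
      exact hp
  have hperf : ⁅W, W⁆ = W := by
    have h := Subgroup.map_commutator (⊤ : Subgroup ↥W) ⊤ W.subtype
    rw [← commutator_def, W_perfect.commutator_eq_top, ← MonoidHom.range_eq_map, Subgroup.range_subtype] at h
    exact h.symm
  rw [← hperf, Subgroup.commutator_le]
  intro a ha b hb
  have ht : ∀ y ∈ W, Commute tA y := fun y hy => (mem_W.mp hy).1.symm
  have hshift : ∀ a b : F23, a ∈ W → b ∈ W → ⁅a, b⁆ = ⁅tA * a, b⁆ ∧ ⁅a, b⁆ = ⁅a, tA * b⁆ := by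
    intro a b ha hb
    have hti : tA⁻¹ = tA := inv_eq_of_mul_eq_one_right tA_sq
    constructor
    · have e : tA * (a * b * a⁻¹) = a * b * a⁻¹ * tA :=
        (ht _ (mul_mem (mul_mem ha hb) (inv_mem ha))).eq
      symm
      calc ⁅tA * a, b⁆ = tA * (a * b * a⁻¹) * (tA⁻¹ * b⁻¹) := by rw [commutatorElement_def]; group
        _ = a * b * a⁻¹ * (tA * tA⁻¹) * b⁻¹ := by rw [e]; group
        _ = ⁅a, b⁆ := by rw [commutatorElement_def]; group
    · have e : a * tA = tA * a := (ht a ha).eq.symm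
      symm
      calc ⁅a, tA * b⁆ = a * tA * (b * a⁻¹ * b⁻¹) * tA⁻¹ := by rw [commutatorElement_def]; group
        _ = tA * (a * b * a⁻¹ * b⁻¹) * tA⁻¹ := by rw [e]; group
        _ = ⁅a, b⁆ := by
          rw [(ht _ (mul_mem (mul_mem (mul_mem ha hb) (inv_mem ha)) (inv_mem hb))).eq, mul_assoc, mul_inv_cancel,
            mul_one, commutatorElement_def]
  have key : ∀ a ∈ L, ∀ b ∈ L, ⁅a, b⁆ ∈ L := fun a ha b hb => by
    rw [commutatorElement_def]
    exact mul_mem (mul_mem (mul_mem ha hb) (inv_mem ha)) (inv_mem hb)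
  have htW : tA ∈ W := InV.mem (Or.inr (Or.inl rfl))
  rcases hcases a ha with h | h <;> rcases hcases b hb with h' | h'
  · exact key _ h _ h'
  · rw [(hshift a b ha hb).2]; exact key _ h _ h'
  · rw [(hshift a b ha hb).1]; exact key _ h _ h'
  · rw [(hshift a b ha hb).1, (hshift (tA * a) b (mul_mem htW ha) hb).2]; exact key _ h _ h'

end Cfsg.Agent.Spor.CentFi22
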