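import Cfsg.Agent.Lib.Spor.CentU62.Main
import Cfsg.Agent.Lib.Spor.Fi22Three
import Cfsg.Agent.Lib.Spor.Fi22SixLift
import Cfsg.Agent.Lib.Spor.M22UFischer
import Cfsg.Agent.Lib.Spor.M22UClasses
import Cfsg.Agent.Lib.Spor.M23RelConn

/-!
The presented group Fi22 with its transpositions is of type M(22).
-/

set_option autoImplicit false
set_option maxRecDepth 100000
set_option linter.unusedSectionVars false

namespace Cfsg.Agent.Spor.CentFi22.Top22

open Cfsg.Agent.Spor.CC
open Cfsg.Agent.Spor.Fi22Cert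
open Cfsg.Agent.Spor.Fi22Cert.U62Act

/-- the transpositions of Fi22 -/
abbrev D22 : Set pres.Grp := conjugatesOf tA

theorem gen_two : Commute (pres.gen 2) tA ∧ pres.gen 2 ≠ tA := by
  refine ⟨?_, fun h => ?_⟩
  · have h := Pres.cox_one pres_ok (i := 2) (j := 0) (by decide) (by decide)
    rw [show Cfsg.Spor.coxLabel pres.edges (pres.nm 2) (pres.nm 0) = 2 by decide +kernel, pow_two] at h
    have e := eq_inv_of_mul_eq_one_left h
    rw [mul_inv_rev, inv_eq_of_mul_eq_one_left (Pres.gen_sq pres_ok 2),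
      inv_eq_of_mul_eq_one_left (Pres.gen_sq pres_ok 0)] at e
    exact e
  · obtain ⟨u, hu, hne⟩ : ∃ u, u < 3510 ∧ ev RepU62.rows 9 [2] u ≠ ev RepU62.rows 9 [0] u := chk
    apply hne
    have h1 := congrArg (fun p => ((rep.hom p ⟨u, hu⟩ : Fin rep.P.n) : ℕ))
      (show (([2] : List ℕ).map pres.gen).prod = (([0] : List ℕ).map pres.gen).prod by simpa using h)
    rw [ev_eq rep.valid pres.gen rep.hom rep.hom_gen (by decide),
      ev_eq rep.valid pres.gen rep.hom rep.hom_gen (by decide)] at h1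
    exact h1
where
  chk : ∃ u, u < 3510 ∧ ev RepU62.rows 9 [2] u ≠ ev RepU62.rows 9 [0] u :=
    have h : ∃ u, u < 60 ∧ ev RepU62.rows 9 [2] u ≠ ev RepU62.rows 9 [0] u := by decide +kernel
    h.imp fun _ h => ⟨by omega, h.2⟩

theorem type22 : Cfsg.IsOfTypeM22 pres.Grp D22 := by
  haveI := order.1
  have hperf : ⁅(⊤ : Subgroup (TSU.CD tA)), (⊤ : Subgroup (TSU.CD tA))⁆ = ⊤ := by
    have f : ↥Hsub ≃* TSU.CD tA := MulEquiv.subgroupCongr centralizer_eq.symm
    have h := congrArg (Subgroup.map f.toMonoidHom) SixLift.hsub_perfect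
    rw [commutator_def, Subgroup.map_commutator, Subgroup.map_top_of_surjective _ f.surjective] at h
    exact h
  obtain ⟨hz2, ⟨φ⟩, -⟩ := centralizer_cover tA (IsConj.refl tA)
  have hle : (Subgroup.zpowers tA).subgroupOf (Subgroup.centralizer ({tA} : Set pres.Grp)) ≤
      Subgroup.center ↥(Subgroup.centralizer ({tA} : Set pres.Grp)) := fun z hz => by
    rw [Subgroup.mem_center_iff]
    intro g
    obtain ⟨n, hn⟩ := Subgroup.mem_zpowers_iff.mp (Subgroup.mem_subgroupOf.mp hz)
    have hg : Commute (g : pres.Grp) tA := Subgroup.mem_centralizer_singleton_iff.mp g.2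
    exact Subtype.ext (show (g : pres.Grp) * z = z * g by rw [← hn]; exact (hg.zpow_right n).eq)
  haveI hzn : ((Subgroup.zpowers tA).subgroupOf (Subgroup.centralizer ({tA} : Set pres.Grp))).Normal :=
    ⟨fun z hz g => by rwa [Subgroup.mem_center_iff.mp (hle hz) g, mul_inv_cancel_right]⟩
  have hcen : (Subgroup.zpowers tA).subgroupOf (Subgroup.centralizer ({tA} : Set pres.Grp)) =
      Subgroup.center ↥(Subgroup.centralizer ({tA} : Set pres.Grp)) := by
    refine Subgroup.eq_of_le_of_card_ge hle ?_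
    rw [hz2, Nat.card_congr (Subgroup.subgroupOfEquivOfLe (Subgroup.zpowers_le.mpr
        (Subgroup.mem_centralizer_singleton_iff.mpr rfl))).toEquiv, Nat.card_zpowers, orderOf_tA]
  refine (CentU62.main tA orderOf_tA hperf SpFour.F4 SpFour.F4.card
    ((QuotientGroup.quotientMulEquivOfEq hcen).trans φ) ?_).2.1
  obtain ⟨g, hg⟩ := isConj_iff.mp (Outer.gen_mem_class (x := 2) (by norm_num))
  exact ⟨g, hg ▸ Subgroup.mem_centralizer_singleton_iff.mpr gen_two.1.eq, hg ▸ gen_two.2⟩

theorem group22 : Cfsg.IsThreeTranspositionGroup D22 := Spor.class_isGroup class_transp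

theorem prim22 : Cfsg.IsPrimitiveUnderConj D22 := M23Rel.Conn.primitive22 group22 type22

/-- the class of transpositions of Fi22 is unique -/
theorem unique22 {D' : Set pres.Grp} (hD' : Cfsg.IsThreeTranspositionClass D') : D' = D22 :=
  M22U.Classes.class_unique group22 prim22 type22 hD'

end Cfsg.Agent.Spor.CentFi22.Top22
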