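import Cfsg.Agent.Lib.Spor.CentFi22.Model
import Cfsg.Agent.Lib.Spor.M22UTransit

/-!
The centraliser of a transposition of Fi23 moves commuting tuples of neighbours to one another.
-/

set_option autoImplicit false
set_option maxRecDepth 100000
set_option linter.unusedSectionVars false

namespace Cfsg.Agent.Spor.CentFi22

open Cfsg.Agent.Spor.Fi23Cert
open Cfsg.Agent.Spor.Fi23Cert.Below

/-- the image of a member -/
noncomputable def img22 (y : F23) (hy : y ∈ Nt) : Fi22Cert.pres.Grp := toFi22 ⟨y, Nt_le hy⟩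

theorem img22_mem {y : F23} (hy : y ∈ Nt) : img22 y hy ∈ Top22.D22 := NtI_eq ▸ ⟨_, hy, rfl⟩

theorem img22_ne {y z : F23} (hy : y ∈ Nt) (hz : z ∈ Nt) (h : y ≠ z) : img22 y hy ≠ img22 z hz :=
  fun e => h (toFi22_inj hy hz e)

theorem img22_comm {y z : F23} (hy : y ∈ Nt) (hz : z ∈ Nt) (h : Commute y z) :
    Commute (img22 y hy) (img22 z hz) :=
  (show Commute (⟨y, Nt_le hy⟩ : ↥Ksub) ⟨z, Nt_le hz⟩ from Subtype.ext h.eq).map toFi22

theorem img22_conj {y z : F23} (hy : y ∈ Nt) (hz : z ∈ Nt) (k : ↥Ksub)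
    (h : toFi22 k * img22 y hy * (toFi22 k)⁻¹ = img22 z hz) : (k : F23) * y * (k : F23)⁻¹ = z := by
  have hk := mem_K.mp k.2
  refine toFi22_inj (Nt_conj hk hy) hz ?_
  show toFi22 (k * ⟨y, Nt_le hy⟩ * k⁻¹) = _
  rw [map_mul, map_mul, map_inv]
  exact h

theorem move1 {a a' : F23} (ha : a ∈ Nt) (ha' : a' ∈ Nt) :
    ∃ k : ↥Ksub, (k : F23) * a * (k : F23)⁻¹ = a' := by
  obtain ⟨g, hg⟩ := Top22.prim22.1 _ (img22_mem ha) _ (img22_mem ha')
  obtain ⟨k, rfl⟩ := toFi22_surjective g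
  exact ⟨k, img22_conj ha ha' k hg⟩

theorem move2 {a b a' b' : F23} (ha : a ∈ Nt) (hb : b ∈ Nt) (hab : a ≠ b) (cab : Commute a b)
    (ha' : a' ∈ Nt) (hb' : b' ∈ Nt) (hab' : a' ≠ b') (cab' : Commute a' b') :
    ∃ k : ↥Ksub, (k : F23) * a * (k : F23)⁻¹ = a' ∧ (k : F23) * b * (k : F23)⁻¹ = b' := by
  haveI := Fi22Cert.order.1
  obtain ⟨g, g1, g2⟩ := M22U.Transit.conj2 Top22.group22 Top22.prim22 Top22.type22 (img22_mem ha) (img22_mem hb)
    (img22_ne ha hb hab) (img22_comm ha hb cab) (img22_mem ha') (img22_mem hb') (img22_ne ha' hb' hab')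
    (img22_comm ha' hb' cab')
  obtain ⟨k, rfl⟩ := toFi22_surjective g
  exact ⟨k, img22_conj ha ha' k g1, img22_conj hb hb' k g2⟩

theorem move3 {a b c a' b' c' : F23} (ha : a ∈ Nt) (hb : b ∈ Nt) (hc : c ∈ Nt) (hab : a ≠ b) (hac : a ≠ c)
    (hbc : b ≠ c) (cab : Commute a b) (cac : Commute a c) (cbc : Commute b c)
    (ha' : a' ∈ Nt) (hb' : b' ∈ Nt) (hc' : c' ∈ Nt) (hab' : a' ≠ b') (hac' : a' ≠ c')
    (hbc' : b' ≠ c') (cab' : Commute a' b') (cac' : Commute a' c') (cbc' : Commute b' c') :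
    ∃ k : ↥Ksub, (k : F23) * a * (k : F23)⁻¹ = a' ∧ (k : F23) * b * (k : F23)⁻¹ = b' ∧
      (k : F23) * c * (k : F23)⁻¹ = c' := by
  haveI := Fi22Cert.order.1
  obtain ⟨g, g1, g2, g3⟩ := M22U.Transit.conj3 Top22.group22 Top22.prim22 Top22.type22 (img22_mem ha)
    (img22_mem hb) (img22_mem hc) (img22_ne ha hb hab) (img22_ne ha hc hac) (img22_ne hb hc hbc)
    (img22_comm ha hb cab) (img22_comm ha hc cac) (img22_comm hb hc cbc) (img22_mem ha') (img22_mem hb')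
    (img22_mem hc') (img22_ne ha' hb' hab') (img22_ne ha' hc' hac') (img22_ne hb' hc' hbc')
    (img22_comm ha' hb' cab') (img22_comm ha' hc' cac') (img22_comm hb' hc' cbc')
  obtain ⟨k, rfl⟩ := toFi22_surjective g
  exact ⟨k, img22_conj ha ha' k g1, img22_conj hb hb' k g2, img22_conj hc hc' k g3⟩

end Cfsg.Agent.Spor.CentFi22
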